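import Cfsg.Agent.Lib.Lie.MultExc.OMinusEightThree.P3
import Cfsg.Agent.Lib.Lie.MultExc.OSevenThree.Main
import Cfsg.Agent.Lib.Lie.Mult.Orth.Main
import Cfsg.Agent.Lib.Classical.QuadOrder

/-!
A stem extension of the orthogonal group of minus type in dimension eight over three elements has a kernel
of order at most two.
-/

set_option autoImplicit false
set_option linter.all false
set_option maxRecDepth 100000

namespace CfsgLib.Lie.MultExc.OMinusEightThree

open scoped Matrix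
open Matrix Cfsg.Geo CfsgLib.Spor.SchurCert CfsgLib.Lie.MultExc.MatCert CfsgLib.Orth CfsgLib.Perm.Asch
  CfsgLib.Perm.Trans CfsgLib.Perm.Trans.Quad CfsgLib.Lie.Mult.Orth
open MulAction (stabilizer)

universe u

local notation "W8" => (Fin 3 ⊕ Fin 3) ⊕ Fin 2

/-- the coordinates -/
def coords : W8 ≃ Fin 8 :=
  (Equiv.sumCongr finSumFinEquiv (Equiv.refl _)).trans finSumFinEquiv

variable {F : Type u} [Field F] [Fintype F]

omit [Fintype F] in
/-- the vectors orthogonal to the last coordinate -/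
def perpMap (F : Type u) [Field F] : (Unit ⊕ (Fin 3 ⊕ Fin 3) → F) →ₗ[F] (W8 → F) where
  toFun v := Sum.elim (fun j => v (Sum.inr j)) ![v (Sum.inl ()), 0]
  map_add' v w := by
    funext i
    rcases i with j | j
    · rfl
    · fin_cases j <;> simp
  map_smul' r v := by
    funext i
    rcases i with j | j
    · rfl
    · fin_cases j <;> simp

theorem not_dvd_three (hF : Fintype.card F = 3) {Γ : Type u} [Group Γ] [Finite Γ]
    (τ : Γ →* ↥(Cfsg.Omega F (Cfsg.quadFormMinus 3 F 0 1))) (hτ : Cfsg.IsStemExtension τ)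
    (hab : ∀ z₁ z₂ : F, z₁ ^ 2 + 0 * z₁ * z₂ + 1 * z₂ ^ 2 = 0 → z₁ = 0 ∧ z₂ = 0) :
    ¬ 3 ∣ Nat.card τ.ker := by
  classical
  haveI := Fact.mk Nat.prime_three
  haveI : CharP F 3 := charP_of_card_eq_prime hF
  have h2 : (2 : F) ≠ 0 := CfsgLib.Orth.two_ne_zero_of_odd (by rw [hF]; decide)
  have hQ := quadFormMinus_nd (F := F) (m := 3) 0 1 hab
  have hn : 2 ≤ Fintype.card W8 := by simp
  have hex : Fintype.card F ≠ 2 ∨ Fintype.card W8 ≠ 4 := Or.inr (by simp)
  have hQc : ∀ x, Cfsg.quadFormMinus 3 F 0 1 (MatCert.vec F 3 8 x ∘ coords) = (qc x : F) := by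
    intro x
    have hr : List.range 3 = [0, 1, 2] := rfl
    rw [qc, ← CharP.cast_eq_mod F 3, hr]
    simp only [List.foldr, Cfsg.quadFormMinus, Fin.sum_univ_three, Function.comp_apply, MatCert.vec, Nat.cast_add,
      Nat.cast_mul, Nat.cast_zero]
    simp [coords, finSumFinEquiv, Fin.natAdd, Fin.castAdd, Fin.castLE]
    ring
  have hcard : Nat.card (Cfsg.Omega F (Cfsg.quadFormMinus 3 F 0 1)) = 10151968619520 := by
    have h := (Cfsg.Omega F (Cfsg.quadFormMinus 3 F 0 1)).card_mul_index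
    rw [omega_index_odd hQ hn h2, CfsgLib.Classical.card_iso_minus hab 3, hF] at h
    norm_num [Finset.prod_range_succ] at h ⊢
    omega
  have hfac : (10151968619520 : ℕ).factorization 3 = 12 := by
    rw [show (10151968619520 : ℕ) = 3 ^ 12 * 19102720 by norm_num,
      Nat.factorization_mul (by norm_num) (by norm_num), Finsupp.add_apply,
      Nat.Prime.factorization_pow Nat.prime_three, Finsupp.single_eq_same,
      Nat.factorization_eq_zero_of_not_dvd (by norm_num : ¬ 3 ∣ 19102720), add_zero]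
  have hmem : HasElts (p := 3) (rhoHom coords (Cfsg.quadFormMinus 3 F 0 1)) mats :=
    hasElts_of_entries hQ (by norm_num) coords qc hQc hn hex entries entries_ok
  intro hd
  obtain ⟨z, hz⟩ := exists_prime_orderOf_dvd_card' (G := τ.ker) 3 hd
  have hP : IsPGroup 3 (Subgroup.zpowers (z : Γ)) :=
    IsPGroup.of_card (n := 1) (by rw [Nat.card_zpowers, Subgroup.orderOf_coe, hz, pow_one])
  have := part_leU (rhoHom_injective (F := F) (Q := Cfsg.quadFormMinus 3 F 0 1) coords) (by norm_num) hmem hτ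
    P3.cert Nat.prime_three (e := 1) rfl (show (1 : ℕ) < 3 by norm_num)
    (by rw [hcard]; exact hfac) P3.checks P3.lin_ok (Subgroup.zpowers (z : Γ))
    (by rw [Subgroup.zpowers_le]; exact z.2) hP
  rw [Nat.card_zpowers, Subgroup.orderOf_coe, hz] at this
  have h31 : (3 : ℕ) ≤ 1 := this
  omega

theorem bound_canonical (hF : Fintype.card F = 3)
    (hab : ∀ z₁ z₂ : F, z₁ ^ 2 + 0 * z₁ * z₂ + 1 * z₂ ^ 2 = 0 → z₁ = 0 ∧ z₂ = 0) :
    SBound ↥(Cfsg.Omega F (Cfsg.quadFormMinus 3 F 0 1)) 2 := by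
  classical
  intro Γ _ _ τ hτ
  have h3 := not_dvd_three hF τ hτ hab
  have h2 : (2 : F) ≠ 0 := CfsgLib.Orth.two_ne_zero_of_odd (by rw [hF]; decide)
  obtain ⟨Q, hQdef⟩ : ∃ Q, Q = Cfsg.quadFormMinus 3 F (0 : F) 1 := ⟨_, rfl⟩
  have hQ : IsNondegenerateQuadraticForm Q := hQdef ▸ quadFormMinus_nd (F := F) (m := 3) 0 1 hab
  obtain ⟨a, ha⟩ : ∃ a : W8 → F, a = Pi.single (Sum.inr 1) 1 := ⟨_, rfl⟩
  have hQa : Q a = 1 := by rw [hQdef, ha]; simp [Cfsg.quadFormMinus]
  have he : Function.Injective (perpMap F) := fun v w h => by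
    funext i
    rcases i with u | j
    · exact congrFun h (Sum.inr 0)
    · exact congrFun h (Sum.inl j)
  have hpull : pullQ Q (perpMap F) = Cfsg.quadFormOdd 3 F := by
    funext v
    rw [hQdef]
    simp [pullQ, perpMap, Cfsg.quadFormMinus, Cfsg.quadFormOdd, Fin.sum_univ_three]
    ring
  have ha0 : a ≠ 0 := fun h => one_ne_zero (α := F) (by rw [← hQa, h, qzero hQ])
  have hr : LinearMap.range (perpMap F) = qperp hQ (Submodule.span F {a}) := by
    refine Submodule.eq_of_le_of_finrank_le ?_ ?_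
    · rintro _ ⟨x, rfl⟩
      rw [mem_qperp_span]
      rintro w (rfl : w = a)
      rw [hQdef, QuadraticMap.polar, ha]
      simp [perpMap, Cfsg.quadFormMinus, Fin.sum_univ_three]
    · have := card_perp (hQ := hQ) ha0
      rw [LinearMap.finrank_range_of_inj he, Module.finrank_fintype_fun_eq_card]
      simp at this ⊢
      omega
  have H : Range Q (1 : F) := ⟨hQ, one_ne_zero, Or.inl ⟨h2, Or.inl (by simp)⟩⟩
  subst hQdef
  have hnd : NdOn (Cfsg.quadFormMinus 3 F 0 1) (Submodule.span F {a}) := by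
    intro v hv hv0
    obtain ⟨r, rfl⟩ := Submodule.mem_span_singleton.1 hv
    have h' : QuadraticMap.polar (Cfsg.quadFormMinus 3 F 0 1) (r • a) a ≠ 0 := by
      rw [psmul_left hQ, pself hQ, hQa, mul_one]
      exact mul_ne_zero (fun h => hv0 (by rw [h, zero_smul])) h2
    exact ⟨⟨a, Submodule.mem_span_singleton_self _, by rwa [pcomm]⟩, a, Submodule.mem_span_singleton_self _, h'⟩
  have hre : NdOn (Cfsg.quadFormMinus 3 F 0 1) (LinearMap.range (perpMap F)) := by
    rw [hr]; exact qperp_nd hQ hnd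
  obtain ⟨φ, -⟩ := exists_omega_equiv hQ (perpMap F) he hre (by simp) H.hn H.hex (Or.inr (by simp))
  have heq : stabilizer (Cfsg.Omega F (Cfsg.quadFormMinus 3 F 0 1)) (⟨a, hQa⟩ : Sph (Cfsg.quadFormMinus 3 F 0 1) 1) =
      fixer (Cfsg.quadFormMinus 3 F 0 1) (qperp hQ (LinearMap.range (perpMap F)) : Set (W8 → F)) := by
    rw [stab_eq, hr, qperp_qperp hQ hnd, fixer_span]
  obtain ⟨Δ, σ, hσ, hc⟩ := CfsgLib.Lie.Mult.StabStep.exists_stab_ext (geo H ⟨a, hQa⟩) hτ
    ((MulEquiv.subgroupCongr heq).trans φ)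
  -- the stabiliser
  have hQo := quadFormOdd_nd (F := F) (m := 3) h2
  have hno : ¬ ∃ g : ↥(Cfsg.isometryGroup F (Cfsg.quadFormOdd 3 F)), g ∈ Cfsg.Omega F (Cfsg.quadFormOdd 3 F) ∧
      ((g : GL (Unit ⊕ (Fin 3 ⊕ Fin 3)) F) : Matrix (Unit ⊕ (Fin 3 ⊕ Fin 3)) (Unit ⊕ (Fin 3 ⊕ Fin 3)) F) = -1 := by
    rintro ⟨g, hg, hgm⟩
    have hdet := (det_eq_one_iff hQo h2 g.2).2
      ((mem_omega_iff hQo (by simp) (hex_of_two h2) g).1 hg).2
    rw [hgm, Matrix.det_neg, Matrix.det_one, mul_one, Fintype.card_sum, Fintype.card_sum, Fintype.card_fin,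
      Fintype.card_unit, (show Odd (1 + (3 + 3)) from ⟨3, rfl⟩).neg_one_pow] at hdet
    exact h2 (by linear_combination -hdet)
  obtain ⟨e⟩ : Nonempty (↥(Cfsg.Omega F (Cfsg.quadFormOdd 3 F)) ≃* Cfsg.POmega F (Cfsg.quadFormOdd 3 F)) :=
    ⟨QuotientGroup.quotientBot.symm.trans (QuotientGroup.quotientMulEquivOfEq
      (Subgroup.card_eq_one.1 (card_center_omega_of_not hQo (by simp) hno)).symm)⟩
  have e' : ↥(Cfsg.Omega F (pullQ (Cfsg.quadFormMinus 3 F 0 1) (perpMap F))) ≃* Cfsg.POmega F (Cfsg.quadFormOdd 3 F) :=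
    (MulEquiv.cast (M := fun R : (Unit ⊕ (Fin 3 ⊕ Fin 3) → F) → F => ↥(Cfsg.Omega F R)) hpull).trans e
  have hk : (e'.toMonoidHom.comp σ).ker = σ.ker := MonoidHom.ker_comp_of_injective _ _ e'.injective
  obtain ⟨π, hπ⟩ := (OSevenThree.multiplier_O73 hF).2 Δ (e'.toMonoidHom.comp σ)
    ⟨e'.surjective.comp hσ.1, hk.le.trans hσ.2.1, hk.le.trans hσ.2.2⟩
  have h6 : Nat.card τ.ker ∣ 6 := by
    have h := Subgroup.card_dvd_of_surjective π hπ
    rw [hk, hc, Nat.card_congr Multiplicative.toAdd, Nat.card_zmod] at h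
    exact h
  have : Nat.card τ.ker ∣ 2 * 3 := h6
  exact Nat.le_of_dvd two_pos ((Nat.Coprime.dvd_of_dvd_mul_right
    ((Nat.Prime.coprime_iff_not_dvd Nat.prime_three).2 h3).symm this))

/-- every binary anisotropic part -/
theorem bound (hF : Fintype.card F = 3) {a b : F}
    (hab : ∀ z₁ z₂ : F, z₁ ^ 2 + a * z₁ * z₂ + b * z₂ ^ 2 = 0 → z₁ = 0 ∧ z₂ = 0) :
    SBound ↥(Cfsg.Omega F (Cfsg.quadFormMinus 3 F a b)) 2 := by
  classical
  haveI := Fact.mk Nat.prime_three
  haveI : CharP F 3 := charP_of_card_eq_prime hF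
  have h3 : (3 : F) = 0 := by exact_mod_cast CharP.cast_eq_zero F 3
  have h2 : (2 : F) ≠ 0 := CfsgLib.Orth.two_ne_zero_of_odd (by rw [hF]; decide)
  have hsq : ∀ x : F, x = 0 ∨ x ^ 2 = 1 := fun x => by
    by_cases hx : x = 0
    · exact Or.inl hx
    · exact Or.inr (by have := FiniteField.pow_card_sub_one_eq_one x hx; rwa [hF] at this)
  have hval : b - a ^ 2 = 1 := by
    have key : ∀ x : F, x = 0 ∨ x = 1 ∨ x = -1 := fun x => by
      rcases hsq x with h | h
      · exact Or.inl h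
      · exact Or.inr (sq_eq_one_iff.1 h)
    rcases key (b - a ^ 2) with h | h | h
    · exact absurd (hab a 1 (by linear_combination h + a ^ 2 * h3)).2 one_ne_zero
    · exact h
    · exact absurd (hab (a + 1) 1 (by linear_combination h + (a ^ 2 + a) * h3)).2 one_ne_zero
  have hid : ∀ z w : F, (z + a * w) ^ 2 + a * (z + a * w) * w + b * w ^ 2 = z ^ 2 + 0 * z * w + 1 * w ^ 2 :=
    fun z w => by linear_combination w ^ 2 * hval + (a * z * w + a ^ 2 * w ^ 2) * h3
  have hab' : ∀ z₁ z₂ : F, z₁ ^ 2 + 0 * z₁ * z₂ + 1 * z₂ ^ 2 = 0 → z₁ = 0 ∧ z₂ = 0 := fun z₁ z₂ h => by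
    obtain ⟨h1, h2'⟩ := hab (z₁ + a * z₂) z₂ ((hid z₁ z₂).trans h)
    exact ⟨by rw [h2', mul_zero, add_zero] at h1; exact h1, h2'⟩
  let e : (W8 → F) →ₗ[F] (W8 → F) :=
    { toFun := fun v => Sum.elim (fun j => v (Sum.inl j)) ![v (Sum.inr 0) + a * v (Sum.inr 1), v (Sum.inr 1)]
      map_add' := fun v w => by
        funext i
        rcases i with j | j
        · rfl
        · fin_cases j <;> simp <;> ring
      map_smul' := fun r v => by
        funext i
        rcases i with j | j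
        · rfl
        · fin_cases j <;> simp <;> ring }
  have he : Function.Injective e := fun v w h => by
    funext i
    rcases i with j | j
    · exact congrFun h (Sum.inl j)
    · have e0 : v (Sum.inr 0) + a * v (Sum.inr 1) = w (Sum.inr 0) + a * w (Sum.inr 1) := congrFun h (Sum.inr 0)
      have e1 : v (Sum.inr 1) = w (Sum.inr 1) := congrFun h (Sum.inr 1)
      fin_cases j
      · rw [e1] at e0; simpa using add_right_cancel e0
      · simpa using e1
  have hpull : pullQ (Cfsg.quadFormMinus 3 F a b) e = Cfsg.quadFormMinus 3 F 0 1 := by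
    funext v
    have := hid (v (Sum.inr 0)) (v (Sum.inr 1))
    simp [pullQ, e, Cfsg.quadFormMinus] at this ⊢
    linear_combination this
  have hQ := quadFormMinus_nd (F := F) (m := 3) a b hab
  have hr : LinearMap.range e = ⊤ := LinearMap.range_eq_top.2 (Finite.injective_iff_surjective.1 he)
  have hnd : NdOn (Cfsg.quadFormMinus 3 F a b) (LinearMap.range e) := hr ▸ ndOn_top hQ
  obtain ⟨φ, -⟩ := exists_omega_equiv hQ e he hnd (by simp) (by simp) (Or.inr (by simp)) (Or.inr (by simp))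
  have htop : fixer (Cfsg.quadFormMinus 3 F a b) (qperp hQ (LinearMap.range e) : Set (W8 → F)) = ⊤ := by
    refine eq_top_iff.2 fun g _ => ?_
    rw [mem_fixer]
    intro x hx
    have hx0 : x = 0 := by
      by_contra hne
      obtain ⟨y, hy⟩ := (hQ.nondegenerate x hne).2
      exact hy (hx y (hr ▸ Submodule.mem_top))
    rw [hx0, Matrix.mulVec_zero]
  have hb := bound_canonical hF hab'
  rw [← hpull] at hb
  exact hb.congr (φ.symm.trans ((MulEquiv.subgroupCongr htop).trans Subgroup.topEquiv))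

end CfsgLib.Lie.MultExc.OMinusEightThree
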