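import Cfsg.Agent.Lib.Lie.MultExc.OMinusEightThree.Table
import Cfsg.Agent.Lib.Spor.SchurCert.LinPacked

/-!
The certificate at the prime 3: a polycyclic sequence of a Sylow subgroup and conjugations.
-/

set_option autoImplicit false
set_option maxRecDepth 100000
set_option maxHeartbeats 0

namespace CfsgLib.Lie.MultExc.OMinusEightThree.P3

open CfsgLib.Spor.SchurCert CfsgLib.Lie.MultExc.MatCert

/-- The Sylow elements. -/
def sw : List (List ℕ) := [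
    [0],
    [1],
    [2],
    [3],
    [4],
    [5],
    [6],
    [7],
    [8],
    [9],
    [10],
    [11]]

/-- The conjugating elements. -/
def gw : List (List ℕ) := [
    [12],
    [13],
    [14],
    [15],
    [16]]

/-- The certificate. -/
def cert : CfsgLib.Spor.SchurCert.Cert where
  p := 3
  m := 12
  N := 3
  rules := [
    ([0, 0, 0], [11, 11]),
    ([1, 1, 1], [7, 9, 9, 10, 11, 11]),
    ([2, 2, 2], [10, 10]),
    ([3, 3, 3], [10, 10, 11, 11]),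
    ([4, 4, 4], []),
    ([5, 5, 5], []),
    ([6, 6, 6], []),
    ([7, 7, 7], []),
    ([8, 8, 8], []),
    ([9, 9, 9], []),
    ([10, 10, 10], []),
    ([11, 11, 11], []),
    ([1, 0], [0, 1, 2, 2, 3, 4, 5, 6, 7, 7, 8, 9, 10, 11]),
    ([2, 0], [0, 2, 4, 4, 7, 7, 8, 8, 9, 9, 10, 10]),
    ([2, 1], [1, 2, 4, 8, 8, 11]),
    ([3, 0], [0, 3, 4, 4, 6, 7, 8, 8, 9, 10, 10, 11, 11]),
    ([3, 1], [1, 3, 4, 6, 6, 7, 7, 8, 9, 10, 10]),
    ([3, 2], [2, 3, 7, 7, 8, 8, 9, 11, 11]),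
    ([4, 0], [0, 4, 7, 8, 11]),
    ([4, 1], [1, 4, 8, 8, 9, 9, 10]),
    ([4, 2], [2, 4, 7, 8, 8, 9, 11]),
    ([4, 3], [3, 4, 7, 7, 8, 9, 9, 10, 10]),
    ([5, 0], [0, 5, 6, 6, 7, 8, 9, 10, 10, 11, 11]),
    ([5, 1], [1, 5, 6, 7, 7, 8, 8, 9, 10, 10]),
    ([5, 2], [2, 5, 8, 10, 11]),
    ([5, 3], [3, 5, 7, 7, 9, 9]),
    ([5, 4], [4, 5, 7, 8, 8, 9, 10, 10]),
    ([6, 0], [0, 6, 8, 8]),
    ([6, 1], [1, 6, 7, 8, 9, 10, 10]),
    ([6, 2], [2, 6, 7, 7, 8, 9, 9, 11, 11]),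
    ([6, 3], [3, 6, 10, 11, 11]),
    ([6, 4], [4, 6, 11, 11]),
    ([6, 5], [5, 6, 7, 7, 8, 9, 9, 10, 10, 11]),
    ([7, 0], [0, 7]),
    ([7, 1], [1, 7, 11]),
    ([7, 2], [2, 7]),
    ([7, 3], [3, 7, 10]),
    ([7, 4], [4, 7]),
    ([7, 5], [5, 7, 10, 10, 11]),
    ([7, 6], [6, 7, 11, 11]),
    ([8, 0], [0, 8, 11]),
    ([8, 1], [1, 8, 10, 11]),
    ([8, 2], [2, 8, 10, 10]),
    ([8, 3], [3, 8, 11, 11]),
    ([8, 4], [4, 8, 11, 11]),
    ([8, 5], [5, 8, 10, 10, 11, 11]),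
    ([8, 6], [6, 8, 11, 11]),
    ([8, 7], [7, 8]),
    ([9, 0], [0, 9, 10, 10]),
    ([9, 1], [1, 9, 11, 11]),
    ([9, 2], [2, 9, 10, 10, 11, 11]),
    ([9, 3], [3, 9, 10, 10]),
    ([9, 4], [4, 9, 11, 11]),
    ([9, 5], [5, 9, 11]),
    ([9, 6], [6, 9]),
    ([9, 7], [7, 9]),
    ([9, 8], [8, 9]),
    ([10, 0], [0, 10, 11, 11]),
    ([10, 1], [1, 10, 11]),
    ([10, 2], [2, 10]),
    ([10, 3], [3, 10]),
    ([10, 4], [4, 10]),
    ([10, 5], [5, 10]),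
    ([10, 6], [6, 10]),
    ([10, 7], [7, 10]),
    ([10, 8], [8, 10]),
    ([10, 9], [9, 10]),
    ([11, 0], [0, 11]),
    ([11, 1], [1, 11]),
    ([11, 2], [2, 11]),
    ([11, 3], [3, 11]),
    ([11, 4], [4, 11]),
    ([11, 5], [5, 11]),
    ([11, 6], [6, 11]),
    ([11, 7], [7, 11]),
    ([11, 8], [8, 11]),
    ([11, 9], [9, 11]),
    ([11, 10], [10, 11])]
  maps := [
    [([0, 0, 1, 3, 6], [0, 0, 1, 3, 6]), ([2, 3, 8, 9], [2, 3, 4, 8, 8]), ([3, 3, 7, 8], [0, 0, 1, 5, 6, 7, 7]), ([4, 7], [4, 7]), ([5, 6, 8], [5, 6, 8]), ([6, 9], [8, 10]), ([7, 7, 9, 11], [4, 9]), ([8, 11], [6, 6, 7, 8, 10]), ([9, 10, 11], [4, 4, 6, 8]), ([10, 11], [7, 7, 8, 9, 9, 10]), ([11], [11])],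
    [([2, 3, 8, 10], [4, 4, 6]), ([4, 6, 10], [4, 6, 10]), ([5, 7, 8], [5, 7, 8]), ([6, 8, 8, 9], [6, 8, 8, 9]), ([7, 8, 8, 9, 11, 11], [11]), ([8, 10], [4, 5, 6, 6, 7, 7, 9, 9]), ([9, 9, 10], [2, 3, 5, 5, 9, 9]), ([10, 11], [10, 11]), ([11], [7, 7, 8, 9, 9])],
    [([0, 1, 1, 2, 2, 7, 10], [0, 1, 1, 2, 2, 7, 10]), ([2, 2, 3, 5, 6, 7, 11, 11], [2, 2, 3, 5, 6, 7, 11, 11]), ([4, 4, 7, 8, 9, 9, 11], [4, 4, 7, 8, 9, 9, 11]), ([6, 8, 8, 9, 10, 10, 11, 11], [6, 8, 8, 9, 10, 10, 11, 11]), ([11], [0, 0, 1, 3, 4, 4, 5, 6, 7, 9, 10, 11])],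
    [([0, 1, 3], [0, 1, 3]), ([2, 3, 5, 8, 9, 9], [5, 5, 7]), ([3, 6, 8], [0, 1, 3, 3, 6, 10, 10]), ([4, 5, 6, 8], [6, 6]), ([5, 5], [2, 2, 3, 3, 7]), ([6, 7, 8, 9, 9], [4, 5, 9]), ([7], [7]), ([8], [8]), ([9, 11], [9, 11]), ([10], [11, 11]), ([11], [10, 11, 11])],
    [([0, 1, 3, 4, 5, 6, 6, 10], [8, 8]), ([1, 3, 5, 8, 9, 9, 10], [1, 3, 5, 8, 9, 9, 10]), ([2, 2, 3, 5, 6, 7, 11], [11, 11]), ([7, 8, 8], [7, 8, 8]), ([8, 10, 11], [8, 10, 11]), ([10], [0, 0, 1, 1, 3, 3, 5, 5, 6, 7, 7, 10, 10]), ([11], [2, 2, 3, 5, 6, 7])]]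
  overlaps := [
    ([0, 0, 0, 0], [(0, 0), (67, 1), (67, 0)], [(0, 1)]),
    ([2, 2, 2, 2], [(2, 0), (59, 1), (59, 0)], [(2, 1)]),
    ([3, 3, 3, 3], [(3, 0), (70, 3), (70, 2), (60, 1), (60, 0)], [(3, 1)]),
    ([7, 0, 0, 0], [(0, 1)], [(33, 0), (33, 1), (33, 2), (0, 0), (74, 1), (74, 0)]),
    ([10, 9, 5], [(66, 0), (62, 1), (53, 0), (77, 2)], [(53, 1), (62, 0), (66, 1)]),
    ([7, 4, 0], [(37, 0), (33, 1), (18, 0), (74, 4), (47, 3)], [(18, 1), (33, 0), (37, 1)]),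
    ([9, 7, 6], [(55, 0), (54, 1), (39, 0), (76, 3), (76, 2)], [(39, 1), (54, 0), (55, 1)]),
    ([7, 7, 7, 1], [(7, 0)], [(34, 2), (34, 1), (34, 0), (74, 2), (74, 4), (74, 3), (7, 1), (11, 1)]),
    ([7, 4, 2], [(37, 0), (35, 1), (20, 0), (74, 6), (55, 5), (47, 4), (47, 3)], [(20, 1), (35, 0), (37, 1)]),
    ([1, 1, 1, 1], [(1, 0), (68, 5), (68, 4), (58, 3), (49, 2), (49, 1), (34, 0), (76, 2), (11, 3), (77, 5), (77, 4), (11, 5)], [(1, 1)]),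
    ([7, 2, 1], [(35, 0), (34, 1), (14, 0), (74, 5), (47, 4), (47, 3)], [(14, 1), (34, 0), (69, 2), (35, 1), (71, 3), (37, 2), (75, 4), (75, 5)]),
    ([9, 6, 0], [(54, 0), (48, 1), (27, 0)], [(27, 1), (48, 0), (63, 3), (63, 2), (54, 1), (65, 4), (65, 3), (56, 2), (65, 5), (65, 4), (56, 3)]),
    ([10, 2, 1], [(59, 0), (58, 1), (14, 0), (77, 5)], [(14, 1), (58, 0), (69, 2), (59, 1), (71, 3), (61, 2), (75, 4), (65, 3), (75, 5), (65, 4)]),
    ([7, 6, 1], [(39, 0), (68, 3), (68, 2), (34, 1), (28, 0), (64, 6), (64, 5), (55, 4), (47, 3), (11, 8)], [(28, 1), (34, 0), (73, 2), (39, 1), (11, 3)]),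
    ([6, 6, 6, 0], [(6, 0)], [(27, 2), (27, 1), (27, 0), (46, 3), (46, 2), (75, 5), (75, 4), (11, 5), (75, 5), (8, 3), (75, 3), (73, 4), (46, 3), (6, 1), (11, 2), (8, 1)]),
    ([9, 5, 1], [(53, 0), (68, 2), (49, 1), (23, 0), (66, 9), (66, 8), (11, 11)], [(23, 1), (49, 0), (72, 3), (72, 2), (53, 1), (11, 3), (54, 2), (55, 3), (55, 4), (56, 5), (56, 6)]),
    ([8, 2, 1], [(42, 0), (58, 3), (58, 2), (41, 1), (14, 0), (75, 5), (8, 3), (77, 3), (77, 5), (77, 4), (11, 5), (10, 3)], [(14, 1), (41, 0), (69, 3), (59, 2), (42, 1), (10, 3), (71, 3), (44, 2), (11, 4), (8, 3)]),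
    ([4, 4, 4, 0], [(4, 0)], [(18, 2), (18, 1), (18, 0), (71, 4), (44, 3), (37, 2), (11, 5), (47, 4), (71, 7), (44, 6), (44, 5), (37, 4), (37, 3), (4, 1), (75, 5), (75, 4), (11, 5), (74, 6), (74, 5), (47, 4), (47, 3), (7, 1), (75, 4), (75, 3), (8, 1), (11, 1)]),
    ([7, 1, 0], [(34, 0), (67, 2), (33, 1), (12, 0), (74, 13), (64, 12), (55, 11), (47, 10), (7, 8)], [(12, 1), (33, 0), (34, 1), (69, 3), (35, 2), (69, 4), (35, 3), (70, 5), (36, 4), (71, 7), (61, 6), (37, 5), (72, 8), (62, 7), (38, 6), (77, 10), (10, 8), (73, 9), (73, 8), (39, 7), (11, 9), (74, 9), (74, 10), (7, 8), (75, 8), (76, 9), (77, 10)]),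
    ([6, 5, 3], [(32, 0), (70, 9), (60, 8), (60, 7), (51, 6), (51, 5), (43, 4), (36, 3), (36, 2), (30, 1), (25, 0), (54, 5), (54, 4), (39, 3), (39, 2), (74, 5), (74, 4), (11, 5), (76, 5), (76, 6), (77, 7), (11, 8), (64, 7), (55, 6), (55, 5), (7, 3), (64, 6), (64, 5), (55, 4), (55, 3), (10, 6), (56, 5), (56, 4), (76, 8), (76, 7), (9, 5), (77, 6), (77, 5), (77, 7), (77, 6), (76, 8), (76, 7), (66, 6), (66, 5), (77, 9), (77, 8), (10, 6), (77, 7), (77, 6), (77, 8), (77, 7), (77, 9), (77, 8), (10, 6), (11, 6)], [(25, 1), (30, 0), (72, 4), (72, 3), (62, 2), (32, 1), (77, 10), (10, 8), (11, 8), (55, 7), (55, 6), (47, 5), (7, 3), (55, 5), (55, 4), (47, 3), (9, 5)]),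
    ([4, 2, 1], [(20, 0), (68, 6), (49, 5), (41, 4), (41, 3), (34, 2), (19, 1), (14, 0), (71, 5), (44, 4), (44, 3), (75, 6), (75, 5), (11, 6), (75, 7), (75, 6), (8, 4), (75, 5), (75, 4), (76, 6), (76, 5), (76, 7), (76, 6), (77, 8), (77, 7), (74, 9), (74, 8), (64, 7), (55, 6), (55, 5), (47, 4), (11, 9), (65, 8), (56, 7), (56, 6), (75, 11), (65, 10), (65, 9), (56, 8), (56, 7), (8, 5), (77, 9), (10, 7), (76, 8), (76, 7), (9, 5), (11, 5)], [(14, 1), (19, 0), (59, 6), (50, 5), (50, 4), (42, 3), (42, 2), (20, 1), (75, 7), (56, 6), (8, 4), (77, 5), (77, 6), (75, 7), (65, 6), (65, 5), (56, 4), (77, 8), (10, 6), (77, 6), (76, 7), (66, 6), (77, 8), (77, 9), (10, 7), (11, 7), (9, 5), (77, 8), (77, 7), (10, 5), (71, 6), (71, 5), (44, 4), (37, 3), (11, 6), (75, 6), (75, 7), (8, 5)]),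
    ([5, 0, 0, 0], [(0, 1)], [(22, 0), (67, 10), (67, 9), (57, 8), (57, 7), (48, 6), (40, 5), (33, 4), (27, 3), (27, 2), (22, 1), (73, 11), (73, 10), (63, 9), (63, 8), (54, 7), (46, 6), (39, 5), (6, 3), (75, 5), (75, 4), (11, 5), (76, 5), (77, 6), (77, 7), (11, 8), (65, 7), (65, 6), (56, 5), (65, 8), (65, 7), (56, 6), (8, 4), (63, 6), (63, 5), (54, 4), (39, 3), (76, 6), (76, 5), (77, 7), (77, 6), (77, 8), (77, 7), (75, 9), (75, 8), (65, 7), (65, 6), (56, 5), (75, 10), (75, 9), (65, 8), (65, 7), (56, 6), (74, 11), (74, 10), (64, 9), (64, 8), (55, 7), (47, 6), (47, 5), (75, 12), (75, 11), (65, 10), (65, 9), (56, 8), (8, 6), (11, 9), (66, 8), (66, 7), (10, 8), (77, 11), (77, 10), (10, 8), (11, 8), (11, 8), (48, 7), (48, 6), (33, 5), (33, 4), (27, 3), (22, 2), (0, 0), (72, 1), (72, 0), (73, 2), (73, 1), (73, 3), (73, 2), (74, 4), (74, 3), (75, 5), (75, 4), (76, 6), (76, 5), (77, 7),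 (77, 6), (77, 8), (77, 7), (11, 8), (73, 8), (63, 7), (63, 6), (54, 5), (46, 4), (39, 3), (6, 1), (75, 3), (75, 2), (11, 3), (76, 3), (77, 4), (77, 5), (75, 7), (75, 6), (65, 5), (65, 4), (56, 3), (75, 8), (75, 7), (65, 6), (65, 5), (56, 4), (8, 2), (74, 6), (74, 5), (64, 4), (64, 3), (55, 2), (74, 7), (74, 6), (64, 5), (64, 4), (55, 3), (7, 1), (76, 5), (76, 4), (66, 3), (66, 2), (77, 6), (77, 5), (10, 3), (77, 4), (77, 3), (76, 5), (76, 4), (66, 3), (9, 1), (77, 3), (77, 2), (77, 4), (77, 3), (10, 1)]),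
    ([5, 1, 0], [(23, 0), (57, 9), (57, 8), (48, 7), (40, 6), (40, 5), (33, 4), (33, 3), (27, 2), (22, 1), (12, 0), (72, 13), (62, 12), (53, 11), (45, 10), (38, 9), (38, 8), (32, 7), (74, 16), (64, 15), (64, 14), (55, 13), (55, 12), (47, 11), (7, 9), (77, 14), (10, 12), (77, 12), (74, 14), (74, 13), (64, 12), (55, 11), (55, 10), (47, 9), (77, 15), (77, 14), (77, 16), (77, 15), (10, 13), (11, 13), (56, 12), (56, 11), (76, 17), (76, 16), (66, 15), (66, 14), (9, 12), (11, 14), (10, 12), (73, 12), (46, 11), (46, 10), (39, 9), (75, 12), (75, 11), (11, 12), (75, 12), (11, 13), (73, 13), (46, 12), (46, 11), (39, 10), (6, 8), (75, 10), (75, 9), (11, 10), (75, 10), (11, 11), (74, 11), (47, 10), (47, 9), (75, 12), (8, 10), (76, 10), (77, 11), (77, 12), (11, 13), (63, 12), (63, 11), (54, 10), (39, 9), (39, 8), (74, 11), (74, 10), (11, 11), (76, 11), (77, 12), (77, 13), (75, 14), (65, 13), (65,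 12), (56, 11), (75, 15), (65, 14), (65, 13), (56, 12), (74, 16), (64, 15), (64, 14), (55, 13), (47, 12), (47, 11), (7, 9), (74, 14), (64, 13), (64, 12), (55, 11), (47, 10), (47, 9), (75, 15), (65, 14), (65, 13), (56, 12), (8, 10), (75, 14), (75, 13), (65, 12), (65, 11), (56, 10), (11, 14), (66, 13), (66, 12), (10, 13), (77, 16), (77, 15), (10, 13), (11, 13)], [(12, 1), (22, 0), (68, 10), (68, 9), (58, 8), (58, 7), (49, 6), (41, 5), (34, 4), (28, 3), (28, 2), (23, 1), (63, 10), (63, 9), (54, 8), (46, 7), (46, 6), (39, 5), (39, 4), (74, 7), (74, 6), (11, 7), (75, 7), (11, 8), (76, 10), (76, 9), (77, 11), (77, 10), (77, 12), (77, 11), (74, 13), (74, 12), (64, 11), (64, 10), (55, 9), (47, 8), (47, 7), (7, 5), (75, 11), (75, 10), (65, 9), (65, 8), (56, 7), (8, 5), (76, 9), (76, 8), (66, 7), (66, 6), (77, 10), (77, 9), (10, 7), (77, 8), (77, 7), (73, 9), (73, 8), (63, 7), (54, 6), (54,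 5), (6, 3), (74, 7), (74, 6), (64, 5), (55, 4), (55, 3), (75, 8), (75, 7), (65, 6), (56, 5), (56, 4), (76, 9), (76, 8), (66, 7), (9, 5), (77, 7), (77, 6), (77, 8), (77, 7), (10, 5), (74, 6), (74, 5), (47, 4), (11, 6), (76, 8), (66, 7), (11, 9), (77, 10), (10, 8), (11, 8), (69, 8), (50, 7), (42, 6), (42, 5), (35, 4), (35, 3), (24, 2), (74, 6), (64, 5), (47, 4), (74, 7), (64, 6), (47, 5), (75, 8), (65, 7), (77, 9), (77, 10), (10, 8), (75, 8), (8, 6), (77, 6), (77, 7), (76, 8), (66, 7), (66, 6), (77, 9), (10, 7), (77, 7), (11, 8), (69, 8), (59, 7), (50, 6), (35, 5), (35, 4), (24, 3), (74, 7), (64, 6), (47, 5), (74, 8), (64, 7), (47, 6), (76, 9), (66, 8), (77, 10), (77, 11), (10, 9), (11, 9), (70, 10), (60, 9), (51, 8), (43, 7), (36, 6), (36, 5), (25, 4), (55, 9), (55, 8), (7, 6), (64, 8), (55, 7), (55, 6), (65, 10), (65, 9), (56, 8), (56, 7), (76, 13), (76, 12), (66, 11), (66, 10),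 (9, 8), (77, 11), (77, 10), (10, 8), (77, 9), (77, 8), (77, 10), (77, 9), (11, 10), (61, 9), (61, 8), (44, 7), (37, 6), (26, 5), (64, 12), (64, 11), (55, 10), (47, 9), (47, 8), (65, 13), (65, 12), (56, 11), (8, 9), (77, 13), (77, 12), (10, 10), (77, 11), (77, 10), (72, 12), (72, 11), (62, 10), (53, 9), (38, 8), (38, 7), (74, 11), (64, 10), (64, 9), (77, 12), (10, 10), (77, 10), (76, 12), (76, 11), (66, 10), (11, 12), (73, 14), (73, 13), (63, 12), (63, 11), (54, 10), (39, 9), (39, 8), (74, 11), (74, 10), (11, 11), (76, 11), (77, 12), (77, 13), (11, 14), (64, 13), (64, 12), (55, 11), (7, 9), (64, 11), (64, 10), (55, 9), (65, 12), (65, 11), (56, 10), (66, 13), (66, 12), (10, 13)]),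
    ([2, 1, 0], [(14, 0), (67, 5), (40, 4), (40, 3), (18, 2), (13, 1), (12, 0), (69, 13), (59, 12), (50, 11), (42, 10), (35, 9), (35, 8), (29, 7), (24, 6), (20, 5), (17, 4), (2, 2), (60, 3), (60, 2), (64, 4), (64, 3), (64, 5), (64, 4), (65, 6), (65, 5), (65, 7), (65, 6), (66, 8), (66, 7), (71, 11), (71, 10), (61, 9), (61, 8), (52, 7), (44, 6), (44, 5), (37, 4), (37, 3), (75, 8), (75, 7), (11, 8), (76, 8), (11, 9), (74, 12), (74, 11), (64, 10), (64, 9), (55, 8), (47, 7), (47, 6), (7, 4), (75, 10), (75, 9), (65, 8), (65, 7), (56, 6), (8, 4), (75, 8), (75, 7), (65, 6), (65, 5), (56, 4), (76, 9), (76, 8), (66, 7), (66, 6), (11, 9), (62, 8), (62, 7), (53, 6), (53, 5), (45, 4), (76, 9), (76, 8), (66, 7), (66, 6), (11, 9), (66, 8), (66, 7), (77, 10), (10, 8), (77, 8), (75, 9), (65, 8), (56, 7), (56, 6), (77, 10), (73, 12), (73, 11), (63, 10), (63, 9), (54, 8), (54, 7), (46, 6), (46, 5),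 (75, 8), (75, 7), (11, 8), (76, 8), (76, 9), (77, 10), (77, 11), (11, 12), (64, 11), (64, 10), (55, 9), (55, 8), (47, 7), (47, 6), (64, 12), (64, 11), (55, 10), (55, 9), (47, 8), (47, 7), (65, 13), (65, 12), (56, 11), (56, 10), (8, 8), (66, 11), (66, 10), (9, 8), (66, 9), (66, 8), (74, 12), (74, 11), (64, 10), (64, 9), (55, 8), (7, 6), (74, 10), (74, 9), (64, 8), (64, 7), (55, 6), (75, 11), (75, 10), (65, 9), (65, 8), (56, 7), (77, 12), (77, 11), (10, 9), (77, 10), (77, 9), (76, 11), (76, 10), (66, 9), (77, 12), (77, 11), (77, 13), (77, 12), (10, 10), (11, 10), (77, 10), (71, 12), (71, 11), (61, 10), (52, 9), (52, 8), (44, 7), (37, 6), (31, 5), (26, 4), (63, 11), (63, 10), (54, 9), (46, 8), (46, 7), (39, 6), (75, 9), (75, 8), (11, 9), (75, 9), (11, 10), (74, 14), (74, 13), (64, 12), (64, 11), (55, 10), (47, 9), (47, 8), (75, 15), (75, 14), (65, 13), (65, 12), (56, 11), (8, 9), (11,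 12), (76, 12), (66, 11), (66, 10), (11, 13), (66, 12), (66, 11), (9, 9), (77, 12), (77, 11), (10, 9), (11, 9), (71, 9), (37, 8), (37, 7), (31, 6), (26, 5), (4, 3), (63, 9), (63, 8), (54, 7), (46, 6), (46, 5), (39, 4), (75, 7), (75, 6), (11, 7), (75, 7), (11, 8), (74, 12), (74, 11), (64, 10), (64, 9), (55, 8), (47, 7), (47, 6), (74, 13), (74, 12), (64, 11), (64, 10), (55, 9), (47, 8), (47, 7), (7, 5), (11, 10), (64, 9), (64, 8), (55, 7), (47, 6), (47, 5), (64, 10), (64, 9), (55, 8), (47, 7), (47, 6), (65, 11), (65, 10), (56, 9), (8, 7), (65, 9), (65, 8), (56, 7), (66, 10), (66, 9), (66, 11), (66, 10), (9, 8), (10, 8), (61, 8), (44, 7), (37, 6), (37, 5), (31, 4), (26, 3), (63, 10), (63, 9), (54, 8), (46, 7), (46, 6), (39, 5), (75, 8), (75, 7), (11, 8), (75, 8), (11, 9), (74, 13), (74, 12), (64, 11), (64, 10), (55, 9), (47, 8), (47, 7), (74, 14), (74, 13), (64, 12), (64, 11), (55, 10),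 (47, 9), (47, 8), (7, 6), (75, 12), (75, 11), (65, 10), (65, 9), (56, 8), (8, 6), (11, 9), (77, 9), (10, 7), (74, 7), (55, 6), (75, 8), (56, 7), (75, 10), (75, 9), (56, 8), (11, 10), (56, 9), (8, 7)], [(12, 1), (13, 0), (58, 11), (58, 10), (49, 9), (49, 8), (41, 7), (41, 6), (34, 5), (34, 4), (19, 3), (19, 2), (14, 1), (71, 6), (44, 5), (44, 4), (75, 7), (75, 6), (11, 7), (75, 8), (75, 7), (8, 5), (75, 6), (75, 5), (76, 7), (76, 6), (76, 8), (76, 7), (77, 9), (77, 8), (71, 10), (71, 9), (61, 8), (52, 7), (52, 6), (44, 5), (4, 3), (76, 5), (76, 4), (11, 5), (76, 5), (11, 6), (75, 8), (75, 7), (65, 6), (56, 5), (56, 4), (75, 9), (75, 8), (65, 7), (56, 6), (56, 5), (8, 3), (76, 7), (76, 6), (66, 5), (9, 3), (76, 5), (76, 4), (66, 3), (77, 6), (77, 5), (74, 7), (74, 6), (64, 5), (64, 4), (55, 3), (11, 7), (64, 6), (64, 5), (55, 4), (75, 8), (65, 7), (65, 6), (56, 5), (77, 9), (10, 7),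 (75, 8), (75, 7), (56, 6), (77, 9), (77, 8), (11, 9), (66, 8), (76, 11), (76, 10), (66, 9), (9, 7), (11, 8), (77, 8), (77, 10), (77, 9), (10, 7), (11, 7), (42, 6), (42, 5), (35, 4), (35, 3), (65, 8), (65, 7), (10, 8), (59, 8), (42, 7), (42, 6), (35, 5), (35, 4), (2, 2), (64, 3), (64, 2), (64, 4), (64, 3), (65, 5), (65, 4), (10, 5), (65, 5), (10, 6), (60, 6), (43, 5), (43, 4), (36, 3), (36, 2), (64, 4), (65, 6), (65, 5), (75, 9), (75, 8), (65, 7), (65, 6), (11, 9), (77, 9), (10, 7), (71, 7), (44, 6), (44, 5), (37, 4), (37, 3), (75, 8), (75, 7), (11, 8), (72, 9), (72, 8), (45, 7), (45, 6), (38, 5), (38, 4), (74, 8), (64, 7), (64, 6), (77, 9), (10, 7), (77, 7), (75, 9), (75, 8), (65, 7), (77, 10), (77, 9), (77, 11), (77, 10), (10, 8), (11, 8), (75, 8), (77, 9), (77, 10), (11, 11), (73, 12), (73, 11), (63, 10), (63, 9), (46, 8), (46, 7), (39, 6), (39, 5), (74, 8), (74, 7), (11, 8), (75,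 8), (11, 9), (77, 11), (77, 10), (77, 12), (77, 11), (11, 12), (74, 12), (64, 11), (64, 10), (47, 9), (47, 8), (7, 6), (74, 10), (64, 9), (64, 8), (47, 7), (47, 6), (75, 11), (65, 10), (65, 9), (8, 7), (76, 9), (66, 8), (66, 7), (77, 10), (10, 8)])]
  fuses := [
    ⟨3, [9, 6], [6, 9], [(64, 0)], [], [(74, 1), (74, 0)], []⟩,
    ⟨3, [9, 7], [7, 9], [(65, 0)], [], [(75, 1), (75, 0)], []⟩,
    ⟨3, [9, 9, 9], [], [(10, 0)], [], [(11, 0), (11, 0)], []⟩,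
    ⟨0, [10, 5], [5, 10], [(73, 0), (76, 1)], [], [(75, 0), (77, 1)], []⟩,
    ⟨0, [10, 6], [6, 10], [(74, 0), (74, 1), (76, 2)], [], [(71, 0), (76, 1)], []⟩,
    ⟨0, [10, 7], [7, 10], [(75, 0)], [], [(73, 0), (73, 1), (74, 2), (75, 3), (77, 4)], []⟩,
    ⟨3, [9, 8], [8, 9], [(66, 0)], [(77, 1)], [(76, 1), (76, 0), (11, 1)], [(11, 1)]⟩,
    ⟨3, [9, 3], [3, 9], [(61, 0), (62, 1), (63, 2), (65, 3)], [], [(73, 1), (73, 0), (73, 2), (73, 1)], []⟩,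
    ⟨0, [5, 5, 5], [], [(54, 1), (54, 3), (54, 2), (6, 0), (9, 0)], [], [(65, 1), (65, 3), (65, 2), (8, 0), (10, 0)], []⟩,
    ⟨3, [10, 3], [3, 10], [(71, 0), (72, 1), (73, 2), (75, 3)], [], [(73, 2), (73, 1), (63, 0), (73, 3), (73, 2), (63, 1)], []⟩,
    ⟨0, [10, 2], [2, 10], [(70, 0), (70, 1), (74, 2), (75, 3)], [], [(67, 0), (67, 1), (68, 2), (72, 3), (73, 4), (74, 5), (74, 6)], []⟩,
    ⟨3, [6, 0], [0, 6, 9, 10], [(33, 0), (34, 1), (70, 3), (36, 2)], [], [(33, 0), (34, 1), (70, 3), (36, 2)], [(77, 5), (77, 4), (11, 5)]⟩,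
    ⟨3, [9, 0], [0, 9], [(57, 0), (68, 3), (68, 2), (58, 1), (11, 3), (60, 2)], [], [(67, 1), (67, 0), (68, 2), (68, 1), (70, 3), (70, 2)], []⟩,
    ⟨3, [9, 1], [1, 9], [(59, 0), (60, 1), (62, 2), (65, 3), (66, 4), (66, 5)], [], [(72, 1), (72, 0), (72, 2), (72, 1), (74, 3), (74, 2)], []⟩,
    ⟨3, [8, 3], [3, 8], [(71, 1), (52, 0), (11, 2), (53, 1), (73, 3), (54, 2), (75, 4), (56, 3)], [], [(73, 1), (54, 0), (73, 2), (54, 1)], []⟩,
    ⟨3, [9, 4], [4, 9], [(62, 0), (62, 1)], [], [(69, 1), (69, 0), (69, 2), (69, 1), (70, 3), (70, 2), (70, 4), (70, 3), (74, 5), (74, 4)], []⟩,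
    ⟨0, [6, 3], [3, 6, 10, 10], [(71, 3), (52, 2), (37, 1), (37, 0), (11, 4), (55, 3), (7, 1)], [(7, 1), (11, 2)], [(52, 1), (74, 4), (74, 3), (55, 2)], [(37, 1)]⟩,
    ⟨0, [5, 3], [3, 5, 10, 10], [(52, 1), (31, 0), (76, 3), (76, 2), (11, 3), (74, 3), (55, 2)], [(39, 1), (76, 4), (76, 3), (11, 4)], [(61, 1), (44, 0), (77, 3), (77, 2), (74, 4), (74, 3), (64, 2), (47, 1)], []⟩,
    ⟨3, [6, 3], [3, 6, 9, 9], [(37, 0), (38, 1), (73, 5), (63, 4), (63, 3), (39, 2), (77, 5), (77, 4), (77, 6), (77, 5), (11, 6), (65, 5), (65, 4)], [(47, 3)], [(39, 0), (73, 3), (73, 2), (39, 1), (11, 3)], [(11, 3)]⟩,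
    ⟨3, [6, 4], [4, 6, 9, 10, 10], [(38, 0), (72, 4), (62, 3), (62, 2), (38, 1), (77, 5), (10, 3), (77, 3)], [], [(35, 0), (35, 1), (36, 2), (60, 4), (36, 3), (64, 6), (64, 5)], [(77, 7), (77, 6), (11, 7), (77, 7), (11, 8)]⟩,
    ⟨0, [9, 3], [3, 9], [(71, 1), (61, 0), (74, 2), (64, 1)], [], [(61, 5), (52, 4), (52, 3), (44, 2), (37, 1), (37, 0), (76, 5), (76, 4), (11, 5), (76, 5), (11, 6), (64, 6), (55, 5), (55, 4), (47, 3), (7, 1)], [(7, 1)]⟩,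
    ⟨0, [6, 5], [5, 6, 10], [(73, 3), (54, 2), (39, 1), (39, 0), (74, 3), (74, 2), (11, 3), (76, 3), (76, 5), (76, 4)], [(55, 1), (55, 2)], [(56, 1)], [(61, 1), (44, 0), (77, 3), (77, 2), (76, 4), (76, 3), (66, 2), (11, 4)]⟩,
    ⟨1, [8, 8, 8], [], [(11, 0)], [], [(55, 4), (55, 3), (47, 2), (7, 0), (55, 2), (55, 1), (47, 0), (56, 3), (56, 2), (9, 3), (55, 3), (47, 2), (47, 1), (55, 4), (47, 3), (47, 2), (7, 0), (56, 2), (8, 0), (9, 0)], []⟩,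
    ⟨3, [7, 3], [3, 7, 9, 9], [(44, 0), (72, 3), (72, 2), (45, 1), (11, 5), (73, 5), (63, 4), (63, 3), (46, 2), (77, 5), (77, 4), (77, 6), (77, 5), (11, 6), (65, 5), (65, 4)], [], [(46, 0), (73, 3), (73, 2), (46, 1), (11, 3)], [(11, 3)]⟩,
    ⟨0, [8, 5], [5, 8], [(73, 2), (63, 1), (54, 0), (76, 3), (66, 2)], [], [], [(61, 1), (44, 0), (77, 3), (77, 2), (71, 4), (71, 3), (61, 2), (44, 1), (77, 4), (77, 3), (11, 4), (73, 4), (63, 3), (46, 2), (77, 5), (77, 4), (11, 5), (65, 4)]⟩,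
    ⟨3, [8, 1], [1, 8, 9], [(69, 1), (50, 0), (11, 4), (60, 3), (60, 2), (51, 1), (10, 3), (62, 3), (53, 2), (77, 4), (75, 5), (65, 4), (56, 3), (76, 6), (66, 5), (76, 7), (66, 6), (9, 4)], [(9, 4), (77, 4)], [(72, 1), (53, 0), (72, 3), (72, 2), (53, 1), (11, 3), (55, 2)], [(11, 4)]⟩,
    ⟨0, [6, 6, 6], [], [(74, 3), (55, 2), (7, 0), (74, 1), (55, 0), (76, 2), (74, 4), (74, 3), (55, 2), (55, 1), (74, 5), (74, 4), (55, 3), (55, 2), (7, 0), (76, 3), (76, 2), (9, 0), (11, 0)], [], [(52, 1), (76, 4), (76, 3), (71, 5), (71, 4), (52, 3), (52, 2), (4, 0), (76, 2), (76, 1), (11, 2), (11, 2), (9, 0)], []⟩,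
    ⟨3, [6, 2], [2, 6, 9, 10, 10], [(36, 0), (63, 2), (39, 1), (77, 4), (77, 3), (75, 5), (75, 4), (65, 3)], [(47, 2)], [(33, 0), (34, 1), (70, 3), (36, 2), (70, 5), (60, 4), (36, 3), (73, 7), (63, 6), (63, 5), (39, 4), (77, 7), (77, 6), (77, 8), (77, 7), (11, 8), (10, 6)], [(64, 6), (64, 5), (77, 9), (77, 8), (10, 6), (11, 6), (77, 6), (11, 7)]⟩,
    ⟨3, [7, 2], [2, 7, 10], [(43, 0), (73, 3), (73, 2), (46, 1), (11, 3), (75, 3)], [], [(40, 0), (68, 2), (41, 1), (70, 5), (70, 4), (60, 3), (43, 2), (77, 5), (77, 4), (11, 5), (70, 5), (60, 4), (43, 3), (77, 6), (77, 5), (11, 6), (63, 5), (46, 4), (77, 7), (77, 6), (77, 8), (77, 7), (77, 9), (77, 8), (10, 6)], [(65, 6), (65, 5), (10, 6)]⟩,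
    ⟨3, [7, 4], [4, 7, 9, 10], [(45, 0), (72, 5), (72, 4), (62, 3), (62, 2), (45, 1), (77, 6), (77, 5), (10, 3), (77, 4), (77, 3), (11, 4)], [], [(42, 0), (59, 3), (59, 2), (42, 1), (10, 3), (60, 3), (43, 2), (77, 5), (77, 4), (70, 6), (70, 5), (60, 4), (43, 3), (77, 6), (77, 5), (11, 6), (74, 6), (64, 5), (47, 4)], [(77, 7), (77, 6), (11, 7)]⟩,
    ⟨4, [6, 4], [4, 6], [(75, 0), (77, 1)], [], [], [(69, 2), (59, 1), (42, 0), (10, 2), (69, 2), (42, 1), (70, 5), (60, 4), (60, 3), (43, 2), (77, 5), (77, 4), (77, 6), (77, 5), (11, 6), (62, 5), (62, 4), (45, 3), (77, 8), (77, 7), (10, 5), (77, 6), (77, 5), (73, 7), (73, 6), (63, 5), (46, 4), (77, 7), (77, 6), (11, 7), (74, 7), (64, 6), (47, 5)]⟩,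
    ⟨3, [8, 2], [2, 8, 9, 9], [(70, 1), (51, 0), (73, 4), (63, 3), (63, 2), (54, 1), (75, 5), (65, 4), (65, 3), (56, 2)], [(77, 4), (77, 5)], [(67, 1), (48, 0), (68, 4), (58, 3), (58, 2), (49, 1), (77, 4), (77, 3), (11, 4), (70, 6), (70, 5), (60, 4), (60, 3), (51, 2), (10, 4), (70, 6), (70, 5), (60, 4), (51, 3), (10, 5), (73, 6), (73, 5), (54, 4), (77, 7), (77, 6), (77, 8), (77, 7)], [(66, 6), (66, 5), (11, 8)]⟩,
    ⟨0, [5, 2], [2, 5], [(51, 1), (30, 0), (76, 4), (76, 3), (66, 2), (77, 5), (77, 4), (77, 6), (77, 5), (10, 3), (70, 4), (70, 3), (51, 2), (30, 1), (76, 5), (76, 4), (66, 3), (77, 6), (77, 5), (77, 7), (77, 6), (10, 4), (11, 4), (74, 4), (55, 3), (75, 5), (56, 4)], [(46, 3), (39, 2), (75, 5), (75, 4), (11, 5), (76, 5)], [(57, 1), (40, 0), (77, 2), (11, 3), (57, 2), (40, 1), (77, 3), (11, 4), (58, 3), (41, 2), (77, 5), (72, 7), (72, 6), (62, 5), (62, 4), (45, 3), (77,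 8), (77, 7), (10, 5), (77, 6), (77, 5), (11, 6), (73, 6), (63, 5), (46, 4), (77, 7), (77, 6), (11, 7), (64, 6), (47, 5), (64, 7), (47, 6)], []⟩,
    ⟨0, [6, 1], [1, 6, 10, 10], [(69, 3), (50, 2), (35, 1), (35, 0), (11, 6), (60, 5), (60, 4), (51, 3), (36, 2), (36, 1), (64, 3), (66, 5), (66, 4), (10, 5), (10, 5), (56, 4)], [(55, 3), (47, 2), (55, 4), (47, 3), (11, 7)], [(50, 1), (20, 0), (76, 6), (77, 7), (77, 8), (11, 9), (60, 8), (60, 7), (51, 6), (51, 5), (43, 4), (43, 3), (36, 2), (21, 1), (64, 9), (64, 8), (55, 7), (55, 6), (47, 5), (7, 3), (10, 6), (56, 5), (56, 4), (75, 8), (75, 7), (56, 6), (56, 5), (8, 3), (11, 5), (76, 5), (9, 3), (77, 3), (77, 4), (76, 5), (66, 4), (66, 3), (77, 6), (10, 4), (77, 4), (77, 5), (77, 6), (10, 4), (71, 4), (52, 3), (11, 5), (56, 4), (56, 5)], [(44, 4), (44, 3), (75, 6), (75, 5), (11, 6), (76, 6), (11, 7)]⟩,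
    ⟨0, [6, 4], [4, 6, 9], [(72, 3), (53, 2), (38, 1), (38, 0), (74, 4), (64, 3), (64, 2), (77, 5), (10, 3), (77, 3), (76, 5), (76, 4), (66, 3), (11, 5), (73, 5), (63, 4), (54, 3), (39, 2), (39, 1), (74, 4), (74, 3), (11, 4), (76, 4), (77, 5), (75, 7), (75, 6), (65, 5), (56, 4)], [(47, 2), (47, 3), (77, 6)], [(53, 1), (73, 3), (54, 2), (75, 4), (56, 3)], [(44, 2), (31, 1), (26, 0), (63, 7), (63, 6), (54, 5), (46, 4), (46, 3), (39, 2), (75, 5), (75, 4), (11, 5), (75, 5), (11, 6), (75, 10), (75, 9), (65, 8), (65, 7), (56, 6), (8, 4), (11, 7), (76, 7), (66, 6), (66, 5), (74, 8), (64, 7), (64, 6), (55, 5), (55, 4), (74, 9), (64, 8), (64, 7), (55, 6), (55, 5), (7, 3), (75, 7), (65, 6), (65, 5), (56, 4), (56, 3), (76, 8), (66, 7), (66, 6), (9, 4), (76, 6), (66, 5), (66, 4), (77, 7), (10, 5)]⟩,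
    ⟨1, [3, 2], [2, 3, 4, 4, 8], [(53, 3), (45, 2), (45, 1), (32, 0), (75, 9), (65, 8), (65, 7), (56, 6), (56, 5), (77, 10), (10, 8), (77, 8), (11, 9), (65, 8), (56, 7), (56, 6), (8, 4), (10, 6), (76, 7), (76, 6), (9, 4), (11, 4), (7, 2)], [(46, 2), (39, 1), (75, 4), (75, 3), (11, 4), (75, 4), (75, 5), (8, 3), (76, 3), (74, 4), (55, 3), (75, 5), (56, 4), (75, 6), (56, 5), (76, 7), (11, 8), (55, 7), (55, 6), (47, 5), (47, 4), (7, 2), (56, 5), (56, 4), (8, 2), (56, 3), (56, 2), (9, 3), (11, 3)], [(53, 3), (45, 2), (45, 1), (32, 0), (75, 9), (65, 8), (65, 7), (56, 6), (56, 5), (77, 10), (10, 8), (77, 8), (11, 9), (65, 8), (56, 7), (56, 6), (8, 4), (10, 6), (76, 7), (76, 6), (9, 4), (11, 4), (7, 2)], [(46, 2), (39, 1), (75, 4), (75, 3), (11, 4), (75, 4), (75, 5), (8, 3), (76, 3), (11, 4), (55, 3), (55, 4), (7, 2), (56, 2), (9, 3)]⟩,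
    ⟨1, [5, 3], [3, 5, 8, 8], [(63, 1), (46, 0), (77, 3), (77, 2), (75, 4), (75, 3), (65, 2), (75, 5), (75, 4), (65, 3), (8, 1), (76, 3), (76, 2), (66, 1)], [(56, 3), (8, 1)], [(54, 7), (54, 6), (39, 5), (39, 4), (6, 2), (74, 4), (74, 3), (11, 4), (76, 4), (76, 5), (75, 6), (56, 5), (56, 4), (75, 7), (56, 6), (56, 5), (76, 8), (9, 6)], [(52, 3), (44, 2), (44, 1), (31, 0), (75, 3), (75, 2), (11, 3), (75, 3), (11, 4), (72, 6), (72, 5), (53, 4), (45, 3), (45, 2), (32, 1), (75, 10), (65, 9), (65, 8), (56, 7), (56, 6), (77, 11), (10, 9), (77, 9), (11, 10), (65, 9), (56, 8), (56, 7), (8, 5), (10, 7), (76, 8), (76, 7), (9, 5), (11, 5), (73, 6), (73, 5), (39, 4), (39, 3), (74, 6), (74, 5), (11, 6), (11, 6), (39, 5), (39, 4), (6, 2), (74, 4), (74, 3), (11, 4), (74, 4), (7, 2), (74, 2), (76, 3), (76, 4), (74, 5), (55, 4), (55, 3), (74, 6), (55, 5), (55, 4), (7, 2), (75, 4), (56, 3), (56, 2),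 (76, 5), (9, 3), (76, 3), (74, 4), (55, 3), (47, 2), (74, 5), (55, 4), (47, 3), (75, 6), (56, 5), (76, 7), (76, 8), (9, 6)]⟩,
    ⟨1, [1, 0], [0, 1, 4, 4], [(59, 2), (29, 1), (20, 0), (73, 6), (54, 5), (46, 4), (46, 3), (39, 2), (75, 5), (75, 4), (11, 5), (75, 5), (11, 6), (74, 7), (55, 6), (47, 5), (47, 4), (74, 8), (55, 7), (47, 6), (47, 5), (7, 3), (75, 6), (56, 5), (8, 3), (76, 4), (76, 5), (9, 3), (11, 3), (60, 3), (30, 2), (21, 1), (63, 9), (63, 8), (54, 7), (54, 6), (46, 5), (39, 4), (39, 3), (74, 6), (74, 5), (11, 6), (75, 6), (11, 7), (10, 9), (77, 10), (77, 9), (75, 11), (75, 10), (65, 9), (56, 8), (56, 7), (77, 12), (77, 11)], [(61, 3), (44, 2), (77, 5), (77, 4), (73, 6), (73, 5), (63, 4), (46, 3), (77, 6), (77, 5), (11, 6), (77, 6), (74, 7), (64, 6), (64, 5), (47, 4), (75, 8), (65, 7), (65, 6), (75, 9), (65, 8), (65, 7), (8, 5), (76, 7), (66, 6), (66, 5), (11, 8), (64,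 7), (64, 6), (55, 5), (65, 8), (65, 7), (56, 6), (65, 9), (65, 8), (56, 7), (66, 10), (66, 9)], [(61, 2), (31, 1), (77, 4), (77, 3), (71, 5), (71, 4), (61, 3), (31, 2), (4, 0), (77, 2), (77, 1), (11, 2), (73, 2), (63, 1)], [(31, 2), (4, 0), (73, 2), (73, 1), (77, 3), (77, 2), (11, 3)]⟩,
    ⟨1, [5, 1], [1, 5, 8], [(61, 1), (44, 0), (77, 3), (77, 2), (73, 4), (73, 3), (63, 2), (46, 1), (77, 4), (77, 3), (11, 4), (77, 4)], [(65, 2)], [(52, 7), (52, 6), (37, 5), (37, 4), (31, 3), (31, 2), (26, 1), (63, 8), (63, 7), (54, 6), (46, 5), (46, 4), (39, 3), (75, 6), (75, 5), (11, 6), (75, 6), (11, 7), (73, 11), (73, 10), (63, 9), (63, 8), (54, 7), (46, 6), (46, 5), (39, 4), (75, 7), (75, 6), (11, 7), (75, 7), (11, 8), (11, 11), (74, 11), (64, 10), (64, 9), (55, 8), (47, 7), (47, 6), (74, 12), (64, 11), (64, 10), (55, 9), (47, 8), (47, 7), (7, 5), (76, 10), (66, 9), (66, 8), (11, 11), (66,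 10), (66, 9), (9, 7), (73, 10), (73, 9), (63, 8), (63, 7), (46, 6), (46, 5), (6, 3), (75, 5), (75, 4), (11, 5), (77, 5), (77, 6), (11, 7), (10, 5)], [(61, 2), (31, 1), (77, 4), (77, 3), (72, 5), (72, 4), (62, 3), (32, 2), (77, 11), (10, 9), (11, 9), (54, 8), (54, 7), (46, 6), (39, 5), (39, 4), (74, 7), (74, 6), (11, 7), (75, 7), (11, 8), (54, 9), (54, 8), (46, 7), (39, 6), (39, 5), (6, 3), (74, 5), (74, 4), (11, 5), (75, 5), (11, 6), (55, 7), (55, 6), (47, 5), (7, 3), (55, 5), (55, 4), (47, 3), (9, 5), (55, 5), (47, 4), (55, 6), (47, 5), (7, 3), (56, 4), (9, 5)]⟩,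
    ⟨3, [5, 5, 5], [], [(54, 4), (54, 3), (46, 2), (39, 1), (75, 4), (75, 3), (11, 4), (76, 4), (76, 5), (74, 6), (55, 5), (55, 4), (47, 3), (75, 7), (56, 6), (56, 5), (76, 8), (9, 6), (76, 6), (73, 7), (54, 6), (46, 5), (46, 4), (39, 3), (39, 2), (6, 0), (74, 2), (74, 1), (11, 2), (75, 2), (11, 3), (76, 5), (76, 4), (11, 5), (55, 4), (47, 3), (47, 2), (7, 0), (56, 2), (8, 0), (9, 0)], [], [(52, 2), (26, 1), (66, 8), (66, 7), (72, 11), (72, 10), (62, 9), (62, 8), (53, 7), (53, 6), (45, 5), (45, 4), (38, 3), (75, 7), (65, 6), (65, 5), (77, 8), (10, 6), (77, 6), (11, 7), (65, 6), (10, 7), (76, 8), (76, 7), (11, 8), (77, 9), (77, 10), (11, 11), (66, 10), (66, 9), (9, 7), (61, 8), (61, 7), (44, 6), (44, 5), (37, 4), (26, 3), (26, 2), (4, 0), (62, 6), (62, 5), (53, 4), (45, 3), (45, 2), (38, 1), (75, 5), (65, 4), (65, 3), (77, 6), (10, 4), (77, 4), (11, 5), (65, 4), (10, 5), (76, 6),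 (76, 5), (11, 6), (64, 7), (64, 6), (55, 5), (47, 4), (47, 3), (65, 8), (65, 7), (56, 6), (8, 4), (65, 6), (65, 5), (56, 4), (66, 7), (66, 6), (10, 7), (64, 7), (55, 6), (55, 5), (47, 4), (7, 2), (65, 5), (56, 4), (56, 3), (75, 8), (75, 7), (65, 6), (56, 5), (56, 4), (8, 2), (11, 5), (77, 5), (77, 6), (10, 4), (72, 4), (53, 3), (53, 2), (5, 0), (76, 1), (11, 2), (9, 0)], []⟩,
    ⟨1, [6, 2], [2, 6, 8, 8], [(62, 2), (53, 1), (53, 0), (76, 2), (77, 4), (77, 3), (74, 5), (74, 4), (64, 3), (55, 2), (55, 1), (75, 6), (75, 5), (65, 4), (56, 3), (56, 2)], [], [(53, 5), (53, 4), (5, 2), (76, 3), (74, 5), (74, 4), (55, 3), (55, 2), (75, 6), (75, 5), (56, 4), (56, 3)], [(42, 2), (35, 1), (24, 0), (74, 4), (64, 3), (47, 2), (75, 5), (65, 4), (77, 6), (77, 7), (10, 5), (70, 5), (43, 4), (43, 3), (36, 2), (25, 1), (55, 6), (55, 5), (7, 3), (65, 5), (56, 4), (56, 3), (75, 8), (75, 7), (65, 6),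 (56, 5), (56, 4), (11, 8), (72, 9), (72, 8), (62, 7), (53, 6), (53, 5), (45, 4), (45, 3), (75, 8), (75, 7), (65, 6), (65, 5), (77, 9), (77, 8), (10, 6), (77, 7), (77, 6), (11, 7), (76, 7), (66, 6), (76, 9), (76, 8), (66, 7), (11, 9), (72, 11), (72, 10), (62, 9), (62, 8), (53, 7), (53, 6), (45, 5), (45, 4), (5, 2), (75, 6), (75, 5), (65, 4), (65, 3), (77, 7), (77, 6), (10, 4), (77, 5), (77, 4), (11, 5), (76, 5), (66, 4), (76, 7), (76, 6), (66, 5), (11, 7), (10, 6), (76, 7), (76, 6), (9, 4), (76, 5), (76, 4), (74, 6), (74, 5), (55, 4), (47, 3), (47, 2), (74, 7), (74, 6), (55, 5), (47, 4), (47, 3), (75, 8), (75, 7), (56, 6), (8, 4), (76, 6), (76, 5), (76, 7), (76, 6), (9, 4), (74, 5), (74, 4), (7, 2), (74, 3), (74, 2), (75, 4), (75, 3), (76, 5), (76, 4), (76, 6), (76, 5)]⟩,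
    ⟨1, [0, 0, 0], [], [(59, 3), (42, 2), (17, 1), (75, 9), (75, 8), (56, 7), (8, 5), (77, 7), (77, 6), (77, 8), (77, 7), (77, 9), (77, 8), (10, 6), (70, 7), (70, 6), (51, 5), (36, 4), (36, 3), (64, 5), (66, 7), (66, 6), (10, 7), (75, 9), (75, 8), (65, 7), (56, 6), (77, 10), (77, 9), (69, 11), (69, 10), (59, 9), (59, 8), (50, 7), (42, 6), (35, 5), (35, 4), (17, 3), (17, 2), (2, 0), (60, 1), (60, 0), (64, 2), (64, 1), (64, 3), (64, 2), (65, 4), (65, 3), (65, 5), (65, 4), (66, 6), (66, 5), (70, 9), (70, 8), (60, 7), (60, 6), (51, 5), (43, 4), (43, 3), (36, 2), (36, 1), (64, 3), (65, 5), (65, 4), (75, 8), (75, 7), (65, 6), (65, 5), (11, 8), (76, 8), (66, 7), (66, 6), (77, 9), (10, 7), (77, 7), (77, 8), (77, 9), (10, 7), (11, 7), (55, 6), (47, 5), (47, 4), (7, 2), (55, 4), (47, 3), (47, 2), (56, 5), (8, 3), (56, 3), (74, 7), (74, 6), (55, 5), (55, 4), (47, 3), (74, 8), (74, 7), (55,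 6), (55, 5), (47, 4), (7, 2), (75, 6), (75, 5), (56, 4), (56, 3), (77, 7), (77, 6), (77, 8), (77, 7), (76, 9), (76, 8), (66, 7), (66, 6), (9, 4), (77, 7), (77, 6), (10, 4), (77, 5), (77, 4), (11, 5), (77, 5), (77, 6), (10, 4), (11, 4), (43, 3), (43, 2), (3, 0), (75, 3), (75, 2), (65, 1), (65, 0), (11, 3), (75, 3), (65, 2), (65, 1), (11, 4), (65, 3), (65, 2), (8, 0), (10, 0)], [], [(31, 2), (4, 0), (71, 2), (71, 1), (31, 0), (11, 2), (73, 2), (71, 3), (31, 2), (31, 1), (73, 4), (73, 3), (11, 4), (71, 5), (71, 4), (31, 3), (31, 2), (4, 0), (73, 2), (73, 1), (11, 2), (11, 2), (6, 0)], []⟩,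
    ⟨0, [7, 0], [0, 7, 9], [(67, 1), (40, 0), (67, 3), (67, 2), (40, 1), (11, 3), (41, 2), (70, 5), (60, 4), (43, 3), (77, 6), (77, 5), (11, 6), (63, 5), (46, 4), (77, 7), (77, 6)], [(77, 6)], [(57, 4), (40, 3), (33, 2), (27, 1), (27, 0), (46, 3), (46, 2), (75, 5), (75, 4), (11, 5), (75, 5), (8, 3), (75, 3), (74, 4), (47, 3), (75, 5), (77, 7), (77, 6), (11, 7), (67, 7), (57, 6), (40, 5), (40, 4), (33, 3), (27, 2), (27, 1), (46, 4), (46, 3), (75, 6), (75, 5), (11, 6), (75, 6), (8, 4), (75, 4), (74, 5), (47, 4), (75, 6), (75, 8), (75, 7), (8, 5), (11, 5), (11, 6), (58, 5), (34, 4), (28, 3), (28, 2), (63, 8), (63, 7), (54, 6), (46, 5), (39, 4), (75, 7), (75, 6), (11, 7), (76, 7), (77, 8), (77, 9), (74, 10), (64, 9), (64, 8), (55, 7), (47, 6), (75, 11), (65, 10), (65, 9), (56, 8), (76, 12), (66, 11), (66, 10), (77, 13), (10, 11), (77, 11), (74, 12), (64, 11), (55, 10), (55, 9), (47,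 8), (47, 7), (7, 5), (77, 11), (77, 10), (11, 11), (60, 10), (60, 9), (51, 8), (51, 7), (43, 6), (43, 5), (30, 4), (30, 3), (73, 7), (73, 6), (63, 5), (77, 8), (77, 7), (11, 8), (75, 8), (65, 7), (65, 6), (11, 9), (65, 8), (65, 7), (76, 11), (76, 10), (66, 9), (66, 8), (77, 12), (77, 11), (10, 9), (77, 10), (77, 9), (76, 11), (76, 10), (66, 9), (77, 12), (77, 11), (77, 13), (77, 12), (10, 10), (77, 11), (77, 10), (77, 12), (77, 11), (73, 13), (73, 12), (63, 11), (63, 10), (54, 9), (54, 8), (46, 7), (46, 6), (6, 4), (75, 6), (75, 5), (11, 6), (76, 6), (76, 7), (77, 8), (77, 9), (11, 10)], [(6, 4), (64, 6), (47, 5), (64, 7), (47, 6), (7, 4), (65, 5), (66, 6), (66, 7)]⟩,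
    ⟨3, [5, 3], [3, 5, 6, 6, 7, 8, 8, 10, 10], [(52, 4), (52, 3), (44, 2), (37, 1), (31, 0), (74, 3), (74, 2), (75, 4), (75, 3), (11, 4), (76, 4), (11, 5), (72, 7), (72, 6), (53, 5), (53, 4), (45, 3), (38, 2), (32, 1), (74, 10), (64, 9), (64, 8), (55, 7), (55, 6), (47, 5), (7, 3), (77, 8), (10, 6), (77, 6), (75, 8), (75, 7), (65, 6), (56, 5), (56, 4), (77, 9), (77, 8), (77, 10), (77, 9), (10, 7), (11, 7), (76, 7), (9, 5), (76, 6), (76, 5), (11, 6), (73, 7), (73, 6), (54, 5), (46, 4), (46, 3), (75, 6), (75, 5), (11, 6), (76, 6), (11, 7), (56, 6), (8, 4)], [(46, 3), (74, 6), (74, 5), (47, 4), (75, 7), (75, 6), (76, 8), (76, 7), (76, 9), (76, 8), (74, 10), (74, 9), (55, 8), (55, 7), (47, 6), (47, 5), (74, 11), (74, 10), (55, 9), (55, 8), (47, 7), (47, 6), (7, 4), (75, 9), (75, 8), (56, 7), (56, 6), (8, 4), (76, 7), (76, 6), (9, 4), (11, 4), (11, 5)], [(54, 2), (54, 3)], [(31, 1), (31,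 0), (73, 3), (73, 2), (11, 3), (72, 3), (32, 2), (32, 1), (73, 10), (63, 9), (63, 8), (54, 7), (54, 6), (46, 5), (39, 4), (39, 3), (74, 6), (74, 5), (11, 6), (75, 6), (11, 7), (74, 11), (64, 10), (64, 9), (55, 8), (55, 7), (47, 6), (7, 4), (74, 9), (64, 8), (64, 7), (55, 6), (55, 5), (47, 4), (75, 10), (65, 9), (65, 8), (56, 7), (56, 6), (76, 11), (66, 10), (66, 9), (9, 7), (76, 9), (66, 8), (66, 7), (77, 10), (10, 8), (77, 8), (11, 9), (66, 8), (64, 9), (55, 8), (55, 7), (47, 6), (47, 5), (64, 10), (55, 9), (55, 8), (47, 7), (47, 6), (7, 4), (65, 8), (56, 7), (56, 6), (8, 4), (66, 6), (9, 4), (76, 5), (66, 4), (77, 7), (77, 6), (11, 7), (77, 7), (10, 5), (11, 5)]⟩,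
    ⟨0, [6, 0], [0, 6, 9, 9, 10, 10], [(67, 3), (48, 2), (33, 1), (33, 0), (67, 6), (57, 5), (57, 4), (48, 3), (33, 2), (33, 1), (10, 5), (77, 6), (77, 5), (11, 6), (68, 7), (68, 6), (58, 5), (49, 4), (34, 3), (34, 2), (74, 4), (76, 6), (76, 5), (11, 6), (77, 6), (11, 7), (70, 7), (60, 6), (51, 5), (36, 4), (36, 3), (64, 5), (66, 7), (66, 6), (10, 7), (73, 9), (63, 8), (63, 7), (54, 6), (39, 5), (39, 4), (74, 7), (74, 6), (11, 7), (76, 7), (77, 8), (77, 9)], [(77, 8), (77, 10), (77, 9), (11, 10)], [(48, 1), (18, 0), (76, 4), (77, 5), (77, 6), (67, 7), (57, 6), (57, 5), (48, 4), (40, 3), (33, 2), (18, 1), (74, 5), (47, 4), (75, 6), (76, 8), (76, 7), (77, 9), (77, 8), (77, 10), (77, 9), (77, 11), (77, 10), (10, 8), (11, 8), (77, 8), (11, 9), (68, 9), (58, 8), (49, 7), (41, 6), (41, 5), (34, 4), (34, 3), (19, 2), (64, 8), (55, 7), (55, 6), (47, 5), (47, 4), (74, 10), (64, 9), (55, 8),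 (55, 7), (47, 6), (47, 5), (75, 12), (75, 11), (65, 10), (56, 9), (56, 8), (8, 6), (77, 10), (77, 9), (11, 10), (65, 9), (65, 8), (56, 7), (56, 6), (10, 9), (76, 9), (9, 7), (11, 7), (70, 9), (70, 8), (60, 7), (43, 6), (36, 5), (36, 4), (21, 3), (64, 11), (64, 10), (55, 9), (55, 8), (47, 7), (7, 5), (10, 8), (55, 7), (55, 6), (47, 5), (65, 9), (56, 8), (56, 7), (77, 12), (77, 11), (11, 12), (73, 12), (63, 11), (63, 10), (54, 9), (54, 8), (46, 7), (46, 6), (39, 5), (75, 8), (75, 7), (11, 8), (75, 8), (11, 9)], [(31, 4), (76, 7), (76, 6), (74, 8), (74, 7), (55, 6), (74, 9), (74, 8), (55, 7), (75, 10), (75, 9), (56, 8), (76, 11), (76, 10), (76, 12), (76, 11), (9, 9), (77, 10), (77, 9), (74, 11), (74, 10), (64, 9), (47, 8), (7, 6), (74, 9), (74, 8), (64, 7), (47, 6), (75, 10), (75, 9), (65, 8), (76, 11), (76, 10), (66, 9), (76, 12), (76, 11), (66, 10), (77, 13), (77, 12), (11, 13)]⟩,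
    ⟨0, [6, 2], [2, 6, 9, 9, 10], [(70, 3), (51, 2), (36, 1), (36, 0), (64, 2), (66, 4), (66, 3), (10, 4), (70, 5), (60, 4), (51, 3), (36, 2), (36, 1), (64, 3), (66, 5), (66, 4), (10, 5), (74, 7), (64, 6), (64, 5), (55, 4), (7, 2), (75, 5), (65, 4), (65, 3), (56, 2)], [(47, 3), (47, 4), (7, 2), (77, 4), (77, 6), (77, 5), (11, 6)], [(48, 1), (18, 0), (76, 4), (77, 5), (77, 6), (67, 7), (57, 6), (57, 5), (48, 4), (40, 3), (33, 2), (18, 1), (74, 5), (47, 4), (75, 6), (76, 8), (76, 7), (77, 9), (77, 8), (77, 10), (77, 9), (77, 11), (77, 10), (10, 8), (11, 8), (77, 8), (11, 9), (68, 9), (58, 8), (49, 7), (41, 6), (41, 5), (34, 4), (34, 3), (19, 2), (64, 8), (55, 7), (55, 6), (47, 5), (47, 4), (74, 10), (64, 9), (55, 8), (55, 7), (47, 6), (47, 5), (75, 12), (75, 11), (65, 10), (56, 9), (56, 8), (8, 6), (77, 10), (77, 9), (11, 10), (65, 9), (65, 8), (56, 7), (56, 6), (10, 9), (76, 9), (9,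 7), (11, 7), (72, 9), (72, 8), (62, 7), (45, 6), (38, 5), (38, 4), (74, 8), (64, 7), (64, 6), (77, 9), (10, 7), (77, 7), (75, 9), (75, 8), (65, 7), (77, 10), (77, 9), (77, 11), (77, 10), (10, 8), (11, 8), (77, 8), (11, 9), (63, 8), (46, 7), (39, 6), (39, 5), (74, 8), (74, 7), (11, 8), (75, 8), (11, 9), (64, 9), (47, 8), (7, 6), (64, 7), (47, 6)], [(37, 6), (37, 5), (31, 4), (26, 3), (63, 10), (63, 9), (54, 8), (46, 7), (46, 6), (39, 5), (75, 8), (75, 7), (11, 8), (75, 8), (11, 9), (74, 13), (74, 12), (64, 11), (64, 10), (55, 9), (47, 8), (47, 7), (74, 14), (74, 13), (64, 12), (64, 11), (55, 10), (47, 9), (47, 8), (7, 6), (76, 12), (76, 11), (66, 10), (66, 9), (74, 13), (74, 12), (64, 11), (64, 10), (55, 9), (55, 8), (47, 7), (47, 6), (74, 14), (74, 13), (64, 12), (64, 11), (55, 10), (55, 9), (47, 8), (47, 7), (75, 15), (75, 14), (65, 13), (65, 12), (56, 11), (56, 10), (8, 8), (76,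 13), (76, 12), (66, 11), (66, 10), (9, 8), (76, 11), (76, 10), (66, 9), (66, 8), (77, 12), (77, 11), (10, 9), (74, 10), (74, 9), (55, 8), (7, 6), (74, 8), (74, 7), (55, 6), (75, 9), (75, 8), (56, 7), (76, 10), (76, 9), (76, 11), (76, 10), (9, 8), (77, 9), (77, 8), (11, 9)]⟩,
    ⟨3, [3, 2], [2, 3, 6, 6, 8, 8, 9, 9], [(43, 3), (30, 2), (25, 1), (21, 0), (62, 8), (62, 7), (53, 6), (53, 5), (45, 4), (38, 3), (38, 2), (74, 6), (64, 5), (64, 4), (77, 7), (10, 5), (77, 5), (75, 7), (75, 6), (65, 5), (77, 8), (77, 7), (77, 9), (77, 8), (10, 6), (11, 6), (76, 6), (76, 8), (76, 7), (11, 8), (64, 9), (64, 8), (55, 7), (55, 6), (47, 5), (7, 3), (64, 7), (64, 6), (55, 5), (55, 4), (47, 3), (66, 8), (66, 7), (9, 5), (66, 6), (66, 5), (63, 7), (63, 6), (54, 5), (46, 4), (39, 3), (75, 6), (75, 5), (11, 6), (76, 6), (77, 7), (77, 8), (77, 9), (10, 7), (11, 7), (56, 6), (73, 9), (73, 8), (54, 7),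 (46, 6), (46, 5), (39, 4), (75, 7), (75, 6), (11, 7), (75, 7), (11, 8), (75, 10), (75, 9), (56, 8), (8, 6)], [(44, 2), (31, 1), (75, 4), (75, 3), (11, 4), (72, 4), (45, 3), (32, 2), (75, 11), (65, 10), (65, 9), (56, 8), (56, 7), (77, 12), (10, 10), (77, 10), (11, 11), (73, 11), (63, 10), (54, 9), (54, 8), (46, 7), (46, 6), (39, 5), (39, 4), (74, 7), (74, 6), (11, 7), (75, 7), (11, 8), (76, 10), (76, 9), (76, 11), (76, 10), (77, 12), (77, 11), (11, 12), (65, 11), (56, 10), (56, 9), (8, 7), (64, 9), (55, 8), (55, 7), (7, 5), (64, 7), (55, 6), (55, 5), (66, 8), (9, 6), (76, 7), (66, 6), (77, 9), (77, 8), (77, 10), (77, 9), (10, 7)], [(27, 1), (27, 0), (46, 3), (46, 2), (75, 5), (75, 4), (11, 5), (75, 5), (8, 3), (75, 3), (68, 4), (41, 3), (28, 2), (28, 1), (63, 7), (63, 6), (54, 5), (46, 4), (39, 3), (75, 6), (75, 5), (11, 6), (76, 6), (77, 7), (77, 8), (74, 9), (64, 8), (64, 7), (55,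 6), (47, 5), (75, 10), (65, 9), (65, 8), (56, 7), (76, 11), (66, 10), (66, 9), (77, 12), (10, 10), (77, 10), (75, 11), (65, 10), (56, 9), (56, 8), (8, 6), (77, 9), (11, 10), (60, 9), (60, 8), (51, 7), (51, 6), (36, 5), (36, 4), (30, 3), (30, 2), (73, 6), (73, 5), (63, 4), (77, 7), (77, 6), (11, 7), (74, 7), (64, 6), (64, 5), (77, 8), (10, 6), (74, 6), (77, 7), (76, 8), (66, 7), (77, 9), (77, 10), (10, 8), (76, 8), (77, 9), (77, 10), (77, 11), (10, 9), (77, 9), (70, 10), (60, 9), (51, 8), (51, 7), (36, 6), (36, 5), (30, 4), (30, 3), (73, 7), (73, 6), (63, 5), (77, 8), (77, 7), (11, 8), (74, 8), (64, 7), (64, 6), (77, 9), (10, 7), (74, 7), (77, 8), (76, 9), (66, 8), (77, 10), (77, 11), (10, 9), (76, 9), (77, 10), (77, 11), (77, 12), (10, 10), (73, 11), (73, 10), (54, 9), (54, 8), (39, 7), (39, 6), (6, 4), (74, 6), (74, 5), (11, 6), (76, 6), (76, 7), (11, 8)], [(63, 6), (63, 5), (63,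 7), (63, 6), (6, 4), (64, 5), (64, 4), (64, 6), (64, 5), (66, 7), (66, 6), (76, 9), (66, 8), (66, 7), (11, 10), (11, 10)]⟩,
    ⟨3, [3, 0], [0, 3, 6, 6, 8, 8, 10], [(40, 3), (27, 2), (22, 1), (18, 0), (72, 4), (45, 3), (38, 2), (75, 6), (65, 5), (65, 4), (77, 7), (10, 5), (77, 5), (11, 6), (73, 6), (63, 5), (46, 4), (39, 3), (75, 6), (75, 5), (11, 6), (77, 6), (73, 8), (73, 7), (63, 6), (46, 5), (39, 4), (75, 7), (75, 6), (11, 7), (77, 7), (11, 8), (64, 7), (47, 6), (65, 8), (66, 9), (10, 10), (73, 11), (73, 10), (54, 9), (46, 8), (46, 7), (39, 6), (39, 5), (6, 3), (74, 5), (74, 4), (11, 5), (75, 5), (11, 6), (76, 8), (76, 7), (11, 8), (75, 8), (56, 7), (8, 5), (75, 6), (56, 5), (75, 7), (56, 6), (68, 9), (68, 8), (49, 7), (41, 6), (41, 5), (34, 4), (34, 3), (23, 2), (19, 1), (62, 7), (53, 6), (53, 5), (45, 4), (45, 3), (75, 8), (75, 7), (65, 6), (65, 5), (77, 9), (77, 8), (10, 6),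 (77, 7), (77, 6), (11, 7), (76, 7), (66, 6), (76, 9), (76, 8), (66, 7), (11, 9), (63, 9), (63, 8), (54, 7), (54, 6), (46, 5), (46, 4), (75, 7), (75, 6), (11, 7), (76, 7), (76, 8), (77, 9), (77, 10), (74, 11), (64, 10), (64, 9), (55, 8), (55, 7), (47, 6), (47, 5), (74, 12), (64, 11), (64, 10), (55, 9), (55, 8), (47, 7), (47, 6), (75, 13), (65, 12), (65, 11), (56, 10), (56, 9), (8, 7), (75, 11), (65, 10), (65, 9), (56, 8), (56, 7), (76, 12), (66, 11), (66, 10), (9, 8), (77, 10), (10, 8), (77, 8), (74, 9), (64, 8), (47, 7), (7, 5), (74, 8), (74, 7), (64, 6), (47, 5), (11, 8), (65, 7), (75, 10), (65, 9), (65, 8), (8, 6), (77, 8), (10, 6), (76, 7), (76, 6), (11, 7), (11, 7), (51, 6), (36, 5), (30, 4), (25, 3), (21, 2), (62, 10), (62, 9), (53, 8), (53, 7), (45, 6), (38, 5), (38, 4), (74, 8), (64, 7), (64, 6), (77, 9), (10, 7), (77, 7), (75, 9), (75, 8), (65, 7), (77, 10), (77, 9), (77,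 11), (77, 10), (10, 8), (11, 8), (76, 8), (76, 10), (76, 9), (11, 10), (64, 11), (64, 10), (55, 9), (55, 8), (47, 7), (7, 5), (64, 9), (64, 8), (55, 7), (55, 6), (47, 5), (66, 10), (66, 9), (9, 7), (66, 8), (66, 7), (63, 9), (63, 8), (54, 7), (46, 6), (39, 5), (75, 8), (75, 7), (11, 8), (76, 8), (77, 9), (77, 10), (77, 11), (10, 9), (11, 9), (55, 8), (47, 7), (66, 10), (10, 11)], [(47, 6), (47, 7), (76, 10), (11, 11)], [(27, 1), (27, 0), (46, 3), (46, 2), (75, 5), (75, 4), (11, 5), (75, 5), (8, 3), (75, 3), (68, 4), (41, 3), (28, 2), (28, 1), (63, 7), (63, 6), (54, 5), (46, 4), (39, 3), (75, 6), (75, 5), (11, 6), (76, 6), (77, 7), (77, 8), (74, 9), (64, 8), (64, 7), (55, 6), (47, 5), (75, 10), (65, 9), (65, 8), (56, 7), (76, 11), (66, 10), (66, 9), (77, 12), (10, 10), (77, 10), (75, 11), (65, 10), (56, 9), (56, 8), (8, 6), (77, 9), (11, 10), (60, 9), (60, 8), (51, 7), (51, 6), (36,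 5), (36, 4), (30, 3), (30, 2), (73, 6), (73, 5), (63, 4), (77, 7), (77, 6), (11, 7), (74, 7), (64, 6), (64, 5), (77, 8), (10, 6), (74, 6), (77, 7), (76, 8), (66, 7), (77, 9), (77, 10), (10, 8), (76, 8), (77, 9), (77, 10), (77, 11), (10, 9), (77, 9)], [(76, 8), (77, 10), (77, 9), (11, 10)]⟩,
    ⟨4, [6, 1], [1, 6], [(68, 0), (70, 1), (72, 2), (75, 3), (76, 4), (76, 5), (77, 6)], [], [(34, 5), (28, 4), (23, 3), (16, 2), (14, 1), (14, 0), (69, 5), (42, 4), (42, 3), (20, 2), (75, 8), (56, 7), (8, 5), (77, 6), (77, 7), (75, 8), (65, 7), (65, 6), (56, 5), (77, 9), (10, 7), (77, 7), (71, 9), (71, 8), (61, 7), (52, 6), (44, 5), (37, 4), (76, 8), (76, 7), (11, 8), (77, 8), (11, 9), (65, 8), (56, 7), (65, 9), (56, 8), (8, 6), (70, 8), (60, 7), (51, 6), (36, 5), (21, 4), (21, 3), (61, 11), (61, 10), (52, 9), (52, 8), (44, 7), (37, 6), (37, 5), (76, 10), (76, 9), (11, 10), (76, 10), (11, 11),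 (64, 12), (64, 11), (55, 10), (55, 9), (47, 8), (7, 6), (64, 10), (64, 9), (55, 8), (55, 7), (47, 6), (65, 11), (65, 10), (56, 9), (56, 8), (66, 12), (66, 11), (9, 9), (66, 10), (66, 9), (10, 10), (64, 10), (55, 9), (47, 8), (47, 7), (66, 12), (66, 11), (10, 12), (71, 14), (61, 13), (61, 12), (52, 11), (52, 10), (44, 9), (44, 8), (37, 7), (37, 6), (4, 4), (75, 8), (75, 7), (11, 8), (76, 8), (11, 9), (77, 11), (77, 10), (77, 12), (77, 11), (11, 12), (63, 11), (63, 10), (54, 9), (54, 8), (46, 7), (46, 6), (39, 5), (39, 4), (74, 7), (74, 6), (11, 7), (75, 7), (11, 8), (76, 10), (76, 9), (76, 11), (76, 10), (77, 12), (77, 11), (77, 13), (77, 12), (73, 14), (73, 13), (63, 12), (63, 11), (54, 10), (54, 9), (46, 8), (46, 7), (39, 6), (39, 5), (74, 8), (74, 7), (11, 8), (75, 8), (11, 9), (76, 11), (76, 10), (76, 12), (76, 11), (77, 13), (77, 12), (77, 14), (77, 13), (11, 14), (74, 14), (64,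 13), (64, 12), (55, 11), (55, 10), (47, 9), (47, 8), (7, 6), (74, 12), (64, 11), (64, 10), (55, 9), (55, 8), (47, 7), (47, 6), (75, 13), (65, 12), (65, 11), (56, 10), (56, 9), (8, 7), (76, 11), (66, 10), (66, 9), (9, 7), (77, 9), (10, 7), (77, 7), (72, 8), (62, 7), (38, 6), (32, 5), (32, 4), (73, 13), (63, 12), (63, 11), (54, 10), (54, 9), (46, 8), (39, 7), (39, 6), (74, 9), (74, 8), (11, 9), (75, 9), (11, 10), (74, 14), (64, 13), (64, 12), (55, 11), (55, 10), (47, 9), (7, 7), (74, 12), (64, 11), (64, 10), (55, 9), (55, 8), (47, 7), (75, 13), (65, 12), (65, 11), (56, 10), (56, 9), (76, 14), (66, 13), (66, 12), (9, 10), (76, 12), (66, 11), (66, 10), (77, 13), (10, 11), (77, 11), (74, 13), (74, 12), (64, 11), (55, 10), (47, 9), (47, 8), (77, 14), (77, 13), (77, 15), (77, 14), (10, 12), (11, 12), (73, 13), (63, 12), (54, 11), (46, 10), (46, 9), (39, 8), (39, 7), (6, 5), (74, 7), (74,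 6), (11, 7), (75, 7), (11, 8), (76, 10), (76, 9), (77, 11), (77, 10), (11, 11), (64, 10), (55, 9), (47, 8), (47, 7), (7, 5), (64, 8), (55, 7), (47, 6), (47, 5), (65, 9), (56, 8), (8, 6), (65, 7), (56, 6), (66, 8), (10, 9), (54, 8), (54, 7), (46, 6), (39, 5), (75, 8), (75, 7), (11, 8), (76, 8), (76, 9), (74, 10), (55, 9), (55, 8), (47, 7), (75, 11), (56, 10), (56, 9), (76, 12), (9, 10), (77, 10), (77, 11), (74, 12), (64, 11), (64, 10), (47, 9), (47, 8), (7, 6), (70, 11), (70, 10), (60, 9), (60, 8), (43, 7), (43, 6), (30, 5), (25, 4), (54, 9), (54, 8), (39, 7), (39, 6), (74, 9), (74, 8), (11, 9), (76, 9), (76, 10), (77, 11), (11, 12), (65, 11), (56, 10), (56, 9), (75, 14), (75, 13), (65, 12), (56, 11), (56, 10), (11, 14), (77, 14), (77, 15), (10, 13), (11, 13), (53, 12), (53, 11), (45, 10), (45, 9), (38, 8), (38, 7), (32, 6), (74, 15), (64, 14), (64, 13), (55, 12), (55, 11), (47, 10),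 (7, 8), (77, 13), (10, 11), (77, 11), (74, 13), (74, 12), (64, 11), (55, 10), (55, 9), (47, 8), (77, 14), (77, 13), (77, 15), (77, 14), (10, 12), (11, 12), (56, 11), (56, 10), (75, 16), (75, 15), (65, 14), (65, 13), (56, 12), (56, 11), (8, 9), (77, 14), (77, 13), (10, 11), (77, 12), (77, 11), (11, 12), (76, 12), (66, 11), (9, 9), (76, 11), (76, 10), (66, 9), (11, 11), (65, 10), (56, 9), (66, 11), (66, 12), (9, 10)], [(59, 6), (50, 5), (50, 4), (42, 3), (24, 2), (17, 1), (72, 9), (72, 8), (53, 7), (45, 6), (45, 5), (38, 4), (38, 3), (74, 7), (64, 6), (64, 5), (77, 8), (10, 6), (77, 6), (75, 8), (75, 7), (65, 6), (77, 9), (77, 8), (77, 10), (77, 9), (10, 7), (11, 7), (75, 7), (77, 8), (77, 9), (11, 10), (66, 9), (66, 8), (11, 11), (65, 10), (65, 9), (56, 8), (8, 6), (10, 7), (75, 7), (56, 6), (77, 8), (77, 9), (76, 10), (66, 9), (66, 8), (77, 11), (10, 9), (77, 9), (11, 10), (66, 9),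 (9, 7), (10, 7), (77, 8), (77, 7), (69, 9), (69, 8), (59, 7), (42, 6), (35, 5), (35, 4), (24, 3), (17, 2), (72, 10), (72, 9), (53, 8), (45, 7), (45, 6), (38, 5), (38, 4), (74, 8), (64, 7), (64, 6), (77, 9), (10, 7), (77, 7), (75, 9), (75, 8), (65, 7), (77, 10), (77, 9), (77, 11), (77, 10), (10, 8), (11, 8), (75, 8), (77, 9), (77, 10), (11, 11), (66, 10), (66, 9), (11, 12), (65, 11), (65, 10), (56, 9), (8, 7), (10, 8), (74, 8), (55, 7), (7, 5), (74, 6), (55, 5), (75, 7), (56, 6), (77, 8), (77, 9), (77, 10), (10, 8), (11, 8), (51, 7), (43, 6), (36, 5), (25, 4), (55, 9), (55, 8), (7, 6), (65, 8), (56, 7), (56, 6), (76, 11), (76, 10), (66, 9), (9, 7), (77, 9), (77, 8), (77, 10), (77, 9), (10, 7), (72, 8), (72, 7), (45, 6), (11, 10), (73, 10), (63, 9), (63, 8), (46, 7), (77, 10), (77, 9), (77, 11), (77, 10), (11, 11), (64, 10), (64, 9), (47, 8)]⟩,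
    ⟨3, [2, 1], [1, 2, 6, 7], [(42, 2), (29, 1), (17, 0), (73, 8), (73, 7), (54, 6), (46, 5), (46, 4), (39, 3), (39, 2), (74, 5), (74, 4), (11, 5), (75, 5), (11, 6), (76, 8), (76, 7), (11, 8), (74, 8), (55, 7), (47, 6), (47, 5), (7, 3), (74, 6), (55, 5), (47, 4), (47, 3), (75, 7), (56, 6), (8, 4), (76, 5), (76, 6), (9, 4), (11, 4), (60, 6), (60, 5), (43, 4), (36, 3), (30, 2), (74, 6), (74, 5), (64, 4), (77, 7), (77, 6), (75, 8), (75, 7), (65, 6), (65, 5), (11, 8), (77, 8), (10, 6), (77, 6), (72, 7), (62, 6), (45, 5), (38, 4), (32, 3), (74, 12), (64, 11), (64, 10), (55, 9), (55, 8), (47, 7), (7, 5), (77, 10), (10, 8), (77, 8), (75, 10), (75, 9), (65, 8), (56, 7), (56, 6), (77, 11), (77, 10), (77, 12), (77, 11), (10, 9), (11, 9), (77, 9), (75, 11), (75, 10), (65, 9), (56, 8), (56, 7), (8, 5), (76, 9), (76, 8), (66, 7), (9, 5), (76, 7), (76, 6), (66, 5)], [(51, 5), (51, 4), (43, 3),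 (25, 2), (56, 7), (56, 6), (76, 10), (76, 9), (9, 7), (77, 8), (77, 7), (77, 9), (77, 8), (76, 10), (76, 9), (66, 8), (66, 7), (77, 11), (77, 10), (10, 8), (77, 9), (77, 8), (73, 10), (73, 9), (63, 8), (54, 7), (46, 6), (39, 5), (39, 4), (74, 7), (74, 6), (11, 7), (75, 7), (11, 8), (75, 11), (75, 10), (65, 9), (56, 8), (74, 12), (74, 11), (64, 10), (55, 9), (47, 8), (47, 7), (7, 5), (75, 10), (75, 9), (65, 8), (56, 7), (8, 5)], [(62, 6), (62, 5), (32, 4), (77, 13), (10, 11), (77, 11), (72, 12), (62, 11), (53, 10), (53, 9), (45, 8), (38, 7), (38, 6), (32, 5), (74, 14), (64, 13), (64, 12), (55, 11), (55, 10), (47, 9), (7, 7), (77, 12), (10, 10), (77, 10), (74, 12), (74, 11), (64, 10), (55, 9), (55, 8), (47, 7), (77, 13), (77, 12), (77, 14), (77, 13), (10, 11), (11, 11), (56, 10), (56, 9), (76, 15), (76, 14), (66, 13), (66, 12), (9, 10), (11, 12), (66, 11), (66, 10), (77, 13), (10,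 11), (74, 12), (74, 11), (55, 10), (47, 9), (47, 8)], [(33, 2), (22, 1), (22, 0), (72, 10), (72, 9), (62, 8), (62, 7), (53, 6), (45, 5), (38, 4), (32, 3), (32, 2), (73, 11), (63, 10), (63, 9), (54, 8), (54, 7), (46, 6), (39, 5), (39, 4), (74, 7), (74, 6), (11, 7), (75, 7), (11, 8), (74, 12), (64, 11), (64, 10), (55, 9), (55, 8), (47, 7), (7, 5), (74, 10), (64, 9), (64, 8), (55, 7), (55, 6), (47, 5), (75, 11), (65, 10), (65, 9), (56, 8), (56, 7), (76, 12), (66, 11), (66, 10), (9, 8), (76, 10), (66, 9), (66, 8), (77, 11), (10, 9), (77, 9), (74, 11), (74, 10), (64, 9), (55, 8), (47, 7), (47, 6), (77, 12), (77, 11), (77, 13), (77, 12), (10, 10), (11, 10), (56, 9), (8, 7), (76, 11), (76, 10), (66, 9), (66, 8), (11, 11), (10, 9), (73, 11), (73, 10), (63, 9), (54, 8), (54, 7), (39, 6), (39, 5), (6, 3), (74, 5), (74, 4), (11, 5), (76, 5), (76, 6), (77, 7), (11, 8), (63, 7), (54, 6), (54,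 5), (39, 4), (39, 3), (74, 6), (74, 5), (11, 6), (76, 6), (76, 7), (77, 8), (74, 9), (64, 8), (55, 7), (55, 6), (7, 4), (75, 7), (65, 6), (56, 5), (56, 4), (76, 8), (66, 7), (9, 5), (77, 6), (77, 7), (10, 5), (11, 5), (47, 4), (41, 5), (34, 4), (28, 3), (23, 2), (23, 1), (62, 10), (62, 9), (53, 8), (45, 7), (45, 6), (38, 5), (38, 4), (32, 3), (74, 12), (64, 11), (64, 10), (55, 9), (55, 8), (47, 7), (7, 5), (77, 10), (10, 8), (77, 8), (74, 10), (74, 9), (64, 8), (55, 7), (55, 6), (47, 5), (77, 11), (77, 10), (77, 12), (77, 11), (10, 9), (11, 9), (56, 8), (56, 7), (75, 13), (75, 12), (65, 11), (65, 10), (56, 9), (56, 8), (8, 6), (77, 11), (77, 10), (10, 8), (77, 9), (77, 8), (11, 9), (76, 9), (66, 8), (9, 6), (77, 8), (77, 7), (77, 9), (77, 8), (10, 6), (73, 7), (73, 6), (39, 5), (11, 7), (74, 7), (74, 8), (7, 6), (75, 6), (75, 7), (76, 8), (77, 9), (77, 10), (73, 11), (63, 10), (63,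 9), (54, 8), (46, 7), (46, 6), (6, 4), (75, 6), (75, 5), (11, 6), (76, 6), (77, 7), (77, 8), (74, 10), (74, 9), (64, 8), (64, 7), (55, 6), (47, 5), (47, 4), (75, 11), (75, 10), (65, 9), (65, 8), (56, 7), (8, 5), (76, 9), (76, 8), (66, 7), (66, 6), (77, 10), (77, 9), (10, 7), (77, 8), (77, 7), (74, 9), (74, 8), (64, 7), (55, 6), (55, 5), (11, 9), (65, 8), (56, 7), (56, 6), (70, 11), (60, 10), (60, 9), (51, 8), (51, 7), (43, 6), (36, 5), (36, 4), (25, 3), (25, 2), (53, 7), (53, 6), (38, 5), (38, 4), (74, 8), (64, 7), (64, 6), (77, 9), (10, 7), (77, 7), (76, 9), (76, 8), (66, 7), (11, 9), (66, 8), (74, 10), (64, 9), (55, 8), (55, 7), (7, 5), (74, 8), (64, 7), (55, 6), (55, 5), (76, 9), (66, 8), (9, 6), (76, 7), (66, 6), (74, 8), (64, 7), (55, 6), (77, 9), (74, 10), (64, 9), (64, 8), (55, 7), (7, 5), (77, 8), (10, 6), (75, 6), (56, 5), (11, 7), (66, 9), (66, 8), (9, 6), (10, 6), (10,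 6), (70, 6), (43, 5), (25, 4), (25, 3), (53, 8), (53, 7), (38, 6), (38, 5), (74, 9), (64, 8), (64, 7), (77, 10), (10, 8), (77, 8), (76, 10), (76, 9), (66, 8), (11, 10), (66, 9), (74, 11), (64, 10), (55, 9), (55, 8), (7, 6), (74, 9), (64, 8), (55, 7), (55, 6), (76, 10), (66, 9), (9, 7), (76, 8), (66, 7), (75, 9), (65, 8), (56, 7), (11, 10), (73, 10), (63, 9), (54, 8), (46, 7), (39, 6), (75, 9), (75, 8), (11, 9), (76, 9), (77, 10), (77, 12), (77, 11), (77, 13), (77, 12), (10, 10), (74, 11), (74, 10), (55, 9), (47, 8), (75, 12), (75, 11), (56, 10)]⟩,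
    ⟨4, [6, 6, 6], [], [(11, 0)], [], [(35, 5), (29, 4), (24, 3), (17, 2), (2, 0), (60, 1), (60, 0), (64, 2), (64, 1), (64, 3), (64, 2), (65, 4), (65, 3), (65, 5), (65, 4), (66, 6), (66, 5), (72, 9), (72, 8), (62, 7), (62, 6), (53, 5), (45, 4), (45, 3), (38, 2), (38, 1), (74, 5), (64, 4), (64, 3), (77, 6), (10, 4), (77, 4), (75, 6), (75, 5), (65, 4), (77, 7), (77, 6), (77, 8), (77, 7), (10, 5), (11, 5), (75, 5), (77, 6), (77, 7), (11, 8), (66, 7), (66, 6), (77, 9), (10, 7), (77, 7), (11, 8), (65, 7), (56, 6), (8, 4), (73, 7), (63, 6), (63, 5), (54, 4), (39, 3), (39, 2), (74, 5), (74, 4), (11, 5), (76, 5), (77, 6), (77, 7), (74, 9), (74, 8), (64, 7), (64, 6), (55, 5), (7, 3), (74, 7), (74, 6), (64, 5), (64, 4), (55, 3), (75, 8), (75, 7), (65, 6), (65, 5), (56, 4), (76, 9), (76, 8), (66, 7), (66, 6), (76, 10), (76, 9), (66, 8), (66, 7), (9, 5), (11, 7), (74, 7), (64, 6), (64, 5), (47,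 4), (69, 8), (59, 7), (59, 6), (42, 5), (35, 4), (35, 3), (29, 2), (24, 1), (17, 0), (72, 8), (72, 7), (53, 6), (45, 5), (45, 4), (38, 3), (38, 2), (74, 6), (64, 5), (64, 4), (77, 7), (10, 5), (77, 5), (75, 7), (75, 6), (65, 5), (77, 8), (77, 7), (77, 9), (77, 8), (10, 6), (11, 6), (75, 6), (77, 7), (77, 8), (11, 9), (66, 8), (66, 7), (11, 10), (65, 9), (65, 8), (56, 7), (8, 5), (10, 6), (73, 6), (54, 5), (39, 4), (39, 3), (74, 6), (74, 5), (11, 6), (76, 6), (74, 8), (74, 7), (55, 6), (7, 4), (74, 6), (74, 5), (55, 4), (75, 7), (75, 6), (56, 5), (76, 8), (76, 7), (76, 9), (76, 8), (9, 6), (11, 6), (74, 6), (47, 5), (74, 7), (47, 6), (7, 4), (75, 5), (77, 6), (77, 7), (77, 8), (10, 6), (77, 6), (70, 8), (70, 7), (60, 6), (43, 5), (43, 4), (30, 3), (25, 2), (54, 7), (54, 6), (39, 5), (39, 4), (74, 7), (74, 6), (11, 7), (76, 7), (76, 8), (77, 9), (11, 10), (65, 9), (56, 8), (56, 7),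 (75, 12), (75, 11), (65, 10), (56, 9), (56, 8), (11, 12), (77, 12), (11, 13), (62, 12), (62, 11), (53, 10), (53, 9), (45, 8), (45, 7), (38, 6), (38, 5), (32, 4), (74, 13), (64, 12), (64, 11), (55, 10), (55, 9), (47, 8), (7, 6), (77, 11), (10, 9), (77, 9), (74, 11), (74, 10), (64, 9), (55, 8), (55, 7), (47, 6), (77, 12), (77, 11), (77, 13), (77, 12), (10, 10), (11, 10), (56, 9), (56, 8), (75, 14), (75, 13), (65, 12), (65, 11), (56, 10), (56, 9), (8, 7), (77, 12), (77, 11), (10, 9), (77, 10), (77, 9), (11, 10), (76, 10), (66, 9), (9, 7), (76, 9), (76, 8), (66, 7), (11, 9), (10, 8), (54, 7), (39, 6), (76, 9), (76, 8), (74, 10), (74, 9), (55, 8), (69, 11), (69, 10), (50, 9), (35, 8), (35, 7), (29, 6), (29, 5), (24, 4), (24, 3), (17, 2), (17, 1), (70, 9), (70, 8), (51, 7), (43, 6), (43, 5), (36, 4), (36, 3), (64, 5), (65, 7), (65, 6), (75, 10), (75, 9), (65, 8), (65, 7), (11, 10), (76,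 10), (66, 9), (66, 8), (77, 11), (10, 9), (77, 9), (11, 10), (64, 9), (55, 8), (47, 7), (47, 6), (7, 4), (64, 7), (55, 6), (47, 5), (47, 4), (65, 8), (56, 7), (8, 5), (65, 6), (56, 5), (66, 7), (72, 10), (72, 9), (62, 8), (53, 7), (53, 6), (45, 5), (38, 4), (75, 8), (65, 7), (65, 6), (77, 9), (10, 7), (77, 7), (11, 8), (66, 7), (76, 9), (66, 8), (77, 11), (77, 10), (11, 11), (75, 11), (65, 10), (65, 9), (56, 8), (56, 7), (77, 12), (10, 10), (72, 11), (72, 10), (53, 9), (53, 8), (45, 7), (45, 6), (38, 5), (75, 9), (65, 8), (65, 7), (77, 10), (10, 8), (77, 8), (11, 9), (65, 8), (10, 9), (76, 10), (76, 9), (11, 10), (11, 11), (56, 10), (56, 9), (8, 7), (73, 10), (63, 9), (54, 8), (54, 7), (39, 6), (76, 9), (76, 8), (76, 10), (76, 9), (77, 11), (77, 10), (11, 11), (64, 10), (55, 9), (55, 8), (64, 11), (55, 10), (55, 9), (7, 7), (65, 9), (56, 8), (56, 7), (66, 10), (9, 8), (66, 8), (73,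 11), (73, 10), (63, 9), (54, 8), (46, 7), (76, 10), (76, 9), (77, 11), (77, 10), (11, 11), (74, 11), (64, 10), (55, 9), (47, 8), (74, 12), (64, 11), (55, 10), (47, 9), (75, 13), (65, 12), (56, 11), (76, 14), (66, 13), (76, 15), (66, 14), (9, 12), (11, 13), (64, 12), (47, 11), (47, 10), (7, 8), (64, 10), (47, 9), (47, 8), (66, 11), (10, 12), (11, 12), (69, 12), (50, 11), (42, 10), (42, 9), (35, 8), (29, 7), (29, 6), (24, 5), (24, 4), (17, 3), (17, 2), (2, 0), (60, 1), (60, 0), (64, 2), (64, 1), (64, 3), (64, 2), (65, 4), (65, 3), (65, 5), (65, 4), (66, 6), (66, 5), (70, 9), (70, 8), (60, 7), (60, 6), (51, 5), (43, 4), (43, 3), (36, 2), (36, 1), (64, 3), (65, 5), (65, 4), (75, 8), (75, 7), (65, 6), (65, 5), (11, 8), (76, 8), (66, 7), (66, 6), (77, 9), (10, 7), (77, 7), (77, 8), (77, 9), (10, 7), (11, 7), (55, 6), (47, 5), (47, 4), (7, 2), (55, 4), (47, 3), (47, 2), (56, 5), (8, 3),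 (56, 3), (72, 7), (72, 6), (53, 5), (53, 4), (45, 3), (38, 2), (75, 6), (65, 5), (65, 4), (77, 7), (10, 5), (77, 5), (11, 6), (66, 5), (76, 7), (66, 6), (11, 8), (75, 8), (65, 7), (56, 6), (56, 5), (77, 9), (72, 11), (72, 10), (62, 9), (62, 8), (53, 7), (53, 6), (45, 5), (45, 4), (38, 3), (75, 7), (65, 6), (65, 5), (77, 8), (10, 6), (77, 6), (11, 7), (65, 6), (10, 7), (76, 8), (76, 7), (11, 8), (77, 9), (77, 10), (11, 11), (65, 10), (65, 9), (56, 8), (56, 7), (8, 5), (10, 7), (73, 7), (54, 6), (54, 5), (39, 4), (76, 7), (76, 6), (76, 8), (76, 7), (11, 8), (55, 7), (55, 6), (55, 8), (55, 7), (7, 5), (56, 6), (56, 5), (9, 6), (73, 8), (73, 7), (54, 6), (46, 5), (76, 8), (76, 7), (11, 8), (74, 8), (55, 7), (47, 6), (74, 9), (55, 8), (47, 7), (75, 10), (56, 9), (76, 11), (76, 12), (9, 10), (11, 10), (47, 9), (47, 8), (7, 6), (8, 6), (65, 7), (65, 6), (10, 7), (66, 7), (10, 8), (11, 8),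 (51, 7), (43, 6), (30, 5), (30, 4), (25, 3), (25, 2), (3, 0), (72, 3), (72, 2), (62, 1), (62, 0), (74, 4), (74, 3), (64, 2), (64, 1), (74, 5), (74, 4), (64, 3), (64, 2), (76, 6), (76, 5), (66, 4), (66, 3), (76, 7), (76, 6), (66, 5), (66, 4), (72, 8), (72, 7), (62, 6), (62, 5), (53, 4), (53, 3), (38, 2), (38, 1), (74, 5), (64, 4), (64, 3), (77, 6), (10, 4), (77, 4), (76, 6), (76, 5), (66, 4), (11, 6), (66, 5), (77, 7), (77, 8), (10, 6), (11, 6), (55, 5), (55, 4), (7, 2), (55, 3), (55, 2), (9, 3), (54, 3), (39, 2), (76, 5), (76, 4), (77, 6), (77, 5), (11, 6), (73, 6), (63, 5), (54, 4), (39, 3), (76, 6), (76, 5), (77, 7), (77, 6), (11, 7), (75, 9), (75, 8), (65, 7), (65, 6), (56, 5), (11, 9), (76, 9), (66, 8), (66, 7), (77, 10), (10, 8), (77, 8), (72, 9), (62, 8), (53, 7), (53, 6), (45, 5), (38, 4), (32, 3), (32, 2), (5, 0), (73, 8), (63, 7), (63, 6), (54, 5), (54, 4), (46, 3), (39,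 2), (39, 1), (74, 4), (74, 3), (11, 4), (75, 4), (11, 5), (74, 9), (64, 8), (64, 7), (55, 6), (55, 5), (47, 4), (7, 2), (74, 7), (64, 6), (64, 5), (55, 4), (55, 3), (47, 2), (75, 8), (65, 7), (65, 6), (56, 5), (56, 4), (76, 9), (66, 8), (66, 7), (9, 5), (76, 7), (66, 6), (66, 5), (77, 8), (10, 6), (77, 6), (74, 8), (74, 7), (64, 6), (55, 5), (47, 4), (47, 3), (77, 9), (77, 8), (77, 10), (77, 9), (10, 7), (11, 7), (56, 6), (8, 4), (76, 8), (76, 7), (66, 6), (66, 5), (11, 8), (66, 7), (66, 6), (9, 4), (77, 6), (10, 4), (73, 5), (73, 4), (39, 3), (39, 2), (6, 0), (74, 2), (74, 1), (11, 2), (11, 2), (7, 0)], []⟩,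
    ⟨3, [1, 0], [0, 1, 6, 6, 7, 9, 9], [(48, 5), (48, 4), (40, 3), (22, 2), (15, 1), (13, 0), (60, 11), (60, 10), (51, 9), (51, 8), (43, 7), (43, 6), (36, 5), (36, 4), (21, 3), (21, 2), (61, 10), (61, 9), (52, 8), (52, 7), (44, 6), (37, 5), (37, 4), (76, 9), (76, 8), (11, 9), (76, 9), (11, 10), (64, 11), (64, 10), (55, 9), (55, 8), (47, 7), (7, 5), (64, 9), (64, 8), (55, 7), (55, 6), (47, 5), (65, 10), (65, 9), (56, 8), (56, 7), (66, 11), (66, 10), (9, 8), (66, 9), (66, 8), (10, 9), (64, 9), (55, 8), (47, 7), (47, 6), (64, 11), (64, 10), (55, 9), (47, 8), (47, 7), (7, 5), (10, 8), (56, 7), (8, 5), (75, 7), (75, 6), (56, 5), (11, 7), (76, 7), (77, 8), (77, 9), (76, 10), (66, 9), (66, 8), (9, 6), (77, 8), (10, 6), (77, 6), (77, 7), (77, 8), (10, 6), (71, 6), (44, 5), (4, 3), (11, 4), (44, 3), (73, 6), (73, 5), (46, 4), (11, 6), (74, 6), (47, 5), (75, 7), (75, 8), (8, 6), (76, 6), (77,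 7), (77, 8), (11, 9), (62, 8), (62, 7), (53, 6), (38, 5), (32, 4), (74, 13), (64, 12), (64, 11), (55, 10), (55, 9), (47, 8), (7, 6), (77, 11), (10, 9), (77, 9), (76, 11), (76, 10), (66, 9), (9, 7), (11, 8), (10, 7), (46, 6), (73, 9), (73, 8), (46, 7), (6, 5), (11, 6), (74, 6), (47, 5), (75, 7), (76, 8), (77, 9), (77, 10), (11, 11), (65, 10), (65, 9), (56, 8), (8, 6), (76, 9), (66, 8), (66, 7), (77, 10), (10, 8), (77, 8), (76, 9), (66, 8), (9, 6), (77, 7), (77, 8), (10, 6), (68, 6), (34, 5), (23, 4), (19, 3), (16, 2), (14, 1), (70, 6), (43, 5), (43, 4), (21, 3), (65, 11), (65, 10), (56, 9), (56, 8), (75, 14), (75, 13), (65, 12), (65, 11), (56, 10), (56, 9), (8, 7), (11, 11), (71, 12), (71, 11), (61, 10), (61, 9), (52, 8), (52, 7), (37, 6), (37, 5), (76, 10), (76, 9), (11, 10), (77, 10), (77, 11), (11, 12), (63, 11), (63, 10), (54, 9), (54, 8), (39, 7), (39, 6), (74, 9), (74, 8), (11,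 9), (76, 9), (76, 10), (77, 11), (77, 12), (73, 13), (63, 12), (63, 11), (54, 10), (54, 9), (39, 8), (39, 7), (74, 10), (74, 9), (11, 10), (76, 10), (76, 11), (77, 12), (77, 13), (74, 15), (74, 14), (64, 13), (64, 12), (55, 11), (55, 10), (7, 8), (74, 13), (74, 12), (64, 11), (64, 10), (55, 9), (55, 8), (75, 14), (75, 13), (65, 12), (65, 11), (56, 10), (56, 9), (76, 15), (76, 14), (66, 13), (66, 12), (9, 10), (77, 13), (77, 12), (10, 10), (77, 11), (77, 10), (71, 12), (71, 11), (61, 10), (44, 9), (37, 8), (31, 7), (31, 6), (4, 4), (73, 6), (73, 5), (11, 6), (74, 6), (75, 7), (11, 8), (75, 10), (75, 9), (65, 8), (75, 11), (75, 10), (65, 9), (8, 7), (76, 9), (76, 8), (66, 7), (76, 10), (76, 9), (66, 8), (77, 11), (77, 10), (72, 12), (72, 11), (62, 10), (62, 9), (53, 8), (53, 7), (38, 6), (32, 5), (32, 4), (73, 13), (63, 12), (63, 11), (54, 10), (54, 9), (46, 8), (39, 7), (39, 6), (74,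 9), (74, 8), (11, 9), (75, 9), (11, 10), (74, 14), (64, 13), (64, 12), (55, 11), (55, 10), (47, 9), (7, 7), (74, 12), (64, 11), (64, 10), (55, 9), (55, 8), (47, 7), (75, 13), (65, 12), (65, 11), (56, 10), (56, 9), (76, 14), (66, 13), (66, 12), (9, 10), (76, 12), (66, 11), (66, 10), (77, 13), (10, 11), (77, 11), (74, 13), (74, 12), (64, 11), (55, 10), (47, 9), (47, 8), (77, 14), (77, 13), (77, 15), (77, 14), (10, 12), (11, 12), (76, 13), (9, 11), (77, 12), (77, 11), (77, 13), (77, 12), (11, 13), (73, 13), (63, 12), (63, 11), (46, 10), (46, 9), (39, 8), (39, 7), (6, 5), (74, 7), (74, 6), (11, 7), (75, 7), (11, 8), (77, 10), (77, 9), (77, 11), (77, 10), (11, 11), (64, 10), (64, 9), (47, 8), (47, 7), (7, 5), (64, 8), (64, 7), (47, 6), (47, 5), (65, 9), (65, 8), (8, 6), (65, 7), (65, 6), (66, 8), (66, 7), (10, 8), (64, 8), (55, 7), (47, 6), (70, 11), (70, 10), (60, 9), (51, 8), (43, 7),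 (36, 6), (36, 5), (25, 4), (55, 9), (55, 8), (7, 6), (64, 8), (55, 7), (55, 6), (65, 10), (65, 9), (56, 8), (56, 7), (76, 13), (76, 12), (66, 11), (66, 10), (9, 8), (77, 11), (77, 10), (10, 8), (77, 9), (77, 8), (77, 10), (77, 9), (11, 10)], [(17, 2), (70, 10), (70, 9), (51, 8), (43, 7), (43, 6), (36, 5), (36, 4), (64, 6), (65, 8), (65, 7), (75, 11), (75, 10), (65, 9), (65, 8), (11, 11), (76, 11), (66, 10), (66, 9), (77, 12), (10, 10), (77, 10), (11, 11), (62, 10), (53, 9), (45, 8), (45, 7), (38, 6), (38, 5), (74, 9), (64, 8), (64, 7), (77, 10), (10, 8), (77, 8), (75, 10), (75, 9), (65, 8), (77, 11), (77, 10), (77, 12), (77, 11), (10, 9), (11, 9), (75, 9), (77, 10), (77, 11), (11, 12), (66, 11), (66, 10), (77, 13), (10, 11), (75, 11), (56, 10), (8, 8), (76, 9), (76, 10), (9, 8), (74, 8), (7, 6), (74, 6), (75, 7), (77, 8), (77, 9)], [(33, 2), (22, 1), (22, 0), (72, 10), (72, 9), (62,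 8), (62, 7), (53, 6), (45, 5), (38, 4), (32, 3), (32, 2), (73, 11), (63, 10), (63, 9), (54, 8), (54, 7), (46, 6), (39, 5), (39, 4), (74, 7), (74, 6), (11, 7), (75, 7), (11, 8), (74, 12), (64, 11), (64, 10), (55, 9), (55, 8), (47, 7), (7, 5), (74, 10), (64, 9), (64, 8), (55, 7), (55, 6), (47, 5), (75, 11), (65, 10), (65, 9), (56, 8), (56, 7), (76, 12), (66, 11), (66, 10), (9, 8), (76, 10), (66, 9), (66, 8), (77, 11), (10, 9), (77, 9), (74, 11), (74, 10), (64, 9), (55, 8), (47, 7), (47, 6), (77, 12), (77, 11), (77, 13), (77, 12), (10, 10), (11, 10), (56, 9), (8, 7), (76, 11), (76, 10), (66, 9), (66, 8), (11, 11), (10, 9), (73, 11), (73, 10), (63, 9), (54, 8), (54, 7), (39, 6), (39, 5), (6, 3), (74, 5), (74, 4), (11, 5), (76, 5), (76, 6), (77, 7), (11, 8), (63, 7), (54, 6), (54, 5), (39, 4), (39, 3), (74, 6), (74, 5), (11, 6), (76, 6), (76, 7), (77, 8), (74, 9), (64, 8), (55, 7), (55,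 6), (7, 4), (75, 7), (65, 6), (56, 5), (56, 4), (76, 8), (66, 7), (9, 5), (77, 6), (77, 7), (10, 5), (11, 5), (47, 4), (41, 5), (34, 4), (28, 3), (23, 2), (23, 1), (62, 10), (62, 9), (53, 8), (45, 7), (45, 6), (38, 5), (38, 4), (32, 3), (74, 12), (64, 11), (64, 10), (55, 9), (55, 8), (47, 7), (7, 5), (77, 10), (10, 8), (77, 8), (74, 10), (74, 9), (64, 8), (55, 7), (55, 6), (47, 5), (77, 11), (77, 10), (77, 12), (77, 11), (10, 9), (11, 9), (56, 8), (56, 7), (75, 13), (75, 12), (65, 11), (65, 10), (56, 9), (56, 8), (8, 6), (77, 11), (77, 10), (10, 8), (77, 9), (77, 8), (11, 9), (76, 9), (66, 8), (9, 6), (77, 8), (77, 7), (77, 9), (77, 8), (10, 6), (73, 7), (73, 6), (39, 5), (11, 7), (74, 7), (74, 8), (7, 6), (75, 6), (75, 7), (76, 8), (77, 9), (77, 10), (73, 11), (63, 10), (63, 9), (54, 8), (46, 7), (46, 6), (6, 4), (75, 6), (75, 5), (11, 6), (76, 6), (77, 7), (77, 8), (74, 10), (74,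 9), (64, 8), (64, 7), (55, 6), (47, 5), (47, 4), (75, 11), (75, 10), (65, 9), (65, 8), (56, 7), (8, 5), (76, 9), (76, 8), (66, 7), (66, 6), (77, 10), (77, 9), (10, 7), (77, 8), (77, 7), (74, 9), (74, 8), (64, 7), (55, 6), (55, 5), (11, 9), (65, 8), (56, 7), (56, 6), (70, 11), (60, 10), (60, 9), (51, 8), (51, 7), (43, 6), (36, 5), (36, 4), (25, 3), (25, 2), (53, 7), (53, 6), (38, 5), (38, 4), (74, 8), (64, 7), (64, 6), (77, 9), (10, 7), (77, 7), (76, 9), (76, 8), (66, 7), (11, 9), (66, 8), (74, 10), (64, 9), (55, 8), (55, 7), (7, 5), (74, 8), (64, 7), (55, 6), (55, 5), (76, 9), (66, 8), (9, 6), (76, 7), (66, 6), (74, 8), (64, 7), (55, 6), (77, 9), (74, 10), (64, 9), (64, 8), (55, 7), (7, 5), (77, 8), (10, 6), (75, 6), (56, 5), (11, 7), (66, 9), (66, 8), (9, 6), (10, 6), (10, 6)], [(7, 5), (11, 6)]⟩,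
    ⟨4, [2, 0], [0, 2], [(67, 6), (33, 5), (27, 4), (22, 3), (15, 2), (13, 1), (13, 0), (59, 11), (59, 10), (50, 9), (50, 8), (42, 7), (42, 6), (35, 5), (35, 4), (20, 3), (20, 2), (71, 8), (52, 7), (44, 6), (44, 5), (37, 4), (75, 8), (75, 7), (11, 8), (76, 8), (11, 9), (74, 9), (55, 8), (47, 7), (47, 6), (75, 10), (56, 9), (8, 7), (75, 8), (56, 7), (76, 9), (74, 11), (74, 10), (55, 9), (55, 8), (47, 7), (7, 5), (74, 9), (74, 8), (55, 7), (55, 6), (47, 5), (75, 10), (75, 9), (56, 8), (56, 7), (77, 11), (77, 10), (77, 12), (77, 11), (75, 13), (75, 12), (65, 11), (65, 10), (56, 9), (56, 8), (8, 6), (77, 11), (77, 10), (10, 8), (77, 9), (77, 8), (76, 10), (76, 9), (66, 8), (9, 6), (77, 8), (77, 7), (77, 9), (77, 8), (10, 6), (11, 6), (76, 6), (77, 7), (77, 8), (11, 9), (10, 7), (61, 7), (52, 6), (37, 5), (4, 3), (77, 6), (77, 5), (71, 7), (71, 6), (61, 5), (52, 4), (37, 3), (77, 7),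 (77, 6), (11, 7), (74, 7), (64, 6), (55, 5), (74, 8), (64, 7), (55, 6), (7, 4), (75, 6), (65, 5), (56, 4), (75, 7), (65, 6), (56, 5), (76, 8), (66, 7), (76, 9), (66, 8), (9, 6), (77, 7), (77, 8), (10, 6), (70, 6), (43, 5), (43, 4), (21, 3), (65, 11), (65, 10), (56, 9), (56, 8), (75, 14), (75, 13), (65, 12), (65, 11), (56, 10), (56, 9), (8, 7), (11, 11), (71, 12), (71, 11), (61, 10), (61, 9), (52, 8), (52, 7), (37, 6), (37, 5), (76, 10), (76, 9), (11, 10), (77, 10), (77, 11), (11, 12), (61, 11), (61, 10), (52, 9), (52, 8), (37, 7), (37, 6), (4, 4), (76, 8), (76, 7), (11, 8), (77, 8), (77, 9), (73, 10), (63, 9), (63, 8), (54, 7), (54, 6), (39, 5), (39, 4), (74, 7), (74, 6), (11, 7), (76, 7), (76, 8), (77, 9), (77, 10), (74, 12), (74, 11), (64, 10), (64, 9), (55, 8), (55, 7), (7, 5), (75, 10), (75, 9), (65, 8), (65, 7), (56, 6), (56, 5), (75, 11), (75, 10), (65, 9), (65, 8), (56, 7),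 (56, 6), (76, 12), (76, 11), (66, 10), (66, 9), (9, 7), (77, 10), (77, 9), (10, 7), (77, 8), (77, 7), (11, 8), (72, 8), (62, 7), (45, 6), (45, 5), (32, 4), (75, 13), (65, 12), (65, 11), (56, 10), (56, 9), (77, 14), (10, 12), (77, 12), (11, 13), (65, 12), (56, 11), (56, 10), (8, 8), (10, 10), (77, 11), (77, 10), (11, 11), (63, 10), (54, 9), (54, 8), (39, 7), (39, 6), (74, 9), (74, 8), (11, 9), (76, 9), (76, 10), (77, 11), (73, 12), (63, 11), (54, 10), (54, 9), (39, 8), (39, 7), (6, 5), (74, 7), (74, 6), (11, 7), (76, 7), (76, 8), (77, 9), (74, 11), (74, 10), (64, 9), (55, 8), (55, 7), (7, 5), (75, 9), (75, 8), (65, 7), (56, 6), (56, 5), (76, 10), (76, 9), (66, 8), (9, 6), (77, 8), (77, 7), (77, 9), (77, 8), (10, 6), (11, 6), (73, 6), (46, 5), (11, 7), (8, 6), (68, 7), (34, 6), (28, 5), (23, 4), (16, 3), (14, 2), (14, 1), (69, 6), (42, 5), (42, 4), (20, 3), (75, 9), (56, 8), (8, 6),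 (77, 7), (77, 8), (75, 9), (65, 8), (65, 7), (56, 6), (77, 10), (10, 8), (77, 8), (71, 10), (71, 9), (61, 8), (52, 7), (44, 6), (37, 5), (76, 9), (76, 8), (11, 9), (77, 9), (11, 10), (65, 9), (56, 8), (65, 10), (56, 9), (8, 7), (70, 9), (60, 8), (51, 7), (36, 6), (21, 5), (21, 4), (61, 12), (61, 11), (52, 10), (52, 9), (44, 8), (37, 7), (37, 6), (76, 11), (76, 10), (11, 11), (76, 11), (11, 12), (64, 13), (64, 12), (55, 11), (55, 10), (47, 9), (7, 7), (64, 11), (64, 10), (55, 9), (55, 8), (47, 7), (65, 12), (65, 11), (56, 10), (56, 9), (66, 13), (66, 12), (9, 10), (66, 11), (66, 10), (10, 11), (64, 11), (55, 10), (47, 9), (47, 8), (66, 13), (66, 12), (10, 13), (71, 15), (61, 14), (61, 13), (52, 12), (52, 11), (44, 10), (44, 9), (37, 8), (37, 7), (4, 5), (75, 9), (75, 8), (11, 9), (76, 9), (11, 10), (77, 12), (77, 11), (77, 13), (77, 12), (11, 13), (63, 12), (63, 11), (54, 10), (54,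 9), (46, 8), (46, 7), (39, 6), (39, 5), (74, 8), (74, 7), (11, 8), (75, 8), (11, 9), (76, 11), (76, 10), (76, 12), (76, 11), (77, 13), (77, 12), (77, 14), (77, 13), (73, 15), (73, 14), (63, 13), (63, 12), (54, 11), (54, 10), (46, 9), (46, 8), (39, 7), (39, 6), (74, 9), (74, 8), (11, 9), (75, 9), (11, 10), (76, 12), (76, 11), (76, 13), (76, 12), (77, 14), (77, 13), (77, 15), (77, 14), (11, 15), (74, 15), (64, 14), (64, 13), (55, 12), (55, 11), (47, 10), (47, 9), (7, 7), (74, 13), (64, 12), (64, 11), (55, 10), (55, 9), (47, 8), (47, 7), (75, 14), (65, 13), (65, 12), (56, 11), (56, 10), (8, 8), (76, 12), (66, 11), (66, 10), (9, 8), (77, 10), (10, 8), (77, 8), (72, 9), (62, 8), (38, 7), (32, 6), (32, 5), (73, 14), (63, 13), (63, 12), (54, 11), (54, 10), (46, 9), (39, 8), (39, 7), (74, 10), (74, 9), (11, 10), (75, 10), (11, 11), (74, 15), (64, 14), (64, 13), (55, 12), (55, 11), (47, 10),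 (7, 8), (74, 13), (64, 12), (64, 11), (55, 10), (55, 9), (47, 8), (75, 14), (65, 13), (65, 12), (56, 11), (56, 10), (76, 15), (66, 14), (66, 13), (9, 11), (76, 13), (66, 12), (66, 11), (77, 14), (10, 12), (77, 12), (74, 14), (74, 13), (64, 12), (55, 11), (47, 10), (47, 9), (77, 15), (77, 14), (77, 16), (77, 15), (10, 13), (11, 13), (73, 14), (63, 13), (54, 12), (46, 11), (46, 10), (39, 9), (39, 8), (6, 6), (74, 8), (74, 7), (11, 8), (75, 8), (11, 9), (76, 11), (76, 10), (77, 12), (77, 11), (11, 12), (64, 11), (55, 10), (47, 9), (47, 8), (7, 6), (64, 9), (55, 8), (47, 7), (47, 6), (65, 10), (56, 9), (8, 7), (65, 8), (56, 7), (66, 9), (10, 10), (54, 9), (54, 8), (46, 7), (39, 6), (75, 9), (75, 8), (11, 9), (76, 9), (76, 10), (74, 11), (55, 10), (55, 9), (47, 8), (75, 12), (56, 11), (56, 10), (76, 13), (9, 11), (77, 11), (77, 12), (74, 13), (64, 12), (64, 11), (47, 10), (47, 9), (7,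 7), (11, 11), (60, 10), (60, 9), (43, 8), (43, 7), (30, 6), (25, 5), (54, 10), (54, 9), (39, 8), (39, 7), (74, 10), (74, 9), (11, 10), (76, 10), (76, 11), (77, 12), (11, 13), (65, 12), (56, 11), (56, 10), (75, 15), (75, 14), (65, 13), (56, 12), (56, 11), (11, 15), (77, 15), (77, 16), (10, 14), (71, 14), (52, 13), (52, 12), (44, 11), (44, 10), (37, 9), (37, 8), (31, 7), (26, 6), (63, 13), (63, 12), (54, 11), (46, 10), (46, 9), (39, 8), (75, 11), (75, 10), (11, 11), (75, 11), (11, 12), (74, 16), (74, 15), (64, 14), (64, 13), (55, 12), (47, 11), (47, 10), (74, 17), (74, 16), (64, 15), (64, 14), (55, 13), (47, 12), (47, 11), (7, 9), (75, 15), (75, 14), (65, 13), (65, 12), (56, 11), (8, 9), (11, 12), (75, 12), (65, 11), (65, 10), (56, 9), (11, 13), (66, 12), (66, 11), (76, 15), (76, 14), (66, 13), (66, 12), (9, 10), (11, 12), (72, 13), (72, 12), (62, 11), (62, 10), (45, 9), (32, 8), (75,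 17), (65, 16), (65, 15), (56, 14), (56, 13), (77, 18), (10, 16), (77, 16), (11, 17), (10, 16), (73, 17), (73, 16), (54, 15), (54, 14), (46, 13), (46, 12), (39, 11), (39, 10), (74, 13), (74, 12), (11, 13), (75, 13), (11, 14), (76, 16), (76, 15), (76, 17), (76, 16), (11, 17), (73, 17), (54, 16), (54, 15), (46, 14), (46, 13), (39, 12), (39, 11), (6, 9), (74, 11), (74, 10), (11, 11), (75, 11), (11, 12), (76, 14), (76, 13), (76, 15), (76, 14), (11, 15)], [(59, 7), (29, 6), (29, 5), (24, 4), (20, 3), (17, 2), (71, 10), (71, 9), (52, 8), (44, 7), (44, 6), (37, 5), (37, 4), (75, 9), (75, 8), (11, 9), (76, 9), (11, 10), (74, 11), (74, 10), (55, 9), (47, 8), (47, 7), (7, 5), (75, 9), (75, 8), (56, 7), (8, 5), (75, 7), (75, 6), (56, 5), (76, 8), (76, 7), (11, 8), (53, 7), (53, 6), (45, 5), (76, 10), (76, 9), (66, 8), (66, 7), (11, 10), (66, 9), (66, 8), (75, 11), (65, 10), (65, 9), (56, 8),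 (56, 7), (77, 12), (10, 10), (73, 11), (73, 10), (54, 9), (54, 8), (46, 7), (46, 6), (75, 9), (75, 8), (11, 9), (76, 9), (76, 10), (11, 11), (55, 10), (55, 9), (47, 8), (47, 7), (55, 11), (55, 10), (47, 9), (47, 8), (56, 12), (56, 11), (8, 9), (9, 9), (73, 11), (73, 10), (54, 9), (39, 8), (39, 7), (74, 10), (74, 9), (11, 10), (76, 10), (11, 11), (55, 10), (7, 8), (55, 8), (56, 9), (9, 10), (77, 11), (77, 10), (69, 12), (69, 11), (59, 10), (42, 9), (35, 8), (29, 7), (29, 6), (24, 5), (20, 4), (17, 3), (71, 11), (71, 10), (52, 9), (44, 8), (44, 7), (37, 6), (37, 5), (75, 10), (75, 9), (11, 10), (76, 10), (11, 11), (74, 12), (74, 11), (55, 10), (47, 9), (47, 8), (7, 6), (75, 10), (75, 9), (56, 8), (8, 6), (75, 8), (75, 7), (56, 6), (76, 9), (76, 8), (11, 9), (53, 8), (53, 7), (45, 6), (76, 11), (76, 10), (66, 9), (66, 8), (11, 11), (66, 10), (66, 9), (75, 12), (65, 11), (65, 10), (56,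 9), (56, 8), (77, 13), (10, 11), (73, 12), (73, 11), (54, 10), (54, 9), (46, 8), (46, 7), (75, 10), (75, 9), (11, 10), (76, 10), (76, 11), (11, 12), (55, 11), (55, 10), (47, 9), (47, 8), (55, 12), (55, 11), (47, 10), (47, 9), (56, 13), (56, 12), (8, 10), (9, 10), (73, 12), (73, 11), (54, 10), (39, 9), (39, 8), (74, 11), (74, 10), (11, 11), (76, 11), (11, 12), (55, 11), (7, 9), (55, 9), (56, 10), (9, 11), (74, 12), (74, 11), (47, 10), (75, 13), (75, 12), (77, 14), (77, 13), (77, 15), (77, 14), (77, 16), (77, 15), (10, 13), (11, 13), (70, 13), (43, 12), (43, 11), (36, 10), (36, 9), (30, 8), (30, 7), (25, 6), (21, 5), (62, 13), (62, 12), (53, 11), (53, 10), (45, 9), (38, 8), (38, 7), (74, 11), (64, 10), (64, 9), (77, 12), (10, 10), (77, 10), (75, 12), (75, 11), (65, 10), (77, 13), (77, 12), (77, 14), (77, 13), (10, 11), (11, 11), (76, 11), (76, 13), (76, 12), (11, 13), (64, 14), (64,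 13), (55, 12), (55, 11), (47, 10), (7, 8), (64, 12), (64, 11), (55, 10), (55, 9), (47, 8), (66, 13), (66, 12), (9, 10), (66, 11), (66, 10), (63, 12), (63, 11), (54, 10), (46, 9), (39, 8), (75, 11), (75, 10), (11, 11), (76, 11), (77, 12), (77, 13), (77, 14), (10, 12), (11, 12), (54, 11), (46, 10), (39, 9), (75, 12), (75, 11), (11, 12), (76, 12), (77, 13), (11, 14), (64, 13), (55, 12), (47, 11), (64, 15), (64, 14), (55, 13), (47, 12), (7, 10), (10, 12), (56, 11), (75, 14), (75, 13), (56, 12), (8, 10), (11, 11), (72, 12), (72, 11), (53, 10), (32, 9), (32, 8), (73, 17), (63, 16), (63, 15), (54, 14), (54, 13), (46, 12), (39, 11), (39, 10), (74, 13), (74, 12), (11, 13), (75, 13), (11, 14), (74, 18), (64, 17), (64, 16), (55, 15), (55, 14), (47, 13), (7, 11), (74, 16), (64, 15), (64, 14), (55, 13), (55, 12), (47, 11), (75, 17), (65, 16), (65, 15), (56, 14), (56, 13), (76, 18), (66, 17),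 (66, 16), (9, 14), (76, 16), (66, 15), (66, 14), (77, 17), (10, 15), (77, 15), (76, 17), (76, 16), (66, 15), (11, 17), (73, 18), (73, 17), (63, 16), (54, 15), (54, 14), (46, 13), (46, 12), (39, 11), (6, 9), (75, 11), (75, 10), (11, 11), (75, 11), (11, 12), (74, 16), (74, 15), (64, 14), (55, 13), (55, 12), (47, 11), (47, 10), (11, 16)], [(75, 1), (75, 0), (75, 2), (75, 1)], []⟩,
    ⟨3, [2, 2, 2], [9, 9, 10, 10], [(43, 2), (30, 1), (75, 5), (75, 4), (65, 3), (11, 5), (73, 5), (63, 4), (46, 3), (77, 6), (77, 5), (11, 6), (65, 5), (60, 6), (43, 5), (43, 4), (30, 3), (30, 2), (3, 0), (73, 3), (73, 2), (63, 1), (63, 0), (77, 4), (77, 3), (10, 1), (11, 1), (73, 1), (77, 2), (11, 3), (65, 2), (75, 5), (75, 4), (65, 3), (11, 5), (77, 5), (73, 6), (63, 5), (63, 4), (46, 3), (46, 2), (6, 0), (75, 2), (75, 1), (11, 2), (77, 2), (77, 3), (75, 5), (75, 4), (65, 3), (65, 2), (8, 0)], [], [(57,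 6), (57, 5), (27, 4), (15, 3), (15, 2), (12, 1), (70, 14), (60, 13), (51, 12), (43, 11), (36, 10), (36, 9), (30, 8), (25, 7), (21, 6), (62, 14), (62, 13), (53, 12), (53, 11), (45, 10), (38, 9), (38, 8), (74, 12), (64, 11), (64, 10), (77, 13), (10, 11), (77, 11), (75, 13), (75, 12), (65, 11), (77, 14), (77, 13), (77, 15), (77, 14), (10, 12), (11, 12), (76, 12), (76, 14), (76, 13), (11, 14), (64, 15), (64, 14), (55, 13), (55, 12), (47, 11), (7, 9), (64, 13), (64, 12), (55, 11), (55, 10), (47, 9), (66, 14), (66, 13), (9, 11), (66, 12), (66, 11), (63, 13), (63, 12), (54, 11), (46, 10), (39, 9), (75, 12), (75, 11), (11, 12), (76, 12), (77, 13), (77, 14), (77, 15), (10, 13), (11, 13), (55, 12), (47, 11), (64, 14), (55, 13), (47, 12), (7, 10), (65, 13), (65, 12), (56, 11), (76, 16), (76, 15), (66, 14), (66, 13), (77, 17), (77, 16), (10, 14), (77, 15), (77, 14), (77, 16), (77, 15), (11,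 16), (61, 15), (61, 14), (52, 13), (52, 12), (44, 11), (44, 10), (31, 9), (26, 8), (63, 15), (63, 14), (54, 13), (46, 12), (46, 11), (39, 10), (75, 13), (75, 12), (11, 13), (75, 13), (11, 14), (75, 18), (75, 17), (65, 16), (65, 15), (56, 14), (8, 12), (11, 15), (75, 15), (65, 14), (65, 13), (56, 12), (11, 16), (66, 15), (66, 14), (76, 18), (76, 17), (66, 16), (66, 15), (9, 13), (11, 15), (77, 15), (10, 13), (77, 13), (71, 14), (61, 13), (44, 12), (37, 11), (31, 10), (26, 9), (4, 7), (63, 13), (63, 12), (54, 11), (46, 10), (46, 9), (39, 8), (75, 11), (75, 10), (11, 11), (75, 11), (11, 12), (74, 16), (74, 15), (64, 14), (64, 13), (55, 12), (47, 11), (47, 10), (75, 17), (75, 16), (65, 15), (65, 14), (56, 13), (8, 11), (11, 14), (77, 14), (10, 12), (73, 13), (73, 12), (54, 11), (39, 10), (39, 9), (74, 12), (74, 11), (11, 12), (76, 12), (11, 13), (55, 12), (7, 10), (56, 10), (56, 11),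 (70, 17), (70, 16), (60, 15), (60, 14), (51, 13), (51, 12), (43, 11), (43, 10), (30, 9), (30, 8), (25, 7), (3, 5), (72, 8), (72, 7), (62, 6), (62, 5), (74, 9), (74, 8), (64, 7), (64, 6), (74, 10), (74, 9), (64, 8), (64, 7), (76, 11), (76, 10), (66, 9), (66, 8), (76, 12), (76, 11), (66, 10), (66, 9), (73, 13), (73, 12), (63, 11), (63, 10), (54, 9), (54, 8), (39, 7), (39, 6), (74, 9), (74, 8), (11, 9), (76, 9), (76, 10), (77, 11), (77, 12), (11, 13), (10, 11), (73, 12), (73, 11), (54, 10), (54, 9), (39, 8), (39, 7), (74, 10), (74, 9), (11, 10), (76, 10), (76, 11), (11, 12), (75, 14), (75, 13), (65, 12), (56, 11), (56, 10), (11, 14), (75, 14), (65, 13), (56, 12), (56, 11), (11, 15), (66, 14), (9, 12), (10, 12), (10, 13), (71, 15), (71, 14), (61, 13), (52, 12), (44, 11), (44, 10), (37, 9), (37, 8), (31, 7), (31, 6), (26, 5), (63, 12), (63, 11), (54, 10), (46, 9), (46, 8), (39, 7), (75,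 10), (75, 9), (11, 10), (75, 10), (11, 11), (73, 15), (73, 14), (63, 13), (63, 12), (54, 11), (46, 10), (46, 9), (39, 8), (75, 11), (75, 10), (11, 11), (75, 11), (11, 12), (11, 15), (74, 15), (64, 14), (64, 13), (55, 12), (47, 11), (47, 10), (74, 16), (64, 15), (64, 14), (55, 13), (47, 12), (47, 11), (7, 9), (75, 14), (65, 13), (65, 12), (56, 11), (8, 9), (11, 12), (65, 11), (65, 10), (56, 9), (76, 14), (76, 13), (66, 12), (66, 11), (11, 14), (77, 14), (10, 12), (11, 12), (52, 11), (52, 10), (44, 9), (31, 8), (31, 7), (26, 6), (63, 13), (63, 12), (54, 11), (46, 10), (46, 9), (39, 8), (75, 11), (75, 10), (11, 11), (75, 11), (11, 12), (73, 16), (73, 15), (63, 14), (63, 13), (54, 12), (46, 11), (46, 10), (39, 9), (75, 12), (75, 11), (11, 12), (75, 12), (11, 13), (11, 16), (75, 16), (65, 15), (65, 14), (56, 13), (8, 11), (11, 14), (66, 13), (66, 12), (76, 16), (76, 15), (66, 14), (66,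 13), (9, 11), (11, 13), (73, 13), (63, 12), (63, 11), (39, 10), (6, 8), (77, 10), (77, 9), (77, 11), (77, 10), (11, 11), (64, 10), (64, 9), (65, 11), (65, 10), (65, 12), (65, 11), (66, 13), (66, 12), (10, 13), (73, 15), (73, 14), (63, 13), (54, 12), (46, 11), (46, 10), (39, 9), (39, 8), (74, 11), (74, 10), (11, 11), (75, 11), (11, 12), (76, 14), (76, 13), (77, 15), (77, 14), (11, 15), (75, 15), (65, 14), (56, 13), (8, 11), (75, 13), (65, 12), (56, 11), (77, 14), (11, 15), (10, 13), (68, 14), (68, 13), (49, 12), (41, 11), (34, 10), (34, 9), (28, 8), (23, 7), (19, 6), (19, 5), (14, 4), (14, 3), (69, 8), (42, 7), (42, 6), (20, 5), (75, 11), (56, 10), (8, 8), (77, 9), (77, 10), (75, 11), (65, 10), (65, 9), (56, 8), (77, 12), (10, 10), (77, 10), (71, 12), (71, 11), (61, 10), (52, 9), (44, 8), (37, 7), (76, 11), (76, 10), (11, 11), (77, 11), (11, 12), (65, 11), (56, 10), (65, 12), (56,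 11), (8, 9), (71, 11), (61, 10), (52, 9), (37, 8), (4, 6), (77, 9), (77, 8), (11, 9), (65, 8), (56, 7), (65, 9), (56, 8), (66, 10), (66, 11), (9, 9), (61, 10), (61, 9), (44, 8), (44, 7), (37, 6), (75, 10), (75, 9), (11, 10), (77, 10), (77, 11), (75, 12), (65, 11), (65, 10), (8, 8), (75, 10), (65, 9), (65, 8), (76, 11), (66, 10), (66, 9), (76, 12), (66, 11), (66, 10), (77, 13), (10, 11), (72, 11), (53, 10), (53, 9), (45, 8), (38, 7), (75, 11), (65, 10), (65, 9), (77, 12), (10, 10), (77, 10), (11, 11), (66, 10), (76, 12), (66, 11), (11, 13), (63, 12), (54, 11), (54, 10), (46, 9), (39, 8), (75, 11), (75, 10), (11, 11), (76, 11), (76, 12), (77, 13), (74, 14), (64, 13), (55, 12), (55, 11), (47, 10), (74, 15), (64, 14), (55, 13), (55, 12), (47, 11), (7, 9), (75, 13), (65, 12), (56, 11), (56, 10), (75, 14), (65, 13), (56, 12), (56, 11), (8, 9), (76, 12), (66, 11), (9, 9), (77, 10), (77,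 11), (10, 9), (73, 9), (74, 10), (75, 11), (76, 12), (77, 13), (77, 14), (74, 15), (64, 14), (64, 13), (55, 12), (47, 11), (74, 17), (74, 16), (64, 15), (64, 14), (55, 13), (47, 12), (7, 10), (11, 14), (65, 13), (65, 12), (56, 11), (10, 13), (76, 13), (11, 14), (70, 15), (70, 14), (51, 13), (51, 12), (43, 11), (43, 10), (30, 9), (30, 8), (25, 7), (21, 6), (62, 14), (62, 13), (53, 12), (53, 11), (45, 10), (38, 9), (38, 8), (74, 12), (64, 11), (64, 10), (77, 13), (10, 11), (77, 11), (75, 13), (75, 12), (65, 11), (77, 14), (77, 13), (77, 15), (77, 14), (10, 12), (11, 12), (76, 12), (76, 14), (76, 13), (11, 14), (64, 15), (64, 14), (55, 13), (55, 12), (47, 11), (7, 9), (64, 13), (64, 12), (55, 11), (55, 10), (47, 9), (66, 14), (66, 13), (9, 11), (66, 12), (66, 11), (63, 13), (63, 12), (54, 11), (46, 10), (39, 9), (75, 12), (75, 11), (11, 12), (76, 12), (77, 13), (77, 14), (77, 15), (10,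 13), (11, 13), (54, 12), (46, 11), (39, 10), (75, 13), (75, 12), (11, 13), (76, 13), (77, 14), (11, 15), (65, 14), (56, 13), (75, 17), (75, 16), (65, 15), (56, 14), (8, 12), (11, 14), (76, 14), (66, 13), (77, 15), (77, 16), (10, 14), (76, 14), (9, 12), (77, 12), (77, 13), (11, 14), (60, 13), (60, 12), (36, 11), (30, 10), (30, 9), (25, 8), (21, 7), (62, 15), (62, 14), (53, 13), (53, 12), (45, 11), (38, 10), (38, 9), (74, 13), (64, 12), (64, 11), (77, 14), (10, 12), (77, 12), (75, 14), (75, 13), (65, 12), (77, 15), (77, 14), (77, 16), (77, 15), (10, 13), (11, 13), (76, 13), (76, 15), (76, 14), (11, 15), (64, 16), (64, 15), (55, 14), (55, 13), (47, 12), (7, 10), (64, 14), (64, 13), (55, 12), (55, 11), (47, 10), (66, 15), (66, 14), (9, 12), (66, 13), (66, 12), (63, 14), (63, 13), (54, 12), (46, 11), (39, 10), (75, 13), (75, 12), (11, 13), (76, 13), (77, 14), (77, 15), (77, 16), (10,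 14), (11, 14), (54, 13), (46, 12), (39, 11), (75, 14), (75, 13), (11, 14), (76, 14), (77, 15), (11, 16), (64, 15), (55, 14), (47, 13), (10, 16), (63, 16), (54, 15), (46, 14), (39, 13), (39, 12), (6, 10), (74, 12), (74, 11), (11, 12), (75, 12), (11, 13), (10, 14), (48, 13), (40, 12), (33, 11), (33, 10), (22, 9), (18, 8), (15, 7), (15, 6), (13, 5), (13, 4), (12, 3), (12, 2), (0, 0), (68, 1), (68, 0), (69, 2), (69, 1), (69, 3), (69, 2), (70, 4), (70, 3), (71, 5), (71, 4), (72, 6), (72, 5), (73, 7), (73, 6), (74, 8), (74, 7), (74, 9), (74, 8), (75, 10), (75, 9), (76, 11), (76, 10), (77, 12), (77, 11), (11, 12), (58, 11), (49, 10), (41, 9), (34, 8), (34, 7), (28, 6), (23, 5), (19, 4), (16, 3), (14, 2), (14, 1), (69, 6), (42, 5), (42, 4), (20, 3), (75, 9), (56, 8), (8, 6), (77, 7), (77, 8), (75, 9), (65, 8), (65, 7), (56, 6), (77, 10), (10, 8), (77, 8), (71, 10), (71, 9), (61, 8), (52,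 7), (44, 6), (37, 5), (76, 9), (76, 8), (11, 9), (77, 9), (11, 10), (65, 9), (56, 8), (65, 10), (56, 9), (8, 7), (70, 9), (60, 8), (51, 7), (36, 6), (21, 5), (21, 4), (61, 12), (61, 11), (52, 10), (52, 9), (44, 8), (37, 7), (37, 6), (76, 11), (76, 10), (11, 11), (76, 11), (11, 12), (64, 13), (64, 12), (55, 11), (55, 10), (47, 9), (7, 7), (64, 11), (64, 10), (55, 9), (55, 8), (47, 7), (65, 12), (65, 11), (56, 10), (56, 9), (66, 13), (66, 12), (9, 10), (66, 11), (66, 10), (10, 11), (64, 11), (55, 10), (47, 9), (47, 8), (66, 13), (66, 12), (10, 13), (71, 15), (61, 14), (61, 13), (52, 12), (52, 11), (44, 10), (44, 9), (37, 8), (37, 7), (4, 5), (75, 9), (75, 8), (11, 9), (76, 9), (11, 10), (77, 12), (77, 11), (77, 13), (77, 12), (11, 13), (63, 12), (63, 11), (54, 10), (54, 9), (46, 8), (46, 7), (39, 6), (39, 5), (74, 8), (74, 7), (11, 8), (75, 8), (11, 9), (76, 11), (76, 10), (76, 12),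 (76, 11), (77, 13), (77, 12), (77, 14), (77, 13), (73, 15), (73, 14), (63, 13), (63, 12), (54, 11), (54, 10), (46, 9), (46, 8), (39, 7), (39, 6), (74, 9), (74, 8), (11, 9), (75, 9), (11, 10), (76, 12), (76, 11), (76, 13), (76, 12), (77, 14), (77, 13), (77, 15), (77, 14), (11, 15), (74, 15), (64, 14), (64, 13), (55, 12), (55, 11), (47, 10), (47, 9), (7, 7), (74, 13), (64, 12), (64, 11), (55, 10), (55, 9), (47, 8), (47, 7), (75, 14), (65, 13), (65, 12), (56, 11), (56, 10), (8, 8), (76, 12), (66, 11), (66, 10), (9, 8), (77, 10), (10, 8), (77, 8), (71, 9), (61, 8), (37, 7), (31, 6), (31, 5), (73, 8), (73, 7), (11, 8), (74, 8), (77, 9), (75, 11), (75, 10), (65, 9), (75, 12), (75, 11), (65, 10), (76, 13), (76, 12), (66, 11), (76, 14), (76, 13), (66, 12), (77, 15), (77, 14), (72, 16), (72, 15), (62, 14), (62, 13), (53, 12), (53, 11), (45, 10), (45, 9), (38, 8), (32, 7), (32, 6), (73, 15),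 (63, 14), (63, 13), (54, 12), (54, 11), (46, 10), (39, 9), (39, 8), (74, 11), (74, 10), (11, 11), (75, 11), (11, 12), (74, 16), (64, 15), (64, 14), (55, 13), (55, 12), (47, 11), (7, 9), (74, 14), (64, 13), (64, 12), (55, 11), (55, 10), (47, 9), (75, 15), (65, 14), (65, 13), (56, 12), (56, 11), (76, 16), (66, 15), (66, 14), (9, 12), (76, 14), (66, 13), (66, 12), (77, 15), (10, 13), (77, 13), (74, 15), (74, 14), (64, 13), (55, 12), (47, 11), (47, 10), (77, 16), (77, 15), (77, 17), (77, 16), (10, 14), (11, 14), (56, 13), (8, 11), (75, 15), (75, 14), (65, 13), (65, 12), (56, 11), (77, 16), (77, 15), (10, 13), (77, 14), (77, 13), (11, 14), (76, 14), (66, 13), (76, 16), (76, 15), (66, 14), (9, 12), (11, 13), (10, 12), (73, 13), (73, 12), (46, 11), (39, 10), (39, 9), (6, 7), (74, 9), (74, 8), (11, 9), (75, 9), (11, 10), (74, 11), (74, 10), (47, 9), (7, 7), (74, 9), (74, 8), (47, 7), (75,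 10), (75, 9), (75, 11), (75, 10), (8, 8), (76, 9), (76, 8), (77, 10), (77, 9), (77, 11), (77, 10), (73, 12), (73, 11), (63, 10), (63, 9), (54, 8), (39, 7), (76, 10), (76, 9), (77, 11), (77, 10), (77, 12), (77, 11), (11, 12), (74, 12), (64, 11), (64, 10), (55, 9), (75, 13), (65, 12), (65, 11), (56, 10), (76, 14), (66, 13), (66, 12), (77, 15), (10, 13), (77, 13), (74, 14), (64, 13), (55, 12), (55, 11), (47, 10), (7, 8), (74, 13), (74, 12), (64, 11), (55, 10), (55, 9), (47, 8), (11, 13), (65, 12), (56, 11), (56, 10), (76, 15), (66, 14), (66, 13), (9, 11), (11, 13), (10, 11), (69, 11), (42, 10), (42, 9), (35, 8), (29, 7), (24, 6), (20, 5), (17, 4), (2, 2), (60, 3), (60, 2), (64, 4), (64, 3), (64, 5), (64, 4), (65, 6), (65, 5), (65, 7), (65, 6), (66, 8), (66, 7), (71, 11), (71, 10), (61, 9), (61, 8), (52, 7), (44, 6), (44, 5), (37, 4), (37, 3), (75, 8), (75, 7), (11, 8), (76, 8), (11,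 9), (74, 12), (74, 11), (64, 10), (64, 9), (55, 8), (47, 7), (47, 6), (7, 4), (75, 10), (75, 9), (65, 8), (65, 7), (56, 6), (8, 4), (75, 8), (75, 7), (65, 6), (65, 5), (56, 4), (76, 9), (76, 8), (66, 7), (66, 6), (11, 9), (62, 8), (62, 7), (53, 6), (53, 5), (45, 4), (76, 9), (76, 8), (66, 7), (66, 6), (11, 9), (66, 8), (66, 7), (77, 10), (10, 8), (77, 8), (75, 9), (65, 8), (56, 7), (56, 6), (77, 10), (73, 12), (73, 11), (63, 10), (63, 9), (54, 8), (54, 7), (46, 6), (46, 5), (75, 8), (75, 7), (11, 8), (76, 8), (76, 9), (77, 10), (77, 11), (11, 12), (64, 11), (64, 10), (55, 9), (55, 8), (47, 7), (47, 6), (64, 12), (64, 11), (55, 10), (55, 9), (47, 8), (47, 7), (65, 13), (65, 12), (56, 11), (56, 10), (8, 8), (66, 11), (66, 10), (9, 8), (66, 9), (66, 8), (74, 12), (74, 11), (64, 10), (64, 9), (55, 8), (7, 6), (75, 10), (75, 9), (65, 8), (65, 7), (56, 6), (77, 11), (77, 10), (10, 8),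 (77, 9), (77, 8), (75, 10), (75, 9), (65, 8), (56, 7), (77, 11), (77, 10), (77, 12), (77, 11), (10, 9), (11, 9), (50, 8), (42, 7), (42, 6), (29, 5), (24, 4), (20, 3), (17, 2), (71, 10), (71, 9), (52, 8), (44, 7), (44, 6), (37, 5), (37, 4), (75, 9), (75, 8), (11, 9), (76, 9), (11, 10), (74, 11), (74, 10), (55, 9), (47, 8), (47, 7), (7, 5), (75, 9), (75, 8), (56, 7), (8, 5), (75, 7), (75, 6), (56, 5), (76, 8), (76, 7), (11, 8), (53, 7), (53, 6), (45, 5), (76, 10), (76, 9), (66, 8), (66, 7), (11, 10), (66, 9), (66, 8), (75, 11), (65, 10), (65, 9), (56, 8), (56, 7), (77, 12), (10, 10), (73, 11), (73, 10), (54, 9), (54, 8), (46, 7), (46, 6), (75, 9), (75, 8), (11, 9), (76, 9), (76, 10), (11, 11), (55, 10), (55, 9), (47, 8), (47, 7), (55, 11), (55, 10), (47, 9), (47, 8), (56, 12), (56, 11), (8, 9), (9, 9), (75, 11), (75, 10), (56, 9), (77, 12), (77, 11), (77, 13), (77, 12), (75, 14), (75,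 13), (65, 12), (65, 11), (56, 10), (77, 15), (77, 14), (10, 12), (77, 13), (77, 12), (76, 14), (76, 13), (66, 12), (77, 15), (77, 14), (77, 16), (77, 15), (10, 13), (11, 13), (70, 13), (51, 12), (51, 11), (43, 10), (43, 9), (36, 8), (36, 7), (30, 6), (25, 5), (21, 4), (62, 12), (62, 11), (53, 10), (53, 9), (45, 8), (38, 7), (38, 6), (74, 10), (64, 9), (64, 8), (77, 11), (10, 9), (77, 9), (75, 11), (75, 10), (65, 9), (77, 12), (77, 11), (77, 13), (77, 12), (10, 10), (11, 10), (76, 10), (76, 12), (76, 11), (11, 12), (64, 13), (64, 12), (55, 11), (55, 10), (47, 9), (7, 7), (64, 11), (64, 10), (55, 9), (55, 8), (47, 7), (66, 12), (66, 11), (9, 9), (66, 10), (66, 9), (63, 11), (63, 10), (54, 9), (46, 8), (39, 7), (75, 10), (75, 9), (11, 10), (76, 10), (77, 11), (77, 12), (77, 13), (10, 11), (11, 11), (55, 10), (47, 9), (64, 12), (55, 11), (47, 10), (7, 8), (65, 11), (65, 10), (56, 9),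 (75, 14), (75, 13), (65, 12), (65, 11), (56, 10), (8, 8), (11, 11), (76, 11), (66, 10), (66, 9), (77, 12), (10, 10), (77, 10), (76, 11), (66, 10), (9, 8), (77, 9), (77, 10), (10, 8), (71, 9), (71, 8), (31, 7), (26, 6), (63, 13), (63, 12), (54, 11), (46, 10), (46, 9), (39, 8), (75, 11), (75, 10), (11, 11), (75, 11), (11, 12), (11, 15), (72, 15), (62, 14), (62, 13), (53, 12), (45, 11), (45, 10), (38, 9), (32, 8), (74, 17), (64, 16), (64, 15), (55, 14), (55, 13), (47, 12), (7, 10), (77, 15), (10, 13), (77, 13), (75, 15), (75, 14), (65, 13), (56, 12), (56, 11), (77, 16), (77, 15), (77, 17), (77, 16), (10, 14), (11, 14), (75, 14), (56, 13), (56, 12), (8, 10), (77, 12), (77, 13), (11, 14), (66, 13), (66, 12), (9, 10), (77, 12), (10, 10), (77, 10), (73, 12), (73, 11), (63, 10), (74, 13), (74, 12), (64, 11), (74, 14), (74, 13), (64, 12), (75, 15), (75, 14), (65, 13), (76, 16), (76, 15),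 (66, 14), (77, 17), (77, 16), (11, 17), (59, 16), (59, 15), (50, 14), (42, 13), (35, 12), (35, 11), (29, 10), (29, 9), (24, 8), (24, 7), (20, 6), (20, 5), (17, 4), (17, 3), (70, 11), (70, 10), (51, 9), (43, 8), (43, 7), (36, 6), (36, 5), (64, 7), (65, 9), (65, 8), (75, 12), (75, 11), (65, 10), (65, 9), (11, 12), (76, 12), (66, 11), (66, 10), (77, 13), (10, 11), (77, 11), (11, 12), (64, 11), (55, 10), (47, 9), (47, 8), (7, 6), (64, 9), (55, 8), (47, 7), (47, 6), (65, 10), (56, 9), (8, 7), (65, 8), (56, 7), (66, 9), (71, 12), (71, 11), (61, 10), (52, 9), (52, 8), (44, 7), (37, 6), (76, 10), (76, 9), (11, 10), (76, 10), (11, 11), (74, 13), (74, 12), (64, 11), (55, 10), (55, 9), (47, 8), (75, 14), (75, 13), (65, 12), (56, 11), (56, 10), (75, 15), (75, 14), (65, 13), (56, 12), (56, 11), (8, 9), (76, 13), (76, 12), (66, 11), (9, 9), (11, 10), (61, 9), (37, 8), (37, 7), (64, 10), (7, 8),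 (65, 8), (65, 9), (66, 10), (72, 12), (62, 11), (53, 10), (45, 9), (45, 8), (75, 13), (75, 12), (65, 11), (65, 10), (77, 14), (77, 13), (10, 11), (77, 12), (77, 11), (11, 12), (76, 12), (66, 11), (77, 14), (77, 13), (11, 14), (65, 13), (65, 12), (56, 11), (8, 9), (10, 10), (72, 10), (53, 9), (75, 12), (75, 11), (56, 10), (77, 13), (77, 12), (11, 13), (63, 12), (54, 11), (46, 10), (76, 13), (76, 12), (77, 14), (77, 13), (74, 15), (74, 14), (64, 13), (55, 12), (47, 11), (74, 16), (74, 15), (64, 14), (55, 13), (47, 12), (75, 17), (75, 16), (65, 15), (56, 14), (76, 18), (76, 17), (66, 16), (76, 19), (76, 18), (66, 17), (9, 15), (11, 16), (73, 16), (63, 15), (46, 14), (46, 13), (39, 12), (39, 11), (74, 14), (74, 13), (11, 14), (75, 14), (11, 15), (77, 17), (77, 16), (11, 17), (64, 16), (47, 15), (47, 14), (7, 12), (64, 14), (47, 13), (47, 12), (65, 15), (8, 13), (66, 13), (66, 14), (74,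 17), (74, 16), (64, 15), (55, 14), (55, 13), (74, 18), (74, 17), (64, 16), (55, 15), (55, 14), (7, 12), (75, 16), (75, 15), (65, 14), (56, 13), (56, 12), (77, 17), (77, 16), (77, 18), (77, 17), (10, 15), (76, 16), (76, 15), (9, 13), (77, 14), (77, 13), (77, 15), (77, 14), (11, 15), (77, 15), (10, 13), (77, 13), (71, 14), (61, 13), (44, 12), (31, 11), (31, 10), (26, 9), (26, 8), (4, 6), (62, 12), (62, 11), (53, 10), (45, 9), (45, 8), (38, 7), (75, 11), (65, 10), (65, 9), (77, 12), (10, 10), (77, 10), (11, 11), (65, 10), (10, 11), (76, 12), (76, 11), (11, 12), (64, 13), (64, 12), (55, 11), (47, 10), (47, 9), (65, 14), (65, 13), (56, 12), (8, 10), (65, 12), (65, 11), (56, 10), (66, 13), (66, 12), (10, 13), (63, 13), (54, 12), (54, 11), (46, 10), (39, 9), (39, 8), (74, 11), (74, 10), (11, 11), (75, 11), (11, 12), (73, 16), (73, 15), (63, 14), (54, 13), (54, 12), (46, 11), (39, 10), (39,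 9), (74, 12), (74, 11), (11, 12), (75, 12), (11, 13), (11, 16), (75, 16), (65, 15), (56, 14), (56, 13), (11, 17), (71, 18), (61, 17), (61, 16), (52, 15), (52, 14), (44, 13), (44, 12), (37, 11), (37, 10), (31, 9), (31, 8), (26, 7), (26, 6), (62, 13), (62, 12), (53, 11), (45, 10), (45, 9), (38, 8), (75, 12), (65, 11), (65, 10), (77, 13), (10, 11), (77, 11), (11, 12), (65, 11), (10, 12), (76, 13), (76, 12), (11, 13), (64, 14), (64, 13), (55, 12), (47, 11), (47, 10), (65, 15), (65, 14), (56, 13), (8, 11), (65, 13), (65, 12), (56, 11), (66, 14), (66, 13), (10, 14), (63, 14), (54, 13), (54, 12), (46, 11), (39, 10), (39, 9), (74, 12), (74, 11), (11, 12), (75, 12), (11, 13), (73, 17), (73, 16), (63, 15), (54, 14), (54, 13), (46, 12), (39, 11), (39, 10), (74, 13), (74, 12), (11, 13), (75, 13), (11, 14), (11, 17), (74, 17), (64, 16), (55, 15), (55, 14), (47, 13), (7, 11), (74, 15), (64, 14),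 (55, 13), (55, 12), (47, 11), (75, 16), (65, 15), (56, 14), (56, 13), (11, 17), (65, 16), (56, 15), (56, 14), (8, 12), (76, 16), (76, 15), (66, 14), (9, 12), (11, 13), (76, 13), (66, 12), (11, 14), (10, 13), (74, 13), (55, 12), (74, 14), (55, 13), (7, 11), (75, 12), (56, 11), (75, 13), (56, 12), (76, 14), (76, 15), (9, 13), (77, 13), (77, 14), (69, 15), (59, 14), (59, 13), (42, 12), (42, 11), (29, 10), (29, 9), (24, 8), (24, 7), (20, 6), (17, 5), (17, 4), (2, 2), (60, 3), (60, 2), (64, 4), (64, 3), (64, 5), (64, 4), (65, 6), (65, 5), (65, 7), (65, 6), (66, 8), (66, 7), (70, 11), (70, 10), (60, 9), (60, 8), (51, 7), (43, 6), (43, 5), (36, 4), (36, 3), (64, 5), (65, 7), (65, 6), (75, 10), (75, 9), (65, 8), (65, 7), (11, 10), (76, 10), (66, 9), (66, 8), (77, 11), (10, 9), (77, 9), (77, 10), (77, 11), (10, 9), (11, 9), (55, 8), (47, 7), (47, 6), (7, 4), (55, 6), (47, 5), (47, 4), (56,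 7), (8, 5), (56, 5), (71, 9), (71, 8), (52, 7), (52, 6), (44, 5), (37, 4), (76, 8), (76, 7), (11, 8), (76, 8), (11, 9), (74, 10), (74, 9), (55, 8), (55, 7), (47, 6), (75, 11), (75, 10), (56, 9), (56, 8), (75, 12), (75, 11), (56, 10), (56, 9), (8, 7), (76, 10), (76, 9), (9, 7), (11, 7), (38, 6), (38, 5), (74, 9), (64, 8), (64, 7), (77, 10), (10, 8), (77, 8), (75, 10), (75, 9), (65, 8), (77, 11), (77, 10), (11, 11), (62, 10), (62, 9), (45, 8), (38, 7), (38, 6), (74, 10), (64, 9), (64, 8), (77, 11), (10, 9), (77, 9), (75, 11), (75, 10), (65, 9), (77, 12), (77, 11), (77, 13), (77, 12), (10, 10), (11, 10), (77, 10), (77, 11), (75, 12), (65, 11), (65, 10), (77, 13), (10, 11), (73, 12), (73, 11), (46, 10), (46, 9), (39, 8), (39, 7), (74, 10), (74, 9), (11, 10), (75, 10), (11, 11), (11, 12), (74, 12), (47, 11), (47, 10), (7, 8), (74, 10), (47, 9), (47, 8), (75, 11), (8, 9), (76, 9), (76,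 10), (11, 11), (54, 10), (54, 9), (39, 8), (76, 11), (76, 10), (76, 12), (76, 11), (74, 13), (74, 12), (55, 11), (55, 10), (74, 14), (74, 13), (55, 12), (55, 11), (7, 9), (75, 12), (75, 11), (56, 10), (56, 9), (76, 13), (76, 12), (9, 10), (76, 11), (76, 10), (11, 11), (75, 11), (56, 10), (77, 12), (77, 13), (75, 14), (65, 13), (65, 12), (56, 11), (8, 9), (77, 12), (10, 10), (77, 10), (77, 11), (77, 12), (10, 10), (71, 11), (71, 10), (52, 9), (31, 8), (31, 7), (26, 6), (26, 5), (62, 12), (62, 11), (53, 10), (45, 9), (45, 8), (38, 7), (75, 11), (65, 10), (65, 9), (77, 12), (10, 10), (77, 10), (11, 11), (65, 10), (10, 11), (76, 12), (76, 11), (11, 12), (64, 13), (64, 12), (55, 11), (47, 10), (47, 9), (65, 14), (65, 13), (56, 12), (8, 10), (65, 12), (65, 11), (56, 10), (66, 13), (66, 12), (10, 13), (63, 13), (54, 12), (54, 11), (46, 10), (39, 9), (39, 8), (74, 11), (74, 10), (11, 11),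 (75, 11), (11, 12), (73, 16), (73, 15), (63, 14), (54, 13), (54, 12), (46, 11), (39, 10), (39, 9), (74, 12), (74, 11), (11, 12), (75, 12), (11, 13), (11, 16), (76, 16), (66, 15), (9, 13), (11, 14), (71, 15), (71, 14), (61, 13), (44, 12), (37, 11), (37, 10), (31, 9), (31, 8), (26, 7), (26, 6), (4, 4), (62, 10), (62, 9), (53, 8), (45, 7), (45, 6), (38, 5), (75, 9), (65, 8), (65, 7), (77, 10), (10, 8), (77, 8), (11, 9), (65, 8), (10, 9), (76, 10), (76, 9), (11, 10), (64, 11), (64, 10), (55, 9), (47, 8), (47, 7), (65, 12), (65, 11), (56, 10), (8, 8), (65, 10), (65, 9), (56, 8), (66, 11), (66, 10), (10, 11), (63, 11), (54, 10), (54, 9), (46, 8), (39, 7), (39, 6), (74, 9), (74, 8), (11, 9), (75, 9), (11, 10), (73, 14), (73, 13), (63, 12), (54, 11), (54, 10), (46, 9), (39, 8), (39, 7), (74, 10), (74, 9), (11, 10), (75, 10), (11, 11), (11, 14), (74, 14), (64, 13), (55, 12), (55, 11), (47,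 10), (7, 8), (74, 12), (64, 11), (55, 10), (55, 9), (47, 8), (75, 13), (65, 12), (56, 11), (56, 10), (11, 14), (74, 16), (74, 15), (64, 14), (64, 13), (55, 12), (55, 11), (47, 10), (47, 9), (74, 17), (74, 16), (64, 15), (64, 14), (55, 13), (55, 12), (47, 11), (47, 10), (7, 8), (75, 15), (75, 14), (65, 13), (65, 12), (56, 11), (56, 10), (8, 8), (75, 13), (75, 12), (65, 11), (65, 10), (56, 9), (56, 8), (76, 14), (76, 13), (66, 12), (66, 11), (9, 9), (76, 12), (76, 11), (66, 10), (66, 9), (77, 13), (77, 12), (10, 10), (77, 11), (77, 10), (70, 12), (70, 11), (60, 10), (51, 9), (43, 8), (30, 7), (30, 6), (25, 5), (25, 4), (3, 2), (72, 5), (72, 4), (62, 3), (62, 2), (74, 6), (74, 5), (64, 4), (64, 3), (74, 7), (74, 6), (64, 5), (64, 4), (76, 8), (76, 7), (66, 6), (66, 5), (76, 9), (76, 8), (66, 7), (66, 6), (72, 10), (72, 9), (62, 8), (62, 7), (53, 6), (53, 5), (38, 4), (38, 3), (74, 7),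 (64, 6), (64, 5), (77, 8), (10, 6), (77, 6), (76, 8), (76, 7), (66, 6), (11, 8), (66, 7), (77, 9), (77, 10), (10, 8), (11, 8), (55, 7), (55, 6), (7, 4), (55, 5), (55, 4), (9, 5), (54, 5), (39, 4), (76, 7), (76, 6), (77, 8), (77, 7), (11, 8), (73, 8), (63, 7), (54, 6), (39, 5), (76, 8), (76, 7), (77, 9), (77, 8), (11, 9), (75, 11), (75, 10), (65, 9), (65, 8), (56, 7), (11, 11), (76, 11), (66, 10), (66, 9), (77, 12), (10, 10), (77, 10), (77, 11), (11, 12), (61, 11), (61, 10), (52, 9), (52, 8), (44, 7), (37, 6), (31, 5), (31, 4), (26, 3), (26, 2), (62, 9), (62, 8), (53, 7), (45, 6), (45, 5), (38, 4), (75, 8), (65, 7), (65, 6), (77, 9), (10, 7), (77, 7), (11, 8), (65, 7), (10, 8), (76, 9), (76, 8), (11, 9), (64, 10), (64, 9), (55, 8), (47, 7), (47, 6), (65, 11), (65, 10), (56, 9), (8, 7), (65, 9), (65, 8), (56, 7), (66, 10), (66, 9), (10, 10), (63, 10), (54, 9), (54, 8), (46, 7), (39,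 6), (39, 5), (74, 8), (74, 7), (11, 8), (75, 8), (11, 9), (73, 13), (73, 12), (63, 11), (54, 10), (54, 9), (46, 8), (39, 7), (39, 6), (74, 9), (74, 8), (11, 9), (75, 9), (11, 10), (11, 13), (74, 13), (64, 12), (55, 11), (55, 10), (47, 9), (7, 7), (75, 11), (65, 10), (56, 9), (56, 8), (11, 12), (66, 11), (9, 9), (76, 11), (76, 10), (66, 9), (11, 11), (77, 11), (77, 12), (10, 10), (71, 10), (52, 9), (44, 8), (44, 7), (31, 6), (31, 5), (26, 4), (26, 3), (62, 10), (62, 9), (53, 8), (45, 7), (45, 6), (38, 5), (75, 9), (65, 8), (65, 7), (77, 10), (10, 8), (77, 8), (11, 9), (65, 8), (10, 9), (76, 10), (76, 9), (11, 10), (64, 11), (64, 10), (55, 9), (47, 8), (47, 7), (65, 12), (65, 11), (56, 10), (8, 8), (65, 10), (65, 9), (56, 8), (66, 11), (66, 10), (10, 11), (63, 11), (54, 10), (54, 9), (46, 8), (39, 7), (39, 6), (74, 9), (74, 8), (11, 9), (75, 9), (11, 10), (73, 14), (73, 13), (63, 12),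 (54, 11), (54, 10), (46, 9), (39, 8), (39, 7), (74, 10), (74, 9), (11, 10), (75, 10), (11, 11), (11, 14), (75, 14), (65, 13), (56, 12), (56, 11), (11, 15), (65, 14), (56, 13), (56, 12), (8, 10), (76, 14), (76, 13), (66, 12), (9, 10), (11, 11), (73, 12), (73, 11), (63, 10), (39, 9), (39, 8), (6, 6), (74, 8), (74, 7), (11, 8), (77, 8), (11, 9), (64, 8), (7, 6), (65, 6), (65, 7), (66, 8), (10, 9), (70, 10), (70, 9), (51, 8), (43, 7), (43, 6), (25, 5), (25, 4), (21, 3), (21, 2), (61, 10), (61, 9), (52, 8), (52, 7), (44, 6), (37, 5), (37, 4), (76, 9), (76, 8), (11, 9), (76, 9), (11, 10), (64, 11), (64, 10), (55, 9), (55, 8), (47, 7), (7, 5), (64, 9), (64, 8), (55, 7), (55, 6), (47, 5), (65, 10), (65, 9), (56, 8), (56, 7), (66, 11), (66, 10), (9, 8), (66, 9), (66, 8), (10, 9), (62, 9), (53, 8), (45, 7), (45, 6), (38, 5), (75, 9), (65, 8), (65, 7), (77, 10), (10, 8), (77, 8), (11, 9), (65,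 8), (10, 9), (76, 10), (76, 9), (11, 10), (64, 10), (55, 9), (47, 8), (47, 7), (64, 11), (55, 10), (47, 9), (47, 8), (7, 6), (66, 9), (66, 10), (9, 8), (62, 8), (45, 7), (45, 6), (75, 11), (75, 10), (65, 9), (65, 8), (77, 12), (77, 11), (10, 9), (77, 10), (77, 9), (11, 10), (77, 10), (74, 11), (64, 10), (64, 9), (47, 8), (47, 7), (74, 12), (64, 11), (64, 10), (47, 9), (47, 8), (76, 13), (66, 12), (66, 11), (76, 14), (66, 13), (66, 12), (75, 15), (65, 14), (65, 13), (56, 12), (56, 11), (8, 9), (11, 13), (65, 12), (65, 11), (56, 10), (56, 9), (76, 15), (76, 14), (66, 13), (66, 12), (9, 10), (77, 13), (77, 12), (10, 10), (77, 11), (77, 10), (11, 11), (71, 11), (61, 10), (44, 9), (37, 8), (37, 7), (26, 6), (26, 5), (4, 3), (62, 9), (62, 8), (53, 7), (45, 6), (45, 5), (38, 4), (75, 8), (65, 7), (65, 6), (77, 9), (10, 7), (77, 7), (11, 8), (65, 7), (10, 8), (76, 9), (76, 8), (11, 9), (64,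 10), (64, 9), (55, 8), (47, 7), (47, 6), (65, 11), (65, 10), (56, 9), (8, 7), (65, 9), (65, 8), (56, 7), (66, 10), (66, 9), (10, 10), (64, 10), (55, 9), (55, 8), (47, 7), (7, 5), (64, 8), (55, 7), (55, 6), (47, 5), (65, 9), (56, 8), (56, 7), (77, 12), (77, 11), (11, 12), (61, 11), (61, 10), (52, 9), (52, 8), (44, 7), (44, 6), (37, 5), (26, 4), (26, 3), (62, 10), (62, 9), (53, 8), (45, 7), (45, 6), (38, 5), (75, 9), (65, 8), (65, 7), (77, 10), (10, 8), (77, 8), (11, 9), (65, 8), (10, 9), (76, 10), (76, 9), (11, 10), (64, 11), (64, 10), (55, 9), (47, 8), (47, 7), (65, 12), (65, 11), (56, 10), (8, 8), (65, 10), (65, 9), (56, 8), (66, 11), (66, 10), (10, 11), (64, 11), (55, 10), (55, 9), (47, 8), (7, 6), (65, 9), (56, 8), (56, 7), (75, 12), (75, 11), (65, 10), (56, 9), (56, 8), (8, 6), (11, 9), (76, 9), (66, 8), (9, 6), (11, 7), (66, 6), (77, 9), (77, 8), (77, 10), (77, 9), (10, 7),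 (73, 8), (73, 7), (54, 6), (74, 9), (74, 8), (55, 7), (75, 10), (75, 9), (56, 8), (75, 11), (75, 10), (56, 9), (76, 12), (76, 11), (77, 13), (77, 12), (77, 14), (77, 13), (11, 14), (71, 14), (61, 13), (61, 12), (52, 11), (52, 10), (44, 9), (44, 8), (37, 7), (31, 6), (26, 5), (26, 4), (62, 11), (62, 10), (53, 9), (45, 8), (45, 7), (38, 6), (75, 10), (65, 9), (65, 8), (77, 11), (10, 9), (77, 9), (11, 10), (65, 9), (10, 10), (76, 11), (76, 10), (11, 11), (64, 12), (64, 11), (55, 10), (47, 9), (47, 8), (65, 13), (65, 12), (56, 11), (8, 9), (65, 11), (65, 10), (56, 9), (66, 12), (66, 11), (10, 12), (63, 12), (54, 11), (54, 10), (46, 9), (39, 8), (39, 7), (74, 10), (74, 9), (11, 10), (75, 10), (11, 11), (74, 15), (74, 14), (64, 13), (55, 12), (55, 11), (47, 10), (7, 8), (75, 13), (75, 12), (65, 11), (56, 10), (56, 9), (11, 13), (75, 13), (65, 12), (56, 11), (56, 10), (8, 8), (11, 11),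 (66, 10), (9, 8), (76, 10), (76, 9), (66, 8), (11, 10), (77, 10), (77, 11), (10, 9), (74, 10), (74, 9), (55, 8), (75, 11), (75, 10), (56, 9), (11, 11), (53, 10), (45, 9), (38, 8), (32, 7), (5, 5), (74, 13), (64, 12), (64, 11), (55, 10), (55, 9), (47, 8), (7, 6), (77, 11), (10, 9), (77, 9), (75, 11), (75, 10), (65, 9), (56, 8), (56, 7), (77, 12), (77, 11), (77, 13), (77, 12), (10, 10), (11, 10), (76, 10), (9, 8), (73, 9), (73, 8), (46, 7), (46, 6), (75, 9), (75, 8), (11, 9), (11, 9), (46, 8), (46, 7), (6, 5), (75, 7), (75, 6), (11, 7), (74, 7), (47, 6), (47, 5), (75, 8), (8, 6), (76, 6), (77, 7), (77, 8), (11, 9), (64, 8), (64, 7), (55, 6), (64, 9), (64, 8), (55, 7), (7, 5), (65, 7), (65, 6), (56, 5), (76, 9), (66, 8), (66, 7), (77, 10), (10, 8), (77, 8), (68, 9), (58, 8), (49, 7), (49, 6), (41, 5), (19, 4), (19, 3), (16, 2), (1, 0), (70, 5), (70, 4), (60, 3), (51, 2), (51, 1), (36,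 0), (66, 2), (10, 3), (10, 4), (71, 5), (71, 4), (52, 3), (52, 2), (37, 1), (76, 5), (76, 4), (11, 5), (11, 5), (54, 4), (54, 3), (39, 2), (76, 5), (76, 4), (76, 6), (76, 5), (73, 7), (73, 6), (54, 5), (54, 4), (39, 3), (76, 6), (76, 5), (76, 7), (76, 6), (11, 7), (74, 7), (55, 6), (55, 5), (74, 8), (55, 7), (55, 6), (7, 4), (75, 6), (56, 5), (56, 4), (76, 7), (9, 5), (77, 5), (77, 6), (71, 7), (61, 6), (61, 5), (44, 4), (31, 3), (31, 2), (73, 5), (73, 4), (11, 5), (75, 5), (11, 6), (75, 8), (65, 7), (65, 6), (75, 9), (65, 8), (65, 7), (8, 5), (76, 7), (66, 6), (66, 5), (76, 8), (66, 7), (66, 6), (77, 9), (10, 7), (71, 7), (52, 6), (52, 5), (31, 4), (31, 3), (4, 1), (73, 3), (73, 2), (11, 3), (76, 3), (11, 4), (11, 5), (56, 4), (56, 3), (56, 5), (56, 4), (9, 5), (65, 6), (56, 5), (8, 3), (76, 6), (66, 5), (66, 4), (11, 7), (66, 6), (66, 5), (9, 3), (77, 6), (77, 5), (10, 3), (11,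 3), (70, 3), (30, 2), (30, 1), (73, 5), (73, 4), (63, 3), (77, 6), (77, 5), (11, 6), (70, 7), (70, 6), (60, 5), (60, 4), (30, 3), (30, 2), (3, 0), (73, 3), (73, 2), (63, 1), (63, 0), (77, 4), (77, 3), (10, 1), (11, 1), (73, 1), (77, 2), (11, 3), (10, 2), (73, 3), (73, 2), (6, 0), (77, 1), (77, 0), (77, 2), (77, 1)], [(11, 0), (77, 0), (11, 1)]⟩,
    ⟨0, [2, 2, 2], [9], [(43, 3), (36, 2), (3, 0), (74, 3), (74, 2), (64, 1), (64, 0), (77, 4), (77, 3), (10, 1), (75, 2), (75, 1), (11, 2), (70, 2), (43, 1), (36, 0), (65, 2), (11, 4), (64, 3), (47, 2), (65, 4), (60, 5), (43, 4), (43, 3), (36, 2), (36, 1), (64, 3), (65, 5), (65, 4), (75, 8), (75, 7), (65, 6), (65, 5), (11, 8), (77, 8), (10, 6), (70, 6), (43, 5), (43, 4), (36, 3), (36, 2), (3, 0), (74, 3), (74, 2), (64, 1), (64, 0), (77, 4), (77, 3), (10, 1), (74, 2), (74, 1), (77, 3), (77, 2), (75, 4), (75, 3), (65, 2), (11, 4), (75, 4),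 (65, 3), (11, 5), (74, 5), (64, 4), (47, 3), (47, 2), (7, 0), (75, 3), (65, 2), (8, 0)], [], [(33, 6), (33, 5), (27, 4), (22, 3), (12, 2), (0, 0), (68, 1), (68, 0), (69, 2), (69, 1), (69, 3), (69, 2), (70, 4), (70, 3), (71, 5), (71, 4), (72, 6), (72, 5), (73, 7), (73, 6), (74, 8), (74, 7), (74, 9), (74, 8), (75, 10), (75, 9), (76, 11), (76, 10), (77, 12), (77, 11), (11, 12), (62, 11), (53, 10), (45, 9), (38, 8), (38, 7), (32, 6), (74, 15), (64, 14), (64, 13), (55, 12), (55, 11), (47, 10), (7, 8), (77, 13), (10, 11), (77, 11), (74, 13), (74, 12), (64, 11), (55, 10), (55, 9), (47, 8), (77, 14), (77, 13), (77, 15), (77, 14), (10, 12), (11, 12), (56, 11), (56, 10), (76, 16), (76, 15), (66, 14), (66, 13), (9, 11), (11, 13), (10, 11), (46, 10), (46, 9), (39, 8), (75, 11), (75, 10), (11, 11), (75, 11), (11, 12), (46, 11), (46, 10), (39, 9), (6, 7), (75, 9), (75, 8), (11, 9), (75, 9), (11,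 10), (47, 9), (47, 8), (8, 9), (73, 13), (73, 12), (63, 11), (63, 10), (54, 9), (39, 8), (39, 7), (74, 10), (74, 9), (11, 10), (76, 10), (77, 11), (77, 12), (11, 13), (65, 12), (65, 11), (56, 10), (65, 13), (65, 12), (56, 11), (64, 14), (64, 13), (55, 12), (47, 11), (47, 10), (7, 8), (64, 12), (64, 11), (55, 10), (47, 9), (47, 8), (57, 13), (57, 12), (48, 11), (40, 10), (40, 9), (33, 8), (27, 7), (22, 6), (22, 5), (18, 4), (15, 3), (13, 2), (13, 1), (12, 0), (69, 13), (59, 12), (50, 11), (42, 10), (35, 9), (35, 8), (29, 7), (24, 6), (20, 5), (17, 4), (2, 2), (60, 3), (60, 2), (64, 4), (64, 3), (64, 5), (64, 4), (65, 6), (65, 5), (65, 7), (65, 6), (66, 8), (66, 7), (71, 11), (71, 10), (61, 9), (61, 8), (52, 7), (44, 6), (44, 5), (37, 4), (37, 3), (75, 8), (75, 7), (11, 8), (76, 8), (11, 9), (74, 12), (74, 11), (64, 10), (64, 9), (55, 8), (47, 7), (47, 6), (7, 4), (75, 10), (75, 9),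 (65, 8), (65, 7), (56, 6), (8, 4), (75, 8), (75, 7), (65, 6), (65, 5), (56, 4), (76, 9), (76, 8), (66, 7), (66, 6), (11, 9), (62, 8), (62, 7), (53, 6), (53, 5), (45, 4), (76, 9), (76, 8), (66, 7), (66, 6), (11, 9), (66, 8), (66, 7), (77, 10), (10, 8), (77, 8), (75, 9), (65, 8), (56, 7), (56, 6), (77, 10), (73, 12), (73, 11), (63, 10), (63, 9), (54, 8), (54, 7), (46, 6), (46, 5), (75, 8), (75, 7), (11, 8), (76, 8), (76, 9), (77, 10), (77, 11), (11, 12), (64, 11), (64, 10), (55, 9), (55, 8), (47, 7), (47, 6), (64, 12), (64, 11), (55, 10), (55, 9), (47, 8), (47, 7), (65, 13), (65, 12), (56, 11), (56, 10), (8, 8), (66, 11), (66, 10), (9, 8), (66, 9), (66, 8), (74, 12), (74, 11), (64, 10), (64, 9), (55, 8), (7, 6), (74, 10), (74, 9), (64, 8), (64, 7), (55, 6), (75, 11), (75, 10), (65, 9), (65, 8), (56, 7), (77, 12), (77, 11), (10, 9), (77, 10), (77, 9), (76, 11), (76, 10), (66, 9), (77,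 12), (77, 11), (77, 13), (77, 12), (10, 10), (11, 10), (77, 10), (71, 12), (71, 11), (61, 10), (52, 9), (52, 8), (44, 7), (37, 6), (31, 5), (26, 4), (63, 11), (63, 10), (54, 9), (46, 8), (46, 7), (39, 6), (75, 9), (75, 8), (11, 9), (75, 9), (11, 10), (74, 14), (74, 13), (64, 12), (64, 11), (55, 10), (47, 9), (47, 8), (75, 15), (75, 14), (65, 13), (65, 12), (56, 11), (8, 9), (11, 12), (76, 12), (66, 11), (66, 10), (11, 13), (66, 12), (66, 11), (9, 9), (77, 12), (77, 11), (10, 9), (11, 9), (71, 9), (37, 8), (37, 7), (31, 6), (26, 5), (4, 3), (63, 9), (63, 8), (54, 7), (46, 6), (46, 5), (39, 4), (75, 7), (75, 6), (11, 7), (75, 7), (11, 8), (74, 12), (74, 11), (64, 10), (64, 9), (55, 8), (47, 7), (47, 6), (74, 13), (74, 12), (64, 11), (64, 10), (55, 9), (47, 8), (47, 7), (7, 5), (11, 10), (64, 9), (64, 8), (55, 7), (47, 6), (47, 5), (64, 10), (64, 9), (55, 8), (47, 7), (47, 6), (65,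 11), (65, 10), (56, 9), (8, 7), (65, 9), (65, 8), (56, 7), (66, 10), (66, 9), (66, 11), (66, 10), (9, 8), (10, 8), (59, 8), (42, 7), (35, 6), (35, 5), (29, 4), (24, 3), (17, 2), (72, 10), (72, 9), (53, 8), (45, 7), (45, 6), (38, 5), (38, 4), (74, 8), (64, 7), (64, 6), (77, 9), (10, 7), (77, 7), (75, 9), (75, 8), (65, 7), (77, 10), (77, 9), (77, 11), (77, 10), (10, 8), (11, 8), (75, 8), (77, 9), (77, 10), (11, 11), (66, 10), (66, 9), (11, 12), (65, 11), (65, 10), (56, 9), (8, 7), (10, 8), (73, 8), (54, 7), (39, 6), (39, 5), (74, 8), (74, 7), (11, 8), (76, 8), (74, 10), (74, 9), (55, 8), (7, 6), (74, 8), (74, 7), (55, 6), (75, 9), (75, 8), (56, 7), (76, 10), (76, 9), (76, 11), (76, 10), (9, 8), (11, 8), (74, 8), (47, 7), (74, 9), (47, 8), (7, 6), (75, 7), (77, 8), (77, 9), (77, 10), (10, 8), (71, 8), (44, 7), (44, 6), (31, 5), (26, 4), (63, 11), (63, 10), (54, 9), (46, 8), (46, 7),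 (39, 6), (75, 9), (75, 8), (11, 9), (75, 9), (11, 10), (75, 14), (75, 13), (65, 12), (65, 11), (56, 10), (8, 8), (11, 11), (75, 11), (65, 10), (65, 9), (56, 8), (11, 12), (71, 12), (61, 11), (61, 10), (52, 9), (44, 8), (37, 7), (31, 6), (26, 5), (63, 12), (63, 11), (54, 10), (46, 9), (46, 8), (39, 7), (75, 10), (75, 9), (11, 10), (75, 10), (11, 11), (74, 15), (74, 14), (64, 13), (64, 12), (55, 11), (47, 10), (47, 9), (75, 16), (75, 15), (65, 14), (65, 13), (56, 12), (8, 10), (11, 13), (76, 13), (66, 12), (66, 11), (11, 14), (10, 12), (74, 13), (64, 12), (55, 11), (55, 10), (7, 8), (74, 11), (64, 10), (55, 9), (55, 8), (75, 12), (65, 11), (56, 10), (56, 9), (75, 13), (65, 12), (56, 11), (56, 10), (76, 14), (66, 13), (9, 11), (76, 12), (66, 11), (77, 13), (77, 14), (10, 12), (70, 12), (51, 11), (43, 10), (43, 9), (36, 8), (30, 7), (25, 6), (21, 5), (21, 4), (61, 12), (61, 11), (52,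 10), (52, 9), (44, 8), (37, 7), (37, 6), (76, 11), (76, 10), (11, 11), (76, 11), (11, 12), (64, 13), (64, 12), (55, 11), (55, 10), (47, 9), (7, 7), (64, 11), (64, 10), (55, 9), (55, 8), (47, 7), (65, 12), (65, 11), (56, 10), (56, 9), (66, 13), (66, 12), (9, 10), (66, 11), (66, 10), (10, 11), (62, 11), (53, 10), (45, 9), (45, 8), (38, 7), (75, 11), (65, 10), (65, 9), (77, 12), (10, 10), (77, 10), (11, 11), (65, 10), (10, 11), (76, 12), (76, 11), (11, 12), (64, 12), (55, 11), (47, 10), (47, 9), (64, 13), (55, 12), (47, 11), (47, 10), (7, 8), (66, 11), (66, 12), (9, 10), (63, 10), (46, 9), (46, 8), (75, 11), (75, 10), (11, 11), (77, 11), (77, 12), (11, 13), (64, 12), (64, 11), (47, 10), (47, 9), (10, 12), (8, 10), (75, 11), (75, 10), (11, 11), (76, 11), (77, 12), (77, 13), (71, 15), (71, 14), (61, 13), (61, 12), (52, 11), (44, 10), (37, 9), (31, 8), (26, 7), (4, 5), (63, 11), (63, 10),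 (54, 9), (46, 8), (46, 7), (39, 6), (75, 9), (75, 8), (11, 9), (75, 9), (11, 10), (74, 14), (74, 13), (64, 12), (64, 11), (55, 10), (47, 9), (47, 8), (75, 15), (75, 14), (65, 13), (65, 12), (56, 11), (8, 9), (11, 12), (76, 12), (66, 11), (66, 10), (11, 13), (10, 11), (71, 13), (71, 12), (61, 11), (52, 10), (52, 9), (37, 8), (37, 7), (31, 6), (26, 5), (63, 12), (63, 11), (54, 10), (46, 9), (46, 8), (39, 7), (75, 10), (75, 9), (11, 10), (75, 10), (11, 11), (74, 15), (74, 14), (64, 13), (64, 12), (55, 11), (47, 10), (47, 9), (74, 16), (74, 15), (64, 14), (64, 13), (55, 12), (47, 11), (47, 10), (7, 8), (76, 14), (76, 13), (66, 12), (66, 11), (11, 14), (76, 14), (66, 13), (66, 12), (9, 10), (11, 12), (10, 10), (73, 11), (73, 10), (46, 9), (46, 8), (75, 11), (75, 10), (11, 11), (11, 11), (47, 10), (47, 9), (8, 10), (71, 15), (71, 14), (61, 13), (61, 12), (52, 11), (44, 10), (37, 9), (31,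 8), (31, 7), (26, 6), (63, 13), (63, 12), (54, 11), (46, 10), (46, 9), (39, 8), (75, 11), (75, 10), (11, 11), (75, 11), (11, 12), (73, 16), (73, 15), (63, 14), (63, 13), (54, 12), (46, 11), (46, 10), (39, 9), (75, 12), (75, 11), (11, 12), (75, 12), (11, 13), (11, 16), (74, 16), (64, 15), (64, 14), (55, 13), (47, 12), (47, 11), (75, 17), (65, 16), (65, 15), (56, 14), (8, 12), (11, 15), (66, 14), (66, 13), (77, 17), (77, 16), (10, 14), (77, 15), (77, 14), (11, 15), (74, 15), (64, 14), (55, 13), (55, 12), (7, 10), (75, 13), (65, 12), (56, 11), (56, 10), (72, 15), (72, 14), (62, 13), (53, 12), (53, 11), (45, 10), (32, 9), (32, 8), (73, 17), (63, 16), (63, 15), (54, 14), (54, 13), (46, 12), (39, 11), (39, 10), (74, 13), (74, 12), (11, 13), (75, 13), (11, 14), (74, 18), (64, 17), (64, 16), (55, 15), (55, 14), (47, 13), (7, 11), (74, 16), (64, 15), (64, 14), (55, 13), (55, 12), (47, 11),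 (75, 17), (65, 16), (65, 15), (56, 14), (56, 13), (76, 18), (66, 17), (66, 16), (9, 14), (76, 16), (66, 15), (66, 14), (77, 17), (10, 15), (77, 15), (75, 17), (75, 16), (65, 15), (56, 14), (8, 12), (77, 15), (77, 14), (77, 16), (77, 15), (10, 13), (11, 13), (76, 13), (76, 15), (76, 14), (9, 12), (11, 12), (73, 14), (73, 13), (63, 12), (39, 11), (6, 9), (77, 11), (77, 10), (11, 11), (73, 11), (63, 10), (39, 9), (77, 12), (77, 11), (11, 12), (64, 11), (65, 12), (66, 13), (10, 14), (72, 15), (72, 14), (53, 13), (45, 12), (38, 11), (38, 10), (32, 9), (5, 7), (74, 15), (64, 14), (64, 13), (55, 12), (55, 11), (47, 10), (7, 8), (77, 13), (10, 11), (77, 11), (74, 13), (74, 12), (64, 11), (55, 10), (55, 9), (47, 8), (77, 14), (77, 13), (77, 15), (77, 14), (10, 12), (11, 12), (56, 11), (56, 10), (76, 16), (76, 15), (66, 14), (66, 13), (9, 11), (11, 13), (73, 14), (73, 13), (63, 12), (63, 11),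 (46, 10), (46, 9), (39, 8), (75, 11), (75, 10), (11, 11), (75, 11), (11, 12), (73, 15), (73, 14), (63, 13), (63, 12), (46, 11), (46, 10), (39, 9), (6, 7), (75, 9), (75, 8), (11, 9), (75, 9), (11, 10), (74, 13), (74, 12), (64, 11), (64, 10), (47, 9), (47, 8), (75, 14), (75, 13), (65, 12), (65, 11), (8, 9), (76, 12), (76, 11), (66, 10), (66, 9), (77, 13), (77, 12), (10, 10), (77, 11), (77, 10), (11, 11), (73, 11), (63, 10), (54, 9), (39, 8), (39, 7), (74, 10), (74, 9), (11, 10), (76, 10), (77, 11), (75, 13), (75, 12), (65, 11), (56, 10), (75, 14), (75, 13), (65, 12), (56, 11), (74, 15), (74, 14), (64, 13), (55, 12), (47, 11), (47, 10), (7, 8), (75, 13), (75, 12), (65, 11), (56, 10), (8, 8), (11, 10), (65, 9), (56, 8), (76, 11), (66, 10), (77, 12), (77, 13), (10, 11), (77, 11), (11, 12), (68, 14), (68, 13), (58, 12), (58, 11), (49, 10), (49, 9), (41, 8), (28, 7), (19, 6), (19, 5), (16,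 4), (16, 3), (14, 2), (70, 7), (43, 6), (43, 5), (21, 4), (65, 12), (65, 11), (56, 10), (56, 9), (75, 15), (75, 14), (65, 13), (65, 12), (56, 11), (56, 10), (8, 8), (11, 12), (71, 13), (71, 12), (61, 11), (61, 10), (52, 9), (52, 8), (37, 7), (37, 6), (76, 11), (76, 10), (11, 11), (77, 11), (77, 12), (11, 13), (63, 12), (63, 11), (54, 10), (54, 9), (39, 8), (39, 7), (74, 10), (74, 9), (11, 10), (76, 10), (76, 11), (77, 12), (77, 13), (73, 14), (63, 13), (63, 12), (54, 11), (54, 10), (39, 9), (39, 8), (74, 11), (74, 10), (11, 11), (76, 11), (76, 12), (77, 13), (77, 14), (74, 16), (74, 15), (64, 14), (64, 13), (55, 12), (55, 11), (7, 9), (74, 14), (74, 13), (64, 12), (64, 11), (55, 10), (55, 9), (75, 15), (75, 14), (65, 13), (65, 12), (56, 11), (56, 10), (76, 16), (76, 15), (66, 14), (66, 13), (9, 11), (77, 14), (77, 13), (10, 11), (77, 12), (77, 11), (70, 13), (70, 12), (60, 11), (43,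 10), (36, 9), (30, 8), (30, 7), (21, 6), (21, 5), (61, 13), (61, 12), (52, 11), (52, 10), (44, 9), (37, 8), (37, 7), (76, 12), (76, 11), (11, 12), (76, 12), (11, 13), (64, 14), (64, 13), (55, 12), (55, 11), (47, 10), (7, 8), (64, 12), (64, 11), (55, 10), (55, 9), (47, 8), (65, 13), (65, 12), (56, 11), (56, 10), (66, 14), (66, 13), (9, 11), (66, 12), (66, 11), (10, 12), (63, 12), (54, 11), (46, 10), (46, 9), (39, 8), (75, 11), (75, 10), (11, 11), (75, 11), (11, 12), (73, 16), (73, 15), (63, 14), (63, 13), (54, 12), (46, 11), (46, 10), (39, 9), (75, 12), (75, 11), (11, 12), (75, 12), (11, 13), (77, 17), (77, 16), (10, 14), (11, 14), (74, 14), (55, 13), (47, 12), (47, 11), (77, 15), (75, 16), (65, 15), (56, 14), (8, 12), (11, 14), (71, 16), (71, 15), (61, 14), (61, 13), (52, 12), (37, 11), (37, 10), (31, 9), (31, 8), (4, 6), (73, 8), (73, 7), (11, 8), (74, 8), (74, 9), (76, 10), (11,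 11), (73, 14), (73, 13), (63, 12), (63, 11), (54, 10), (39, 9), (39, 8), (6, 6), (74, 8), (74, 7), (11, 8), (76, 8), (77, 9), (77, 10), (11, 11), (63, 10), (63, 9), (54, 8), (39, 7), (39, 6), (74, 9), (74, 8), (11, 9), (76, 9), (77, 10), (77, 11), (74, 12), (64, 11), (64, 10), (55, 9), (7, 7), (74, 10), (64, 9), (64, 8), (55, 7), (75, 11), (65, 10), (65, 9), (56, 8), (76, 12), (66, 11), (66, 10), (77, 13), (10, 11), (77, 11), (71, 12), (61, 11), (52, 10), (52, 9), (44, 8), (37, 7), (31, 6), (74, 9), (74, 8), (75, 10), (75, 9), (11, 10), (76, 10), (11, 11), (77, 13), (77, 12), (11, 13), (65, 12), (56, 11), (56, 10), (65, 13), (56, 12), (56, 11), (8, 9), (66, 11), (9, 9), (66, 9), (61, 11), (61, 10), (52, 9), (37, 8), (31, 7), (74, 10), (74, 9), (76, 11), (76, 10), (11, 11), (77, 11), (77, 12), (75, 13), (65, 12), (65, 11), (56, 10), (75, 14), (65, 13), (65, 12), (56, 11), (76, 15),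 (66, 14), (66, 13), (76, 16), (66, 15), (66, 14), (9, 12), (77, 14), (10, 12), (73, 12), (46, 11), (46, 10), (39, 9), (75, 12), (75, 11), (11, 12), (75, 12), (11, 13), (74, 13), (47, 12), (47, 11), (75, 14), (8, 12), (76, 12), (77, 13), (77, 14), (75, 15), (65, 14), (65, 13), (56, 12), (77, 16), (10, 14), (76, 15), (76, 14), (11, 15), (76, 15), (9, 13), (11, 13), (77, 14), (11, 15), (72, 15), (62, 14), (62, 13), (45, 12), (38, 11), (38, 10), (32, 9), (32, 8), (73, 17), (63, 16), (63, 15), (54, 14), (54, 13), (46, 12), (39, 11), (39, 10), (74, 13), (74, 12), (11, 13), (75, 13), (11, 14), (74, 18), (64, 17), (64, 16), (55, 15), (55, 14), (47, 13), (7, 11), (74, 16), (64, 15), (64, 14), (55, 13), (55, 12), (47, 11), (75, 17), (65, 16), (65, 15), (56, 14), (56, 13), (76, 18), (66, 17), (66, 16), (9, 14), (76, 16), (66, 15), (66, 14), (77, 17), (10, 15), (77, 15), (74, 17), (74, 16),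 (64, 15), (55, 14), (47, 13), (47, 12), (77, 18), (77, 17), (77, 19), (77, 18), (10, 16), (11, 16), (55, 15), (47, 14), (47, 13), (7, 11), (75, 16), (65, 15), (65, 14), (56, 13), (8, 11), (77, 14), (10, 12), (77, 12), (11, 13), (10, 12), (73, 12), (54, 11), (6, 9), (74, 10), (55, 9), (74, 11), (55, 10), (67, 12), (48, 11), (33, 10), (33, 9), (22, 8), (18, 7), (18, 6), (15, 5), (15, 4), (13, 3), (12, 2), (12, 1), (68, 14), (58, 13), (49, 12), (41, 11), (34, 10), (34, 9), (28, 8), (23, 7), (19, 6), (16, 5), (14, 4), (14, 3), (69, 8), (42, 7), (42, 6), (20, 5), (75, 11), (56, 10), (8, 8), (77, 9), (77, 10), (75, 11), (65, 10), (65, 9), (56, 8), (77, 12), (10, 10), (77, 10), (71, 12), (71, 11), (61, 10), (52, 9), (44, 8), (37, 7), (76, 11), (76, 10), (11, 11), (77, 11), (11, 12), (65, 11), (56, 10), (65, 12), (56, 11), (8, 9), (70, 11), (60, 10), (51, 9), (36, 8), (21, 7), (21, 6), (61,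 14), (61, 13), (52, 12), (52, 11), (44, 10), (37, 9), (37, 8), (76, 13), (76, 12), (11, 13), (76, 13), (11, 14), (64, 15), (64, 14), (55, 13), (55, 12), (47, 11), (7, 9), (64, 13), (64, 12), (55, 11), (55, 10), (47, 9), (65, 14), (65, 13), (56, 12), (56, 11), (66, 15), (66, 14), (9, 12), (66, 13), (66, 12), (10, 13), (64, 13), (55, 12), (47, 11), (47, 10), (66, 15), (66, 14), (10, 15), (71, 17), (61, 16), (61, 15), (52, 14), (52, 13), (44, 12), (44, 11), (37, 10), (37, 9), (4, 7), (75, 11), (75, 10), (11, 11), (76, 11), (11, 12), (77, 14), (77, 13), (77, 15), (77, 14), (11, 15), (63, 14), (63, 13), (54, 12), (54, 11), (46, 10), (46, 9), (39, 8), (39, 7), (74, 10), (74, 9), (11, 10), (75, 10), (11, 11), (76, 13), (76, 12), (76, 14), (76, 13), (77, 15), (77, 14), (77, 16), (77, 15), (73, 17), (73, 16), (63, 15), (63, 14), (54, 13), (54, 12), (46, 11), (46, 10), (39, 9), (39, 8), (74,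 11), (74, 10), (11, 11), (75, 11), (11, 12), (76, 14), (76, 13), (76, 15), (76, 14), (77, 16), (77, 15), (77, 17), (77, 16), (11, 17), (74, 17), (64, 16), (64, 15), (55, 14), (55, 13), (47, 12), (47, 11), (7, 9), (74, 15), (64, 14), (64, 13), (55, 12), (55, 11), (47, 10), (47, 9), (75, 16), (65, 15), (65, 14), (56, 13), (56, 12), (8, 10), (76, 14), (66, 13), (66, 12), (9, 10), (77, 12), (10, 10), (77, 10), (71, 11), (61, 10), (37, 9), (31, 8), (31, 7), (73, 10), (73, 9), (11, 10), (74, 10), (77, 11), (75, 13), (75, 12), (65, 11), (75, 14), (75, 13), (65, 12), (76, 15), (76, 14), (66, 13), (76, 16), (76, 15), (66, 14), (77, 17), (77, 16), (72, 18), (72, 17), (62, 16), (62, 15), (53, 14), (53, 13), (45, 12), (45, 11), (38, 10), (32, 9), (32, 8), (73, 17), (63, 16), (63, 15), (54, 14), (54, 13), (46, 12), (39, 11), (39, 10), (74, 13), (74, 12), (11, 13), (75, 13), (11, 14), (74, 18),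 (64, 17), (64, 16), (55, 15), (55, 14), (47, 13), (7, 11), (74, 16), (64, 15), (64, 14), (55, 13), (55, 12), (47, 11), (75, 17), (65, 16), (65, 15), (56, 14), (56, 13), (76, 18), (66, 17), (66, 16), (9, 14), (76, 16), (66, 15), (66, 14), (77, 17), (10, 15), (77, 15), (74, 17), (74, 16), (64, 15), (55, 14), (47, 13), (47, 12), (77, 18), (77, 17), (77, 19), (77, 18), (10, 16), (11, 16), (56, 15), (8, 13), (75, 17), (75, 16), (65, 15), (65, 14), (56, 13), (77, 18), (77, 17), (10, 15), (77, 16), (77, 15), (11, 16), (76, 16), (66, 15), (76, 18), (76, 17), (66, 16), (9, 14), (11, 15), (10, 14), (73, 15), (73, 14), (46, 13), (39, 12), (39, 11), (6, 9), (74, 11), (74, 10), (11, 11), (75, 11), (11, 12), (74, 13), (74, 12), (47, 11), (7, 9), (74, 11), (74, 10), (47, 9), (75, 12), (75, 11), (75, 13), (75, 12), (8, 10), (76, 11), (76, 10), (77, 12), (77, 11), (77, 13), (77, 12), (73, 14), (73,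 13), (63, 12), (63, 11), (54, 10), (39, 9), (76, 12), (76, 11), (77, 13), (77, 12), (77, 14), (77, 13), (11, 14), (74, 14), (64, 13), (64, 12), (55, 11), (75, 15), (65, 14), (65, 13), (56, 12), (76, 16), (66, 15), (66, 14), (77, 17), (10, 15), (77, 15), (74, 16), (64, 15), (55, 14), (55, 13), (47, 12), (7, 10), (74, 15), (74, 14), (64, 13), (55, 12), (55, 11), (47, 10), (11, 15), (65, 14), (56, 13), (56, 12), (76, 17), (66, 16), (66, 15), (9, 13), (11, 15), (10, 13), (69, 14), (69, 13), (42, 12), (42, 11), (35, 10), (29, 9), (24, 8), (20, 7), (17, 6), (2, 4), (60, 5), (60, 4), (64, 6), (64, 5), (64, 7), (64, 6), (65, 8), (65, 7), (65, 9), (65, 8), (66, 10), (66, 9), (71, 13), (71, 12), (61, 11), (61, 10), (52, 9), (44, 8), (44, 7), (37, 6), (37, 5), (75, 10), (75, 9), (11, 10), (76, 10), (11, 11), (74, 14), (74, 13), (64, 12), (64, 11), (55, 10), (47, 9), (47, 8), (7, 6), (75, 12),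 (75, 11), (65, 10), (65, 9), (56, 8), (8, 6), (75, 10), (75, 9), (65, 8), (65, 7), (56, 6), (76, 11), (76, 10), (66, 9), (66, 8), (11, 11), (62, 10), (62, 9), (53, 8), (53, 7), (45, 6), (76, 11), (76, 10), (66, 9), (66, 8), (11, 11), (66, 10), (66, 9), (77, 12), (10, 10), (77, 10), (75, 11), (65, 10), (56, 9), (56, 8), (77, 12), (73, 14), (73, 13), (63, 12), (63, 11), (54, 10), (54, 9), (46, 8), (46, 7), (75, 10), (75, 9), (11, 10), (76, 10), (76, 11), (77, 12), (77, 13), (11, 14), (64, 13), (64, 12), (55, 11), (55, 10), (47, 9), (47, 8), (64, 14), (64, 13), (55, 12), (55, 11), (47, 10), (47, 9), (65, 15), (65, 14), (56, 13), (56, 12), (8, 10), (66, 13), (66, 12), (9, 10), (66, 11), (66, 10), (74, 14), (74, 13), (64, 12), (64, 11), (55, 10), (7, 8), (75, 12), (75, 11), (65, 10), (65, 9), (56, 8), (77, 13), (77, 12), (10, 10), (77, 11), (77, 10), (75, 12), (75, 11), (65, 10), (56,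 9), (77, 13), (77, 12), (77, 14), (77, 13), (10, 11), (11, 11), (69, 11), (50, 10), (42, 9), (42, 8), (29, 7), (24, 6), (20, 5), (17, 4), (71, 12), (71, 11), (52, 10), (44, 9), (44, 8), (37, 7), (37, 6), (75, 11), (75, 10), (11, 11), (76, 11), (11, 12), (74, 13), (74, 12), (55, 11), (47, 10), (47, 9), (7, 7), (75, 11), (75, 10), (56, 9), (8, 7), (75, 9), (75, 8), (56, 7), (76, 10), (76, 9), (11, 10), (53, 9), (53, 8), (45, 7), (76, 12), (76, 11), (66, 10), (66, 9), (11, 12), (66, 11), (66, 10), (75, 13), (65, 12), (65, 11), (56, 10), (56, 9), (77, 14), (10, 12), (73, 13), (73, 12), (54, 11), (54, 10), (46, 9), (46, 8), (75, 11), (75, 10), (11, 11), (76, 11), (76, 12), (11, 13), (55, 12), (55, 11), (47, 10), (47, 9), (55, 13), (55, 12), (47, 11), (47, 10), (56, 14), (56, 13), (8, 11), (9, 11), (75, 13), (75, 12), (56, 11), (77, 14), (77, 13), (77, 15), (77, 14), (75, 16), (75, 15),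 (65, 14), (65, 13), (56, 12), (77, 17), (77, 16), (10, 14), (77, 15), (77, 14), (76, 16), (76, 15), (66, 14), (77, 17), (77, 16), (77, 18), (77, 17), (10, 15), (11, 15), (70, 16), (70, 15), (51, 14), (51, 13), (43, 12), (43, 11), (36, 10), (36, 9), (30, 8), (25, 7), (21, 6), (62, 14), (62, 13), (53, 12), (53, 11), (45, 10), (38, 9), (38, 8), (74, 12), (64, 11), (64, 10), (77, 13), (10, 11), (77, 11), (75, 13), (75, 12), (65, 11), (77, 14), (77, 13), (77, 15), (77, 14), (10, 12), (11, 12), (76, 12), (76, 14), (76, 13), (11, 14), (64, 15), (64, 14), (55, 13), (55, 12), (47, 11), (7, 9), (64, 13), (64, 12), (55, 11), (55, 10), (47, 9), (66, 14), (66, 13), (9, 11), (66, 12), (66, 11), (63, 13), (63, 12), (54, 11), (46, 10), (39, 9), (75, 12), (75, 11), (11, 12), (76, 12), (77, 13), (77, 14), (77, 15), (10, 13), (11, 13), (55, 12), (47, 11), (64, 14), (55, 13), (47, 12), (7, 10), (65,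 13), (65, 12), (56, 11), (75, 16), (75, 15), (65, 14), (65, 13), (56, 12), (8, 10), (11, 13), (76, 13), (66, 12), (66, 11), (77, 14), (10, 12), (77, 12), (76, 13), (66, 12), (9, 10), (77, 11), (77, 12), (10, 10), (11, 10), (31, 9), (26, 8), (63, 15), (63, 14), (54, 13), (46, 12), (46, 11), (39, 10), (75, 13), (75, 12), (11, 13), (75, 13), (11, 14), (72, 18), (72, 17), (62, 16), (62, 15), (53, 14), (45, 13), (45, 12), (38, 11), (32, 10), (74, 19), (64, 18), (64, 17), (55, 16), (55, 15), (47, 14), (7, 12), (77, 17), (10, 15), (77, 15), (75, 17), (75, 16), (65, 15), (56, 14), (56, 13), (77, 18), (77, 17), (77, 19), (77, 18), (10, 16), (11, 16), (75, 16), (56, 15), (56, 14), (8, 12), (77, 14), (77, 15), (11, 16), (66, 15), (66, 14), (9, 12), (77, 14), (10, 12), (77, 12), (11, 13), (63, 12), (64, 13), (64, 14), (65, 15), (66, 16), (69, 19), (59, 18), (59, 17), (50, 16), (42, 15), (35,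 14), (35, 13), (29, 12), (29, 11), (24, 10), (24, 9), (20, 8), (20, 7), (17, 6), (17, 5), (70, 13), (70, 12), (51, 11), (43, 10), (43, 9), (36, 8), (36, 7), (64, 9), (65, 11), (65, 10), (75, 14), (75, 13), (65, 12), (65, 11), (11, 14), (76, 14), (66, 13), (66, 12), (77, 15), (10, 13), (77, 13), (11, 14), (64, 13), (55, 12), (47, 11), (47, 10), (7, 8), (64, 11), (55, 10), (47, 9), (47, 8), (65, 12), (56, 11), (8, 9), (65, 10), (56, 9), (66, 11), (71, 14), (71, 13), (61, 12), (52, 11), (52, 10), (44, 9), (37, 8), (76, 12), (76, 11), (11, 12), (76, 12), (11, 13), (74, 15), (74, 14), (64, 13), (55, 12), (55, 11), (47, 10), (75, 16), (75, 15), (65, 14), (56, 13), (56, 12), (75, 17), (75, 16), (65, 15), (56, 14), (56, 13), (8, 11), (76, 15), (76, 14), (66, 13), (9, 11), (11, 12), (61, 11), (37, 10), (37, 9), (64, 12), (7, 10), (65, 10), (65, 11), (66, 12), (72, 14), (62, 13), (53, 12),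 (45, 11), (45, 10), (75, 15), (75, 14), (65, 13), (65, 12), (77, 16), (77, 15), (10, 13), (77, 14), (77, 13), (11, 14), (76, 14), (66, 13), (77, 16), (77, 15), (11, 16), (65, 15), (65, 14), (56, 13), (8, 11), (10, 12), (72, 12), (53, 11), (75, 14), (75, 13), (56, 12), (77, 15), (77, 14), (11, 15), (63, 14), (54, 13), (46, 12), (76, 15), (76, 14), (77, 16), (77, 15), (74, 17), (74, 16), (64, 15), (55, 14), (47, 13), (74, 18), (74, 17), (64, 16), (55, 15), (47, 14), (75, 19), (75, 18), (65, 17), (56, 16), (76, 20), (76, 19), (66, 18), (76, 21), (76, 20), (66, 19), (9, 17), (11, 18), (73, 18), (63, 17), (46, 16), (46, 15), (39, 14), (39, 13), (74, 16), (74, 15), (11, 16), (75, 16), (11, 17), (77, 19), (77, 18), (11, 19), (64, 18), (47, 17), (47, 16), (7, 14), (64, 16), (47, 15), (47, 14), (65, 17), (8, 15), (66, 15), (66, 16), (74, 19), (74, 18), (64, 17), (55, 16), (55, 15), (74, 20),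 (74, 19), (64, 18), (55, 17), (55, 16), (7, 14), (75, 18), (75, 17), (65, 16), (56, 15), (56, 14), (77, 19), (77, 18), (77, 20), (77, 19), (10, 17), (76, 18), (76, 17), (9, 15), (77, 16), (77, 15), (77, 17), (77, 16), (11, 17), (77, 17), (10, 15), (77, 15), (71, 17), (71, 16), (61, 15), (44, 14), (31, 13), (31, 12), (26, 11), (26, 10), (4, 8), (62, 14), (62, 13), (53, 12), (45, 11), (45, 10), (38, 9), (75, 13), (65, 12), (65, 11), (77, 14), (10, 12), (77, 12), (11, 13), (65, 12), (10, 13), (76, 14), (76, 13), (11, 14), (64, 15), (64, 14), (55, 13), (47, 12), (47, 11), (65, 16), (65, 15), (56, 14), (8, 12), (65, 14), (65, 13), (56, 12), (66, 15), (66, 14), (10, 15), (63, 15), (54, 14), (54, 13), (46, 12), (39, 11), (39, 10), (74, 13), (74, 12), (11, 13), (75, 13), (11, 14), (73, 18), (73, 17), (63, 16), (54, 15), (54, 14), (46, 13), (39, 12), (39, 11), (74, 14), (74, 13), (11, 14),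 (75, 14), (11, 15), (11, 18), (75, 18), (65, 17), (56, 16), (56, 15), (11, 19), (71, 21), (71, 20), (61, 19), (61, 18), (52, 17), (52, 16), (44, 15), (44, 14), (37, 13), (37, 12), (31, 11), (31, 10), (26, 9), (26, 8), (62, 15), (62, 14), (53, 13), (45, 12), (45, 11), (38, 10), (75, 14), (65, 13), (65, 12), (77, 15), (10, 13), (77, 13), (11, 14), (65, 13), (10, 14), (76, 15), (76, 14), (11, 15), (64, 16), (64, 15), (55, 14), (47, 13), (47, 12), (65, 17), (65, 16), (56, 15), (8, 13), (65, 15), (65, 14), (56, 13), (66, 16), (66, 15), (10, 16), (63, 16), (54, 15), (54, 14), (46, 13), (39, 12), (39, 11), (74, 14), (74, 13), (11, 14), (75, 14), (11, 15), (73, 19), (73, 18), (63, 17), (54, 16), (54, 15), (46, 14), (39, 13), (39, 12), (74, 15), (74, 14), (11, 15), (75, 15), (11, 16), (11, 19), (74, 19), (64, 18), (55, 17), (55, 16), (47, 15), (7, 13), (74, 17), (64, 16), (55, 15), (55, 14),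 (47, 13), (75, 18), (65, 17), (56, 16), (56, 15), (11, 19), (65, 18), (56, 17), (56, 16), (8, 14), (76, 18), (76, 17), (66, 16), (9, 14), (11, 15), (76, 15), (66, 14), (11, 16), (10, 15), (74, 16), (74, 15), (55, 14), (74, 17), (74, 16), (55, 15), (7, 13), (75, 15), (75, 14), (56, 13), (75, 16), (75, 15), (56, 14), (76, 17), (76, 16), (76, 18), (76, 17), (9, 15), (77, 16), (77, 15), (77, 17), (77, 16), (70, 18), (70, 17), (60, 16), (60, 15), (43, 14), (43, 13), (30, 12), (30, 11), (25, 10), (25, 9), (21, 8), (3, 6), (71, 9), (71, 8), (61, 7), (61, 6), (74, 10), (74, 9), (64, 8), (64, 7), (74, 11), (74, 10), (64, 9), (64, 8), (75, 12), (75, 11), (65, 10), (65, 9), (76, 13), (76, 12), (66, 11), (66, 10), (76, 14), (76, 13), (66, 12), (66, 11), (77, 15), (77, 14), (10, 12), (77, 13), (77, 12), (72, 14), (72, 13), (62, 12), (53, 11), (53, 10), (45, 9), (38, 8), (38, 7), (74, 11), (64,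 10), (64, 9), (77, 12), (10, 10), (77, 10), (75, 12), (75, 11), (65, 10), (77, 13), (77, 12), (77, 14), (77, 13), (10, 11), (11, 11), (76, 11), (76, 13), (76, 12), (11, 13), (74, 15), (74, 14), (64, 13), (55, 12), (55, 11), (47, 10), (7, 8), (74, 13), (74, 12), (64, 11), (55, 10), (55, 9), (47, 8), (76, 14), (76, 13), (66, 12), (9, 10), (76, 12), (76, 11), (66, 10), (72, 13), (72, 12), (62, 11), (53, 10), (45, 9), (38, 8), (75, 12), (65, 11), (65, 10), (77, 13), (10, 11), (77, 11), (11, 12), (66, 11), (77, 13), (11, 14), (64, 13), (64, 12), (55, 11), (47, 10), (64, 14), (64, 13), (55, 12), (47, 11), (7, 9), (66, 12), (66, 11), (66, 13), (66, 12), (9, 10), (63, 11), (63, 10), (46, 9), (77, 12), (77, 11), (77, 13), (77, 12), (77, 14), (77, 13), (10, 11), (11, 11), (73, 11), (46, 10), (11, 12), (75, 14), (75, 13), (65, 12), (11, 14), (75, 14), (65, 13), (8, 11), (11, 12), (10, 11),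 (71, 12), (71, 11), (31, 10), (31, 9), (26, 8), (26, 7), (62, 14), (62, 13), (53, 12), (45, 11), (45, 10), (38, 9), (75, 13), (65, 12), (65, 11), (77, 14), (10, 12), (77, 12), (11, 13), (65, 12), (10, 13), (76, 14), (76, 13), (11, 14), (64, 15), (64, 14), (55, 13), (47, 12), (47, 11), (65, 16), (65, 15), (56, 14), (8, 12), (65, 14), (65, 13), (56, 12), (66, 15), (66, 14), (10, 15), (63, 15), (54, 14), (54, 13), (46, 12), (39, 11), (39, 10), (74, 13), (74, 12), (11, 13), (75, 13), (11, 14), (73, 18), (73, 17), (63, 16), (54, 15), (54, 14), (46, 13), (39, 12), (39, 11), (74, 14), (74, 13), (11, 14), (75, 14), (11, 15), (11, 18), (11, 18), (61, 17), (52, 16), (52, 15), (44, 14), (37, 13), (37, 12), (31, 11), (31, 10), (26, 9), (26, 8), (4, 6), (62, 12), (62, 11), (53, 10), (45, 9), (45, 8), (38, 7), (75, 11), (65, 10), (65, 9), (77, 12), (10, 10), (77, 10), (11, 11), (65, 10), (10,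 11), (76, 12), (76, 11), (11, 12), (64, 13), (64, 12), (55, 11), (47, 10), (47, 9), (65, 14), (65, 13), (56, 12), (8, 10), (65, 12), (65, 11), (56, 10), (66, 13), (66, 12), (10, 13), (63, 13), (54, 12), (54, 11), (46, 10), (39, 9), (39, 8), (74, 11), (74, 10), (11, 11), (75, 11), (11, 12), (73, 16), (73, 15), (63, 14), (54, 13), (54, 12), (46, 11), (39, 10), (39, 9), (74, 12), (74, 11), (11, 12), (75, 12), (11, 13), (11, 16), (74, 16), (64, 15), (55, 14), (55, 13), (47, 12), (7, 10), (74, 14), (64, 13), (55, 12), (55, 11), (47, 10), (75, 15), (65, 14), (56, 13), (56, 12), (11, 16), (66, 15), (9, 13), (76, 15), (76, 14), (66, 13), (11, 15), (77, 15), (73, 16), (63, 15), (63, 14), (54, 13), (46, 12), (46, 11), (39, 10), (6, 8), (75, 10), (75, 9), (11, 10), (75, 10), (11, 11), (74, 14), (64, 13), (64, 12), (55, 11), (47, 10), (47, 9), (75, 15), (65, 14), (65, 13), (56, 12), (8, 10),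 (75, 13), (65, 12), (65, 11), (56, 10), (76, 14), (66, 13), (66, 12), (77, 15), (10, 13), (77, 13), (11, 14), (60, 13), (51, 12), (51, 11), (43, 10), (36, 9), (36, 8), (25, 7), (25, 6), (53, 11), (53, 10), (38, 9), (38, 8), (74, 12), (64, 11), (64, 10), (77, 13), (10, 11), (77, 11), (76, 13), (76, 12), (66, 11), (11, 13), (66, 12), (74, 14), (64, 13), (55, 12), (55, 11), (7, 9), (74, 12), (64, 11), (55, 10), (55, 9), (76, 13), (66, 12), (9, 10), (76, 11), (66, 10), (74, 12), (64, 11), (55, 10), (77, 13), (74, 14), (64, 13), (64, 12), (55, 11), (7, 9), (77, 12), (10, 10), (75, 10), (56, 9), (11, 11), (66, 13), (66, 12), (9, 10), (10, 10), (61, 11), (61, 10), (44, 9), (26, 8), (26, 7), (62, 14), (62, 13), (53, 12), (45, 11), (45, 10), (38, 9), (75, 13), (65, 12), (65, 11), (77, 14), (10, 12), (77, 12), (11, 13), (65, 12), (10, 13), (76, 14), (76, 13), (11, 14), (64, 15), (64, 14),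 (55, 13), (47, 12), (47, 11), (65, 16), (65, 15), (56, 14), (8, 12), (65, 14), (65, 13), (56, 12), (66, 15), (66, 14), (10, 15), (65, 15), (56, 14), (56, 13), (77, 18), (77, 17), (77, 19), (77, 18), (10, 16), (71, 17), (71, 16), (52, 15), (52, 14), (44, 13), (44, 12), (37, 11), (37, 10), (26, 9), (26, 8), (62, 15), (62, 14), (53, 13), (45, 12), (45, 11), (38, 10), (75, 14), (65, 13), (65, 12), (77, 15), (10, 13), (77, 13), (11, 14), (65, 13), (10, 14), (76, 15), (76, 14), (11, 15), (64, 16), (64, 15), (55, 14), (47, 13), (47, 12), (65, 17), (65, 16), (56, 15), (8, 13), (65, 15), (65, 14), (56, 13), (66, 16), (66, 15), (10, 16), (64, 16), (55, 15), (55, 14), (47, 13), (7, 11), (64, 14), (55, 13), (55, 12), (47, 11), (65, 15), (56, 14), (56, 13), (75, 18), (75, 17), (65, 16), (56, 15), (56, 14), (8, 12), (11, 15), (76, 15), (66, 14), (9, 12), (11, 13), (66, 12), (11, 14), (73, 14),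 (63, 13), (54, 12), (39, 11), (76, 14), (76, 13), (77, 15), (77, 14), (11, 15), (64, 14), (55, 13), (65, 15), (56, 14), (65, 16), (56, 15), (66, 17), (10, 18), (71, 19), (71, 18), (52, 17), (52, 16), (44, 15), (44, 14), (37, 13), (37, 12), (31, 11), (26, 10), (26, 9), (4, 7), (62, 13), (62, 12), (53, 11), (45, 10), (45, 9), (38, 8), (75, 12), (65, 11), (65, 10), (77, 13), (10, 11), (77, 11), (11, 12), (65, 11), (10, 12), (76, 13), (76, 12), (11, 13), (64, 14), (64, 13), (55, 12), (47, 11), (47, 10), (65, 15), (65, 14), (56, 13), (8, 11), (65, 13), (65, 12), (56, 11), (66, 14), (66, 13), (10, 14), (63, 14), (54, 13), (54, 12), (46, 11), (39, 10), (39, 9), (74, 12), (74, 11), (11, 12), (75, 12), (11, 13), (74, 17), (74, 16), (64, 15), (55, 14), (55, 13), (47, 12), (7, 10), (74, 15), (74, 14), (64, 13), (55, 12), (55, 11), (47, 10), (75, 16), (75, 15), (65, 14), (56, 13), (56, 12),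 (11, 16), (75, 16), (65, 15), (56, 14), (56, 13), (8, 11), (11, 14), (66, 13), (9, 11), (76, 13), (76, 12), (66, 11), (11, 13), (11, 13), (64, 12), (55, 11), (65, 13), (56, 12), (71, 15), (61, 14), (52, 13), (44, 12), (37, 11), (37, 10), (31, 9), (26, 8), (26, 7), (62, 14), (62, 13), (53, 12), (45, 11), (45, 10), (38, 9), (75, 13), (65, 12), (65, 11), (77, 14), (10, 12), (77, 12), (11, 13), (65, 12), (10, 13), (76, 14), (76, 13), (11, 14), (64, 15), (64, 14), (55, 13), (47, 12), (47, 11), (65, 16), (65, 15), (56, 14), (8, 12), (65, 14), (65, 13), (56, 12), (66, 15), (66, 14), (10, 15), (63, 15), (54, 14), (54, 13), (46, 12), (39, 11), (39, 10), (74, 13), (74, 12), (11, 13), (75, 13), (11, 14), (74, 18), (74, 17), (64, 16), (55, 15), (55, 14), (47, 13), (7, 11), (74, 16), (74, 15), (64, 14), (55, 13), (55, 12), (47, 11), (75, 17), (75, 16), (65, 15), (56, 14), (56, 13), (11, 17),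 (76, 17), (66, 16), (9, 14), (11, 15), (74, 16), (64, 15), (64, 14), (47, 13), (47, 12), (75, 17), (65, 16), (65, 15), (8, 13), (72, 16), (72, 15), (62, 14), (62, 13), (38, 12), (38, 11), (32, 10), (5, 8), (74, 16), (64, 15), (64, 14), (55, 13), (55, 12), (47, 11), (7, 9), (77, 14), (10, 12), (77, 12), (74, 14), (74, 13), (64, 12), (55, 11), (55, 10), (47, 9), (77, 15), (77, 14), (77, 16), (77, 15), (10, 13), (11, 13), (73, 16), (73, 15), (63, 14), (63, 13), (54, 12), (54, 11), (46, 10), (39, 9), (75, 12), (75, 11), (11, 12), (76, 12), (76, 13), (77, 14), (77, 15), (11, 16), (63, 15), (63, 14), (54, 13), (54, 12), (46, 11), (39, 10), (6, 8), (75, 10), (75, 9), (11, 10), (76, 10), (76, 11), (77, 12), (77, 13), (74, 14), (64, 13), (64, 12), (55, 11), (55, 10), (47, 9), (75, 15), (65, 14), (65, 13), (56, 12), (56, 11), (76, 16), (66, 15), (66, 14), (9, 12), (77, 14), (10, 12), (77,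 12), (11, 13), (64, 12), (47, 11), (47, 10), (7, 8), (64, 10), (47, 9), (47, 8), (66, 11), (10, 12), (67, 12), (48, 11), (40, 10), (40, 9), (33, 8), (18, 7), (15, 6), (13, 5), (13, 4), (12, 3), (12, 2), (0, 0), (68, 1), (68, 0), (69, 2), (69, 1), (69, 3), (69, 2), (70, 4), (70, 3), (71, 5), (71, 4), (72, 6), (72, 5), (73, 7), (73, 6), (74, 8), (74, 7), (74, 9), (74, 8), (75, 10), (75, 9), (76, 11), (76, 10), (77, 12), (77, 11), (11, 12), (58, 11), (49, 10), (41, 9), (34, 8), (34, 7), (28, 6), (23, 5), (19, 4), (16, 3), (14, 2), (14, 1), (69, 6), (42, 5), (42, 4), (20, 3), (75, 9), (56, 8), (8, 6), (77, 7), (77, 8), (75, 9), (65, 8), (65, 7), (56, 6), (77, 10), (10, 8), (77, 8), (71, 10), (71, 9), (61, 8), (52, 7), (44, 6), (37, 5), (76, 9), (76, 8), (11, 9), (77, 9), (11, 10), (65, 9), (56, 8), (65, 10), (56, 9), (8, 7), (70, 9), (60, 8), (51, 7), (36, 6), (21, 5), (21, 4), (61,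 12), (61, 11), (52, 10), (52, 9), (44, 8), (37, 7), (37, 6), (76, 11), (76, 10), (11, 11), (76, 11), (11, 12), (64, 13), (64, 12), (55, 11), (55, 10), (47, 9), (7, 7), (64, 11), (64, 10), (55, 9), (55, 8), (47, 7), (65, 12), (65, 11), (56, 10), (56, 9), (66, 13), (66, 12), (9, 10), (66, 11), (66, 10), (10, 11), (64, 11), (55, 10), (47, 9), (47, 8), (66, 13), (66, 12), (10, 13), (71, 15), (61, 14), (61, 13), (52, 12), (52, 11), (44, 10), (44, 9), (37, 8), (37, 7), (4, 5), (75, 9), (75, 8), (11, 9), (76, 9), (11, 10), (77, 12), (77, 11), (77, 13), (77, 12), (11, 13), (63, 12), (63, 11), (54, 10), (54, 9), (46, 8), (46, 7), (39, 6), (39, 5), (74, 8), (74, 7), (11, 8), (75, 8), (11, 9), (76, 11), (76, 10), (76, 12), (76, 11), (77, 13), (77, 12), (77, 14), (77, 13), (73, 15), (73, 14), (63, 13), (63, 12), (54, 11), (54, 10), (46, 9), (46, 8), (39, 7), (39, 6), (74, 9), (74, 8), (11, 9),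 (75, 9), (11, 10), (76, 12), (76, 11), (76, 13), (76, 12), (77, 14), (77, 13), (77, 15), (77, 14), (11, 15), (74, 15), (64, 14), (64, 13), (55, 12), (55, 11), (47, 10), (47, 9), (7, 7), (74, 13), (64, 12), (64, 11), (55, 10), (55, 9), (47, 8), (47, 7), (75, 14), (65, 13), (65, 12), (56, 11), (56, 10), (8, 8), (76, 12), (66, 11), (66, 10), (9, 8), (77, 10), (10, 8), (77, 8), (71, 9), (61, 8), (37, 7), (31, 6), (31, 5), (73, 8), (73, 7), (11, 8), (74, 8), (77, 9), (75, 11), (75, 10), (65, 9), (75, 12), (75, 11), (65, 10), (76, 13), (76, 12), (66, 11), (76, 14), (76, 13), (66, 12), (77, 15), (77, 14), (72, 16), (72, 15), (62, 14), (62, 13), (53, 12), (53, 11), (45, 10), (45, 9), (38, 8), (32, 7), (32, 6), (73, 15), (63, 14), (63, 13), (54, 12), (54, 11), (46, 10), (39, 9), (39, 8), (74, 11), (74, 10), (11, 11), (75, 11), (11, 12), (74, 16), (64, 15), (64, 14), (55, 13), (55, 12), (47,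 11), (7, 9), (74, 14), (64, 13), (64, 12), (55, 11), (55, 10), (47, 9), (75, 15), (65, 14), (65, 13), (56, 12), (56, 11), (76, 16), (66, 15), (66, 14), (9, 12), (76, 14), (66, 13), (66, 12), (77, 15), (10, 13), (77, 13), (74, 15), (74, 14), (64, 13), (55, 12), (47, 11), (47, 10), (77, 16), (77, 15), (77, 17), (77, 16), (10, 14), (11, 14), (56, 13), (8, 11), (75, 15), (75, 14), (65, 13), (65, 12), (56, 11), (77, 16), (77, 15), (10, 13), (77, 14), (77, 13), (11, 14), (76, 14), (66, 13), (76, 16), (76, 15), (66, 14), (9, 12), (11, 13), (10, 12), (73, 13), (73, 12), (46, 11), (39, 10), (39, 9), (6, 7), (74, 9), (74, 8), (11, 9), (75, 9), (11, 10), (74, 11), (74, 10), (47, 9), (7, 7), (74, 9), (74, 8), (47, 7), (75, 10), (75, 9), (75, 11), (75, 10), (8, 8), (76, 9), (76, 8), (77, 10), (77, 9), (77, 11), (77, 10), (73, 12), (73, 11), (63, 10), (63, 9), (54, 8), (39, 7), (76, 10), (76,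 9), (77, 11), (77, 10), (77, 12), (77, 11), (11, 12), (74, 12), (64, 11), (64, 10), (55, 9), (75, 13), (65, 12), (65, 11), (56, 10), (76, 14), (66, 13), (66, 12), (77, 15), (10, 13), (77, 13), (74, 14), (64, 13), (55, 12), (55, 11), (47, 10), (7, 8), (74, 13), (74, 12), (64, 11), (55, 10), (55, 9), (47, 8), (11, 13), (65, 12), (56, 11), (56, 10), (76, 15), (66, 14), (66, 13), (9, 11), (11, 13), (10, 11), (69, 11), (42, 10), (42, 9), (35, 8), (29, 7), (24, 6), (20, 5), (17, 4), (2, 2), (60, 3), (60, 2), (64, 4), (64, 3), (64, 5), (64, 4), (65, 6), (65, 5), (65, 7), (65, 6), (66, 8), (66, 7), (71, 11), (71, 10), (61, 9), (61, 8), (52, 7), (44, 6), (44, 5), (37, 4), (37, 3), (75, 8), (75, 7), (11, 8), (76, 8), (11, 9), (74, 12), (74, 11), (64, 10), (64, 9), (55, 8), (47, 7), (47, 6), (7, 4), (75, 10), (75, 9), (65, 8), (65, 7), (56, 6), (8, 4), (75, 8), (75, 7), (65, 6), (65, 5), (56,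 4), (76, 9), (76, 8), (66, 7), (66, 6), (11, 9), (62, 8), (62, 7), (53, 6), (53, 5), (45, 4), (76, 9), (76, 8), (66, 7), (66, 6), (11, 9), (66, 8), (66, 7), (77, 10), (10, 8), (77, 8), (75, 9), (65, 8), (56, 7), (56, 6), (77, 10), (73, 12), (73, 11), (63, 10), (63, 9), (54, 8), (54, 7), (46, 6), (46, 5), (75, 8), (75, 7), (11, 8), (76, 8), (76, 9), (77, 10), (77, 11), (11, 12), (64, 11), (64, 10), (55, 9), (55, 8), (47, 7), (47, 6), (64, 12), (64, 11), (55, 10), (55, 9), (47, 8), (47, 7), (65, 13), (65, 12), (56, 11), (56, 10), (8, 8), (66, 11), (66, 10), (9, 8), (66, 9), (66, 8), (74, 12), (74, 11), (64, 10), (64, 9), (55, 8), (7, 6), (75, 10), (75, 9), (65, 8), (65, 7), (56, 6), (77, 11), (77, 10), (10, 8), (77, 9), (77, 8), (75, 10), (75, 9), (65, 8), (56, 7), (77, 11), (77, 10), (77, 12), (77, 11), (10, 9), (11, 9), (50, 8), (42, 7), (42, 6), (29, 5), (24, 4), (20, 3), (17, 2),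 (71, 10), (71, 9), (52, 8), (44, 7), (44, 6), (37, 5), (37, 4), (75, 9), (75, 8), (11, 9), (76, 9), (11, 10), (74, 11), (74, 10), (55, 9), (47, 8), (47, 7), (7, 5), (75, 9), (75, 8), (56, 7), (8, 5), (75, 7), (75, 6), (56, 5), (76, 8), (76, 7), (11, 8), (53, 7), (53, 6), (45, 5), (76, 10), (76, 9), (66, 8), (66, 7), (11, 10), (66, 9), (66, 8), (75, 11), (65, 10), (65, 9), (56, 8), (56, 7), (77, 12), (10, 10), (73, 11), (73, 10), (54, 9), (54, 8), (46, 7), (46, 6), (75, 9), (75, 8), (11, 9), (76, 9), (76, 10), (11, 11), (55, 10), (55, 9), (47, 8), (47, 7), (55, 11), (55, 10), (47, 9), (47, 8), (56, 12), (56, 11), (8, 9), (9, 9), (75, 11), (75, 10), (56, 9), (77, 12), (77, 11), (77, 13), (77, 12), (75, 14), (75, 13), (65, 12), (65, 11), (56, 10), (77, 15), (77, 14), (10, 12), (77, 13), (77, 12), (76, 14), (76, 13), (66, 12), (77, 15), (77, 14), (77, 16), (77, 15), (10, 13), (11, 13),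 (70, 13), (51, 12), (51, 11), (43, 10), (43, 9), (36, 8), (36, 7), (30, 6), (25, 5), (21, 4), (62, 12), (62, 11), (53, 10), (53, 9), (45, 8), (38, 7), (38, 6), (74, 10), (64, 9), (64, 8), (77, 11), (10, 9), (77, 9), (75, 11), (75, 10), (65, 9), (77, 12), (77, 11), (77, 13), (77, 12), (10, 10), (11, 10), (76, 10), (76, 12), (76, 11), (11, 12), (64, 13), (64, 12), (55, 11), (55, 10), (47, 9), (7, 7), (64, 11), (64, 10), (55, 9), (55, 8), (47, 7), (66, 12), (66, 11), (9, 9), (66, 10), (66, 9), (63, 11), (63, 10), (54, 9), (46, 8), (39, 7), (75, 10), (75, 9), (11, 10), (76, 10), (77, 11), (77, 12), (77, 13), (10, 11), (11, 11), (55, 10), (47, 9), (64, 12), (55, 11), (47, 10), (7, 8), (65, 11), (65, 10), (56, 9), (75, 14), (75, 13), (65, 12), (65, 11), (56, 10), (8, 8), (11, 11), (76, 11), (66, 10), (66, 9), (77, 12), (10, 10), (77, 10), (76, 11), (66, 10), (9, 8), (77, 9), (77, 10),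 (10, 8), (71, 9), (71, 8), (31, 7), (26, 6), (63, 13), (63, 12), (54, 11), (46, 10), (46, 9), (39, 8), (75, 11), (75, 10), (11, 11), (75, 11), (11, 12), (11, 15), (72, 15), (62, 14), (62, 13), (53, 12), (45, 11), (45, 10), (38, 9), (32, 8), (74, 17), (64, 16), (64, 15), (55, 14), (55, 13), (47, 12), (7, 10), (77, 15), (10, 13), (77, 13), (75, 15), (75, 14), (65, 13), (56, 12), (56, 11), (77, 16), (77, 15), (77, 17), (77, 16), (10, 14), (11, 14), (75, 14), (56, 13), (56, 12), (8, 10), (77, 12), (77, 13), (11, 14), (66, 13), (66, 12), (9, 10), (77, 12), (10, 10), (77, 10), (73, 12), (73, 11), (63, 10), (74, 13), (74, 12), (64, 11), (74, 14), (74, 13), (64, 12), (75, 15), (75, 14), (65, 13), (76, 16), (76, 15), (66, 14), (77, 17), (77, 16), (11, 17), (59, 16), (59, 15), (50, 14), (42, 13), (35, 12), (35, 11), (29, 10), (29, 9), (24, 8), (24, 7), (20, 6), (20, 5), (17, 4), (17, 3), (70,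 11), (70, 10), (51, 9), (43, 8), (43, 7), (36, 6), (36, 5), (64, 7), (65, 9), (65, 8), (75, 12), (75, 11), (65, 10), (65, 9), (11, 12), (76, 12), (66, 11), (66, 10), (77, 13), (10, 11), (77, 11), (11, 12), (64, 11), (55, 10), (47, 9), (47, 8), (7, 6), (64, 9), (55, 8), (47, 7), (47, 6), (65, 10), (56, 9), (8, 7), (65, 8), (56, 7), (66, 9), (71, 12), (71, 11), (61, 10), (52, 9), (52, 8), (44, 7), (37, 6), (76, 10), (76, 9), (11, 10), (76, 10), (11, 11), (74, 13), (74, 12), (64, 11), (55, 10), (55, 9), (47, 8), (75, 14), (75, 13), (65, 12), (56, 11), (56, 10), (75, 15), (75, 14), (65, 13), (56, 12), (56, 11), (8, 9), (76, 13), (76, 12), (66, 11), (9, 9), (11, 10), (61, 9), (37, 8), (37, 7), (64, 10), (7, 8), (65, 8), (65, 9), (66, 10), (72, 12), (62, 11), (53, 10), (45, 9), (45, 8), (75, 13), (75, 12), (65, 11), (65, 10), (77, 14), (77, 13), (10, 11), (77, 12), (77, 11), (11, 12),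 (76, 12), (66, 11), (77, 14), (77, 13), (11, 14), (65, 13), (65, 12), (56, 11), (8, 9), (10, 10), (72, 10), (53, 9), (75, 12), (75, 11), (56, 10), (77, 13), (77, 12), (11, 13), (63, 12), (54, 11), (46, 10), (76, 13), (76, 12), (77, 14), (77, 13), (74, 15), (74, 14), (64, 13), (55, 12), (47, 11), (74, 16), (74, 15), (64, 14), (55, 13), (47, 12), (75, 17), (75, 16), (65, 15), (56, 14), (76, 18), (76, 17), (66, 16), (76, 19), (76, 18), (66, 17), (9, 15), (11, 16), (73, 16), (63, 15), (46, 14), (46, 13), (39, 12), (39, 11), (74, 14), (74, 13), (11, 14), (75, 14), (11, 15), (77, 17), (77, 16), (11, 17), (64, 16), (47, 15), (47, 14), (7, 12), (64, 14), (47, 13), (47, 12), (65, 15), (8, 13), (66, 13), (66, 14), (74, 17), (74, 16), (64, 15), (55, 14), (55, 13), (74, 18), (74, 17), (64, 16), (55, 15), (55, 14), (7, 12), (75, 16), (75, 15), (65, 14), (56, 13), (56, 12), (77, 17), (77, 16),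 (77, 18), (77, 17), (10, 15), (76, 16), (76, 15), (9, 13), (77, 14), (77, 13), (77, 15), (77, 14), (11, 15), (77, 15), (10, 13), (77, 13), (71, 14), (61, 13), (44, 12), (31, 11), (31, 10), (26, 9), (26, 8), (4, 6), (62, 12), (62, 11), (53, 10), (45, 9), (45, 8), (38, 7), (75, 11), (65, 10), (65, 9), (77, 12), (10, 10), (77, 10), (11, 11), (65, 10), (10, 11), (76, 12), (76, 11), (11, 12), (64, 13), (64, 12), (55, 11), (47, 10), (47, 9), (65, 14), (65, 13), (56, 12), (8, 10), (65, 12), (65, 11), (56, 10), (66, 13), (66, 12), (10, 13), (63, 13), (54, 12), (54, 11), (46, 10), (39, 9), (39, 8), (74, 11), (74, 10), (11, 11), (75, 11), (11, 12), (73, 16), (73, 15), (63, 14), (54, 13), (54, 12), (46, 11), (39, 10), (39, 9), (74, 12), (74, 11), (11, 12), (75, 12), (11, 13), (11, 16), (75, 16), (65, 15), (56, 14), (56, 13), (11, 17), (71, 18), (61, 17), (61, 16), (52, 15), (52, 14), (44, 13),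 (44, 12), (37, 11), (37, 10), (31, 9), (31, 8), (26, 7), (26, 6), (62, 13), (62, 12), (53, 11), (45, 10), (45, 9), (38, 8), (75, 12), (65, 11), (65, 10), (77, 13), (10, 11), (77, 11), (11, 12), (65, 11), (10, 12), (76, 13), (76, 12), (11, 13), (64, 14), (64, 13), (55, 12), (47, 11), (47, 10), (65, 15), (65, 14), (56, 13), (8, 11), (65, 13), (65, 12), (56, 11), (66, 14), (66, 13), (10, 14), (63, 14), (54, 13), (54, 12), (46, 11), (39, 10), (39, 9), (74, 12), (74, 11), (11, 12), (75, 12), (11, 13), (73, 17), (73, 16), (63, 15), (54, 14), (54, 13), (46, 12), (39, 11), (39, 10), (74, 13), (74, 12), (11, 13), (75, 13), (11, 14), (11, 17), (74, 17), (64, 16), (55, 15), (55, 14), (47, 13), (7, 11), (74, 15), (64, 14), (55, 13), (55, 12), (47, 11), (75, 16), (65, 15), (56, 14), (56, 13), (11, 17), (65, 16), (56, 15), (56, 14), (8, 12), (76, 16), (76, 15), (66, 14), (9, 12), (11, 13), (76,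 13), (66, 12), (11, 14), (10, 13), (74, 13), (55, 12), (74, 14), (55, 13), (7, 11), (75, 12), (56, 11), (75, 13), (56, 12), (76, 14), (76, 15), (9, 13), (77, 13), (77, 14), (69, 15), (59, 14), (59, 13), (42, 12), (42, 11), (29, 10), (29, 9), (24, 8), (24, 7), (20, 6), (17, 5), (17, 4), (2, 2), (60, 3), (60, 2), (64, 4), (64, 3), (64, 5), (64, 4), (65, 6), (65, 5), (65, 7), (65, 6), (66, 8), (66, 7), (70, 11), (70, 10), (60, 9), (60, 8), (51, 7), (43, 6), (43, 5), (36, 4), (36, 3), (64, 5), (65, 7), (65, 6), (75, 10), (75, 9), (65, 8), (65, 7), (11, 10), (76, 10), (66, 9), (66, 8), (77, 11), (10, 9), (77, 9), (77, 10), (77, 11), (10, 9), (11, 9), (55, 8), (47, 7), (47, 6), (7, 4), (55, 6), (47, 5), (47, 4), (56, 7), (8, 5), (56, 5), (71, 9), (71, 8), (52, 7), (52, 6), (44, 5), (37, 4), (76, 8), (76, 7), (11, 8), (76, 8), (11, 9), (74, 10), (74, 9), (55, 8), (55, 7), (47, 6), (75,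 11), (75, 10), (56, 9), (56, 8), (75, 12), (75, 11), (56, 10), (56, 9), (8, 7), (76, 10), (76, 9), (9, 7), (11, 7), (38, 6), (38, 5), (74, 9), (64, 8), (64, 7), (77, 10), (10, 8), (77, 8), (75, 10), (75, 9), (65, 8), (77, 11), (77, 10), (11, 11), (62, 10), (62, 9), (45, 8), (38, 7), (38, 6), (74, 10), (64, 9), (64, 8), (77, 11), (10, 9), (77, 9), (75, 11), (75, 10), (65, 9), (77, 12), (77, 11), (77, 13), (77, 12), (10, 10), (11, 10), (77, 10), (77, 11), (75, 12), (65, 11), (65, 10), (77, 13), (10, 11), (73, 12), (73, 11), (46, 10), (46, 9), (39, 8), (39, 7), (74, 10), (74, 9), (11, 10), (75, 10), (11, 11), (11, 12), (74, 12), (47, 11), (47, 10), (7, 8), (74, 10), (47, 9), (47, 8), (75, 11), (8, 9), (76, 9), (76, 10), (11, 11), (54, 10), (54, 9), (39, 8), (76, 11), (76, 10), (76, 12), (76, 11), (74, 13), (74, 12), (55, 11), (55, 10), (74, 14), (74, 13), (55, 12), (55, 11), (7, 9),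 (75, 12), (75, 11), (56, 10), (56, 9), (76, 13), (76, 12), (9, 10), (76, 11), (76, 10), (11, 11), (75, 11), (56, 10), (77, 12), (77, 13), (75, 14), (65, 13), (65, 12), (56, 11), (8, 9), (77, 12), (10, 10), (77, 10), (77, 11), (77, 12), (10, 10), (71, 11), (71, 10), (52, 9), (31, 8), (31, 7), (26, 6), (26, 5), (62, 12), (62, 11), (53, 10), (45, 9), (45, 8), (38, 7), (75, 11), (65, 10), (65, 9), (77, 12), (10, 10), (77, 10), (11, 11), (65, 10), (10, 11), (76, 12), (76, 11), (11, 12), (64, 13), (64, 12), (55, 11), (47, 10), (47, 9), (65, 14), (65, 13), (56, 12), (8, 10), (65, 12), (65, 11), (56, 10), (66, 13), (66, 12), (10, 13), (63, 13), (54, 12), (54, 11), (46, 10), (39, 9), (39, 8), (74, 11), (74, 10), (11, 11), (75, 11), (11, 12), (73, 16), (73, 15), (63, 14), (54, 13), (54, 12), (46, 11), (39, 10), (39, 9), (74, 12), (74, 11), (11, 12), (75, 12), (11, 13), (11, 16), (76, 16),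 (66, 15), (9, 13), (11, 14), (71, 15), (71, 14), (61, 13), (44, 12), (37, 11), (37, 10), (31, 9), (31, 8), (26, 7), (26, 6), (4, 4), (62, 10), (62, 9), (53, 8), (45, 7), (45, 6), (38, 5), (75, 9), (65, 8), (65, 7), (77, 10), (10, 8), (77, 8), (11, 9), (65, 8), (10, 9), (76, 10), (76, 9), (11, 10), (64, 11), (64, 10), (55, 9), (47, 8), (47, 7), (65, 12), (65, 11), (56, 10), (8, 8), (65, 10), (65, 9), (56, 8), (66, 11), (66, 10), (10, 11), (63, 11), (54, 10), (54, 9), (46, 8), (39, 7), (39, 6), (74, 9), (74, 8), (11, 9), (75, 9), (11, 10), (73, 14), (73, 13), (63, 12), (54, 11), (54, 10), (46, 9), (39, 8), (39, 7), (74, 10), (74, 9), (11, 10), (75, 10), (11, 11), (11, 14), (74, 14), (64, 13), (55, 12), (55, 11), (47, 10), (7, 8), (74, 12), (64, 11), (55, 10), (55, 9), (47, 8), (75, 13), (65, 12), (56, 11), (56, 10), (11, 14), (74, 16), (74, 15), (64, 14), (64, 13), (55, 12), (55, 11),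 (47, 10), (47, 9), (74, 17), (74, 16), (64, 15), (64, 14), (55, 13), (55, 12), (47, 11), (47, 10), (7, 8), (75, 15), (75, 14), (65, 13), (65, 12), (56, 11), (56, 10), (8, 8), (75, 13), (75, 12), (65, 11), (65, 10), (56, 9), (56, 8), (76, 14), (76, 13), (66, 12), (66, 11), (9, 9), (76, 12), (76, 11), (66, 10), (66, 9), (77, 13), (77, 12), (10, 10), (77, 11), (77, 10), (70, 12), (70, 11), (60, 10), (51, 9), (43, 8), (30, 7), (30, 6), (25, 5), (25, 4), (3, 2), (72, 5), (72, 4), (62, 3), (62, 2), (74, 6), (74, 5), (64, 4), (64, 3), (74, 7), (74, 6), (64, 5), (64, 4), (76, 8), (76, 7), (66, 6), (66, 5), (76, 9), (76, 8), (66, 7), (66, 6), (72, 10), (72, 9), (62, 8), (62, 7), (53, 6), (53, 5), (38, 4), (38, 3), (74, 7), (64, 6), (64, 5), (77, 8), (10, 6), (77, 6), (76, 8), (76, 7), (66, 6), (11, 8), (66, 7), (77, 9), (77, 10), (10, 8), (11, 8), (55, 7), (55, 6), (7, 4), (55, 5), (55, 4),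 (9, 5), (54, 5), (39, 4), (76, 7), (76, 6), (77, 8), (77, 7), (11, 8), (73, 8), (63, 7), (54, 6), (39, 5), (76, 8), (76, 7), (77, 9), (77, 8), (11, 9), (75, 11), (75, 10), (65, 9), (65, 8), (56, 7), (11, 11), (76, 11), (66, 10), (66, 9), (77, 12), (10, 10), (77, 10), (77, 11), (11, 12), (61, 11), (61, 10), (52, 9), (52, 8), (44, 7), (37, 6), (31, 5), (31, 4), (26, 3), (26, 2), (62, 9), (62, 8), (53, 7), (45, 6), (45, 5), (38, 4), (75, 8), (65, 7), (65, 6), (77, 9), (10, 7), (77, 7), (11, 8), (65, 7), (10, 8), (76, 9), (76, 8), (11, 9), (64, 10), (64, 9), (55, 8), (47, 7), (47, 6), (65, 11), (65, 10), (56, 9), (8, 7), (65, 9), (65, 8), (56, 7), (66, 10), (66, 9), (10, 10), (63, 10), (54, 9), (54, 8), (46, 7), (39, 6), (39, 5), (74, 8), (74, 7), (11, 8), (75, 8), (11, 9), (73, 13), (73, 12), (63, 11), (54, 10), (54, 9), (46, 8), (39, 7), (39, 6), (74, 9), (74, 8), (11, 9), (75, 9),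 (11, 10), (11, 13), (74, 13), (64, 12), (55, 11), (55, 10), (47, 9), (7, 7), (75, 11), (65, 10), (56, 9), (56, 8), (11, 12), (66, 11), (9, 9), (76, 11), (76, 10), (66, 9), (11, 11), (77, 11), (77, 12), (10, 10), (71, 10), (52, 9), (44, 8), (44, 7), (31, 6), (31, 5), (26, 4), (26, 3), (62, 10), (62, 9), (53, 8), (45, 7), (45, 6), (38, 5), (75, 9), (65, 8), (65, 7), (77, 10), (10, 8), (77, 8), (11, 9), (65, 8), (10, 9), (76, 10), (76, 9), (11, 10), (64, 11), (64, 10), (55, 9), (47, 8), (47, 7), (65, 12), (65, 11), (56, 10), (8, 8), (65, 10), (65, 9), (56, 8), (66, 11), (66, 10), (10, 11), (63, 11), (54, 10), (54, 9), (46, 8), (39, 7), (39, 6), (74, 9), (74, 8), (11, 9), (75, 9), (11, 10), (73, 14), (73, 13), (63, 12), (54, 11), (54, 10), (46, 9), (39, 8), (39, 7), (74, 10), (74, 9), (11, 10), (75, 10), (11, 11), (11, 14), (75, 14), (65, 13), (56, 12), (56, 11), (11, 15), (65, 14),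 (56, 13), (56, 12), (8, 10), (76, 14), (76, 13), (66, 12), (9, 10), (11, 11), (73, 12), (73, 11), (63, 10), (39, 9), (39, 8), (6, 6), (74, 8), (74, 7), (11, 8), (77, 8), (11, 9), (64, 8), (7, 6), (65, 6), (65, 7), (66, 8), (10, 9), (71, 10), (71, 9), (52, 8), (44, 7), (44, 6), (26, 5), (26, 4), (4, 2), (62, 8), (62, 7), (53, 6), (45, 5), (45, 4), (38, 3), (75, 7), (65, 6), (65, 5), (77, 8), (10, 6), (77, 6), (11, 7), (65, 6), (10, 7), (76, 8), (76, 7), (11, 8), (64, 9), (64, 8), (55, 7), (47, 6), (47, 5), (65, 10), (65, 9), (56, 8), (8, 6), (65, 8), (65, 7), (56, 6), (66, 9), (66, 8), (10, 9), (65, 9), (56, 8), (56, 7), (75, 12), (75, 11), (65, 10), (56, 9), (56, 8), (8, 6), (11, 9), (76, 9), (66, 8), (9, 6), (11, 7), (74, 8), (74, 7), (64, 6), (7, 4), (75, 6), (75, 5), (65, 4), (11, 6), (64, 5), (47, 4), (65, 6), (75, 8), (65, 7), (8, 5), (76, 7), (76, 6), (66, 5), (77, 8), (77,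 7), (77, 9), (77, 8), (10, 6), (11, 6), (49, 5), (34, 4), (23, 3), (23, 2), (1, 0), (72, 5), (72, 4), (62, 3), (53, 2), (53, 1), (38, 0), (76, 4), (66, 3), (66, 2), (76, 6), (76, 5), (66, 4), (66, 3), (11, 6), (10, 4), (73, 5), (73, 4), (54, 3), (54, 2), (39, 1), (76, 4), (76, 3), (76, 5), (76, 4), (11, 5), (74, 5), (55, 4), (55, 3), (74, 6), (55, 5), (55, 4), (7, 2), (75, 4), (56, 3), (56, 2), (75, 5), (56, 4), (56, 3), (76, 6), (9, 4), (77, 4), (77, 5), (72, 6), (62, 5), (62, 4), (45, 3), (45, 2), (32, 1), (75, 10), (65, 9), (65, 8), (56, 7), (56, 6), (77, 11), (10, 9), (77, 9), (11, 10), (65, 9), (56, 8), (56, 7), (8, 5), (10, 7), (77, 8), (77, 7), (77, 9), (77, 8), (11, 9), (63, 8), (63, 7), (54, 6), (54, 5), (39, 4), (39, 3), (74, 6), (74, 5), (11, 6), (76, 6), (76, 7), (77, 8), (77, 9), (74, 10), (64, 9), (64, 8), (55, 7), (55, 6), (7, 4), (74, 8), (64, 7), (64, 6), (55, 5),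 (55, 4), (75, 9), (65, 8), (65, 7), (56, 6), (56, 5), (75, 10), (65, 9), (65, 8), (56, 7), (56, 6), (76, 11), (66, 10), (66, 9), (9, 7), (77, 9), (10, 7), (77, 7), (74, 8), (64, 7), (47, 6), (47, 5), (76, 10), (76, 9), (66, 8), (11, 10), (72, 10), (62, 9), (53, 8), (45, 7), (45, 6), (38, 5), (38, 4), (32, 3), (32, 2), (5, 0), (73, 8), (63, 7), (63, 6), (54, 5), (54, 4), (46, 3), (39, 2), (39, 1), (74, 4), (74, 3), (11, 4), (75, 4), (11, 5), (74, 9), (64, 8), (64, 7), (55, 6), (55, 5), (47, 4), (7, 2), (74, 7), (64, 6), (64, 5), (55, 4), (55, 3), (47, 2), (75, 8), (65, 7), (65, 6), (56, 5), (56, 4), (76, 9), (66, 8), (66, 7), (9, 5), (76, 7), (66, 6), (66, 5), (77, 8), (10, 6), (77, 6), (74, 8), (74, 7), (64, 6), (55, 5), (47, 4), (47, 3), (77, 9), (77, 8), (77, 10), (77, 9), (10, 7), (11, 7), (55, 6), (47, 5), (47, 4), (7, 2), (75, 7), (65, 6), (65, 5), (56, 4), (8, 2), (77, 5),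 (10, 3), (77, 3), (11, 4), (65, 3), (56, 2), (10, 4), (76, 5), (76, 4), (11, 5), (73, 6), (63, 5), (54, 4), (54, 3), (46, 2), (6, 0), (76, 2), (76, 1), (76, 3), (76, 2), (77, 4), (77, 3), (11, 4), (64, 3), (55, 2), (55, 1), (47, 0), (64, 4), (55, 3), (55, 2), (47, 1)], []⟩]
  adj := [
    [],
    [],
    [(0, 2), (1, 2), (2, 2), (12, 2), (13, 1), (15, 1)],
    [],
    [(1, 1), (2, 1), (13, 1), (14, 2), (15, 1), (16, 1)],
    [],
    [(1, 1), (2, 2), (13, 2), (15, 2), (16, 1)],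
    [(1, 1), (15, 2), (16, 2)],
    [(0, 2), (1, 1), (2, 1), (13, 1), (14, 1), (15, 1), (16, 1)],
    [(0, 1), (2, 2), (15, 2), (16, 2)],
    [(2, 2)],
    [(0, 2)]]
  base := []
  dense := [
    [0, 0, 0, 0, 0, 0, 0, 0, 0, 0, 0, 0, 0, 0, 0, 0, 0, 0, 0, 0, 0, 0, 0, 0, 0, 0, 0, 0, 0, 0, 0, 0, 0, 0, 0, 0, 0, 0, 0, 0, 0, 0, 0, 0, 0, 0, 0, 0, 0, 0, 0, 0, 0, 0, 0, 0, 0, 0, 0, 0, 0, 0, 0, 0, 0, 0, 0, 2],
    [0, 0, 0, 0, 0, 0, 0, 0, 0, 0, 0, 0, 0, 0, 0, 0, 0, 0, 0, 0, 0, 0, 0, 0, 0, 0, 0, 0, 0, 0, 0, 0, 0, 0, 0, 0, 0, 0, 0, 0, 0, 0, 0, 0, 0, 0, 0, 0, 0, 0, 0, 0, 0, 0, 0, 0, 0, 0, 0, 2],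
    [0, 0, 0, 0, 0, 0, 0, 0, 0, 0, 0, 0, 0, 0, 0, 0, 0, 0, 0, 0, 0, 0, 0, 0, 0, 0, 0, 0, 0, 0, 0, 0, 0, 0, 0, 0, 0, 0, 0, 0, 0, 0, 0, 0, 0, 0, 0, 0, 0, 0, 0, 0, 0, 0, 0, 0, 0, 0, 0, 0, 2, 0, 0, 0, 0, 0, 0, 0, 0, 0, 2],
    [0, 0, 0, 0, 0, 0, 0, 0, 0, 0, 0, 0, 0, 0, 0, 0, 0, 0, 0, 0, 0, 0, 0, 0, 0, 0, 0, 0, 0, 0, 0, 0, 0, 0, 0, 0, 0, 0, 0, 0, 0, 0, 0, 0, 0, 0, 0, 0, 0, 0, 0, 0, 0, 0, 0, 0, 0, 0, 0, 0, 0, 0, 0, 0, 0, 0, 0, 0, 0, 0, 0, 0, 0, 0, 1],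
    [0, 0, 0, 0, 0, 0, 0, 0, 0, 0, 0, 0, 0, 0, 0, 0, 0, 0, 0, 0, 0, 0, 0, 0, 0, 0, 0, 0, 0, 0, 0, 0, 0, 0, 0, 0, 0, 0, 0, 0, 0, 0, 0, 0, 0, 0, 0, 0, 0, 0, 0, 0, 0, 0, 0, 0, 0, 0, 0, 0, 0, 0, 0, 0, 0, 0, 0, 0, 0, 0, 0, 0, 0, 0, 0, 0, 0, 1],
    [0, 0, 0, 0, 0, 0, 0, 0, 0, 0, 0, 0, 0, 0, 0, 0, 0, 0, 0, 0, 0, 0, 0, 0, 0, 0, 0, 0, 0, 0, 0, 0, 0, 0, 0, 0, 0, 0, 0, 0, 0, 0, 0, 0, 0, 0, 0, 1, 0, 0, 0, 0, 0, 0, 0, 0, 0, 0, 0, 0, 0, 0, 0, 0, 0, 0, 0, 0, 0, 0, 0, 0, 0, 0, 1],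
    [0, 0, 0, 0, 0, 0, 0, 0, 0, 0, 0, 0, 0, 0, 0, 0, 0, 0, 0, 0, 0, 0, 0, 0, 0, 0, 0, 0, 0, 0, 0, 0, 0, 0, 0, 0, 0, 0, 0, 0, 0, 0, 0, 0, 0, 0, 0, 0, 0, 0, 0, 0, 0, 0, 0, 0, 0, 0, 0, 0, 0, 0, 0, 0, 0, 0, 0, 0, 0, 0, 0, 0, 0, 0, 0, 0, 2],
    [0, 0, 0, 0, 0, 0, 0, 0, 0, 0, 0, 2],
    [0, 0, 0, 0, 0, 0, 0, 0, 0, 0, 0, 0, 0, 0, 0, 0, 0, 0, 0, 0, 0, 0, 0, 0, 0, 0, 0, 0, 0, 0, 0, 0, 0, 0, 0, 0, 0, 0, 0, 0, 0, 0, 0, 0, 0, 0, 0, 2, 0, 0, 0, 0, 0, 0, 0, 1, 0, 0, 0, 0, 0, 0, 0, 0, 0, 0, 0, 0, 0, 0, 0, 0, 0, 0, 1],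
    [0, 0, 0, 0, 0, 0, 0, 0, 0, 0, 0, 2, 0, 0, 0, 0, 0, 0, 0, 0, 0, 0, 0, 0, 0, 0, 0, 0, 0, 0, 0, 0, 0, 0, 1, 0, 0, 0, 0, 0, 0, 0, 0, 0, 0, 0, 0, 0, 0, 2, 0, 0, 0, 0, 0, 0, 0, 0, 1, 0, 0, 0, 0, 0, 0, 0, 0, 0, 2, 0, 0, 0, 0, 0, 0, 0, 1, 2],
    [0, 0, 0, 0, 0, 0, 0, 0, 0, 0, 0, 0, 0, 0, 0, 0, 0, 0, 0, 0, 0, 0, 0, 0, 0, 0, 0, 0, 0, 0, 0, 0, 0, 0, 0, 0, 0, 2, 0, 0, 0, 0, 0, 0, 0, 0, 0, 2, 0, 0, 0, 0, 0, 0, 0, 0, 0, 0, 0, 0, 0, 0, 0, 0, 0, 0, 0, 0, 0, 2, 0, 2, 0, 0, 1, 1],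
    [0, 0, 0, 0, 0, 0, 0, 0, 0, 0, 0, 0, 0, 0, 0, 0, 0, 0, 0, 0, 0, 0, 0, 0, 0, 0, 0, 0, 0, 0, 0, 0, 0, 0, 0, 0, 0, 0, 0, 0, 0, 0, 0, 0, 0, 0, 0, 0, 0, 0, 0, 0, 0, 0, 0, 0, 1, 0, 0, 0, 0, 0, 0, 1, 0, 2],
    [0, 0, 0, 0, 0, 0, 0, 0, 0, 0, 0, 0, 0, 0, 0, 0, 0, 0, 0, 0, 0, 0, 0, 0, 0, 0, 0, 0, 0, 0, 0, 0, 0, 0, 0, 0, 0, 0, 0, 0, 0, 0, 0, 0, 0, 0, 0, 0, 0, 0, 0, 0, 0, 0, 0, 0, 0, 0, 0, 0, 0, 2, 0, 0, 0, 1, 0, 0, 0, 2, 0, 2, 0, 0, 0, 1, 0, 1],
    [0, 0, 0, 0, 0, 0, 0, 0, 0, 0, 0, 0, 0, 0, 0, 0, 0, 0, 0, 0, 0, 0, 0, 0, 0, 0, 0, 0, 0, 0, 0, 0, 0, 0, 0, 0, 0, 0, 0, 0, 0, 0, 0, 0, 0, 0, 0, 1, 0, 0, 0, 0, 0, 0, 0, 1, 0, 0, 0, 0, 0, 0, 0, 0, 2, 0, 0, 0, 2, 0, 0, 0, 0, 2],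
    [0, 0, 0, 0, 0, 0, 0, 0, 1, 0, 0, 1, 0, 0, 0, 0, 0, 0, 0, 0, 0, 0, 0, 0, 0, 0, 0, 0, 0, 0, 0, 0, 0, 0, 0, 0, 0, 0, 0, 0, 0, 0, 0, 0, 0, 0, 0, 0, 0, 0, 0, 0, 0, 0, 0, 0, 0, 0, 0, 0, 0, 0, 0, 0, 0, 0, 0, 0, 0, 0, 0, 0, 0, 2, 0, 2],
    [0, 0, 0, 0, 0, 0, 0, 0, 0, 0, 0, 0, 0, 0, 0, 0, 0, 0, 0, 0, 0, 0, 0, 0, 0, 0, 0, 0, 0, 0, 0, 0, 0, 0, 0, 0, 0, 0, 0, 0, 0, 0, 0, 0, 0, 0, 0, 0, 0, 0, 0, 0, 0, 0, 2, 1, 1, 0, 0, 0, 0, 0, 0, 0, 0, 0, 2, 0, 1, 0, 0, 0, 1],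
    [0, 0, 0, 0, 0, 0, 0, 0, 0, 0, 0, 0, 0, 0, 0, 0, 0, 0, 0, 0, 0, 0, 0, 0, 0, 0, 0, 0, 0, 0, 0, 0, 0, 0, 0, 0, 0, 0, 0, 0, 0, 0, 0, 0, 2, 0, 0, 0, 0, 0, 0, 0, 0, 0, 0, 0, 0, 0, 2, 2, 0, 0, 0, 0, 0, 0, 0, 0, 0, 2, 0, 2, 0, 0, 0, 1],
    [0, 0, 0, 0, 0, 0, 0, 2, 2, 0, 0, 0, 0, 0, 0, 0, 0, 0, 0, 0, 0, 0, 0, 0, 0, 0, 0, 0, 0, 0, 0, 0, 0, 0, 0, 0, 0, 0, 0, 0, 0, 0, 0, 0, 0, 0, 0, 0, 0, 0, 0, 0, 0, 0, 0, 0, 0, 0, 0, 0, 0, 0, 0, 0, 0, 0, 0, 0, 0, 0, 0, 1, 0, 0, 1, 2],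
    [0, 0, 0, 0, 0, 0, 0, 0, 0, 0, 2, 2, 0, 0, 0, 0, 0, 0, 0, 0, 0, 0, 0, 0, 0, 0, 0, 0, 0, 0, 0, 0, 0, 0, 0, 1, 2, 2, 2, 2, 0, 0, 0, 0, 0, 0, 0, 1, 0, 0, 0, 0, 0, 0, 0, 1, 0, 0, 0, 0, 0, 2, 2, 0, 1, 0, 0, 1, 0, 1, 2, 2, 2, 1, 2, 2, 2, 1],
    [0, 0, 0, 0, 0, 0, 0, 0, 0, 0, 2, 2, 0, 0, 0, 0, 0, 0, 0, 0, 0, 0, 0, 0, 0, 0, 0, 0, 0, 0, 0, 0, 0, 0, 0, 0, 2, 0, 0, 2, 0, 0, 0, 1, 0, 0, 0, 1, 0, 0, 0, 2, 0, 0, 2, 0, 2, 0, 0, 0, 2, 0, 2, 0, 0, 0, 2, 0, 0, 0, 1, 0, 1, 0, 2],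
    [0, 0, 0, 0, 0, 0, 0, 0, 0, 0, 1, 1, 0, 0, 0, 0, 0, 0, 0, 0, 0, 0, 0, 0, 0, 0, 0, 0, 0, 0, 0, 0, 0, 0, 1, 0, 0, 2, 0, 0, 0, 2, 1, 0, 1, 0, 0, 1, 0, 1, 1, 0, 0, 0, 0, 2, 2, 0, 0, 2, 0, 0, 0, 0, 1, 1, 2, 0, 1, 0, 0, 2, 0, 0, 2, 0, 2, 1],
    [0, 0, 0, 0, 0, 0, 1, 2, 0, 2, 2, 2, 0, 0, 0, 0, 0, 0, 0, 0, 0, 0, 0, 0, 0, 0, 0, 0, 0, 0, 0, 0, 0, 0, 0, 0, 0, 0, 0, 0, 2, 0, 0, 0, 0, 0, 1, 1, 0, 0, 0, 0, 0, 0, 0, 0, 2, 1, 0, 0, 0, 0, 0, 0, 0, 1, 1, 1, 0, 0, 0, 0, 1, 2, 1, 2, 2, 2],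
    [0, 0, 0, 0, 0, 0, 0, 2, 2, 2, 1, 2, 0, 0, 0, 0, 0, 0, 0, 0, 0, 0, 0, 0, 1, 2, 2, 1, 1, 0, 0, 0, 1, 2, 2, 2, 1, 2, 0, 0, 2, 2, 1, 2, 2, 1, 2, 2, 1, 2, 1, 2, 0, 0, 0, 2, 2, 2, 1, 2, 2, 1, 0, 0, 0, 1, 1, 0, 1, 1, 2, 0, 2, 1, 2, 2, 2, 1],
    [0, 0, 0, 0, 0, 0, 0, 0, 0, 1, 0, 2, 0, 0, 0, 0, 0, 1, 1, 1, 1, 0, 0, 0, 1, 0, 0, 0, 0, 1, 0, 0, 0, 0, 1, 1, 1, 2, 1, 1, 2, 1, 0, 1, 2, 2, 0, 1, 0, 1, 1, 0, 1, 2, 2, 1, 2, 0, 1, 0, 1, 0, 2, 0, 1, 2, 0, 1, 0, 1, 0, 1, 1, 0, 1, 2, 2, 2],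
    [0, 0, 0, 0, 0, 0, 0, 0, 0, 0, 0, 0, 0, 0, 0, 0, 0, 0, 0, 0, 0, 0, 0, 0, 0, 0, 0, 0, 0, 0, 0, 0, 0, 0, 0, 0, 0, 0, 0, 0, 0, 0, 0, 0, 0, 0, 0, 0, 0, 0, 0, 0, 0, 0, 0, 0, 0, 0, 0, 0, 0, 0, 0, 0, 1, 0, 0, 0, 0, 0, 0, 0, 0, 0, 1],
    [0, 0, 0, 0, 0, 0, 0, 0, 0, 0, 0, 0, 0, 0, 0, 0, 0, 0, 0, 0, 0, 0, 0, 0, 0, 0, 0, 0, 0, 0, 0, 0, 0, 0, 0, 0, 0, 0, 0, 0, 0, 0, 0, 0, 0, 0, 0, 0, 0, 0, 0, 0, 0, 0, 0, 0, 0, 0, 0, 0, 0, 0, 0, 0, 0, 1, 0, 0, 0, 0, 0, 0, 0, 0, 0, 1],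
    [0, 0, 0, 0, 0, 0, 0, 0, 0, 0, 1, 1],
    [0, 0, 0, 0, 0, 0, 0, 0, 0, 0, 0, 0, 0, 0, 0, 0, 0, 0, 0, 0, 0, 0, 0, 0, 0, 0, 0, 0, 0, 0, 0, 0, 0, 0, 0, 0, 0, 0, 0, 0, 0, 0, 0, 0, 0, 0, 0, 0, 0, 0, 0, 0, 0, 0, 0, 0, 0, 0, 0, 0, 0, 0, 0, 0, 0, 0, 0, 0, 0, 0, 0, 0, 0, 1, 0, 2, 1, 2],
    [0, 0, 0, 0, 0, 0, 0, 0, 0, 0, 0, 0, 0, 0, 0, 0, 0, 0, 0, 0, 0, 0, 0, 0, 0, 0, 0, 0, 0, 0, 0, 0, 0, 0, 0, 0, 0, 0, 0, 0, 0, 0, 0, 0, 0, 0, 0, 0, 0, 0, 0, 0, 0, 0, 0, 0, 0, 0, 0, 0, 0, 0, 0, 0, 0, 0, 0, 0, 0, 0, 0, 2, 0, 0, 2],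
    [0, 0, 0, 0, 0, 0, 0, 0, 0, 0, 0, 0, 0, 0, 0, 0, 0, 0, 0, 0, 0, 0, 0, 0, 0, 0, 0, 0, 0, 0, 0, 0, 0, 0, 0, 0, 0, 0, 0, 0, 0, 0, 0, 0, 0, 0, 0, 0, 0, 0, 0, 0, 0, 0, 0, 0, 0, 0, 0, 0, 0, 0, 0, 0, 0, 0, 0, 0, 0, 0, 0, 0, 0, 1, 2, 0, 0, 2],
    [0, 0, 0, 0, 0, 0, 0, 0, 0, 0, 0, 0, 0, 0, 0, 0, 0, 0, 0, 0, 0, 0, 0, 0, 0, 0, 0, 0, 0, 0, 0, 0, 0, 0, 0, 0, 0, 0, 0, 0, 0, 0, 0, 0, 0, 0, 0, 0, 0, 0, 0, 0, 0, 0, 0, 0, 0, 0, 0, 0, 0, 0, 0, 0, 0, 0, 1, 0, 0, 0, 0, 0, 0, 0, 0, 0, 1, 2],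
    [0, 0, 0, 0, 0, 0, 0, 0, 0, 0, 0, 0, 0, 0, 0, 0, 0, 0, 0, 0, 0, 0, 0, 0, 0, 0, 0, 0, 0, 0, 0, 0, 0, 0, 0, 0, 0, 0, 0, 0, 0, 0, 0, 0, 0, 0, 0, 0, 0, 0, 0, 0, 0, 0, 0, 0, 0, 0, 0, 0, 0, 1, 1, 1, 0, 1, 0, 0, 0, 0, 0, 0, 0, 2],
    [0, 0, 0, 0, 0, 0, 1, 0, 2, 1, 2],
    [0, 0, 0, 0, 0, 0, 0, 0, 0, 0, 0, 0, 0, 0, 0, 0, 0, 0, 0, 0, 0, 0, 0, 0, 0, 0, 0, 0, 0, 0, 0, 0, 0, 0, 0, 0, 0, 0, 0, 0, 0, 0, 0, 0, 0, 0, 0, 0, 0, 0, 0, 0, 0, 0, 0, 0, 0, 0, 0, 0, 0, 0, 0, 1, 0, 0, 0, 0, 0, 0, 0, 1, 1, 0, 0, 1],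
    [0, 0, 0, 0, 0, 0, 0, 0, 0, 0, 0, 0, 0, 0, 0, 0, 0, 0, 0, 0, 0, 0, 0, 0, 0, 0, 0, 0, 0, 0, 0, 0, 0, 0, 0, 0, 0, 0, 0, 0, 0, 0, 0, 0, 0, 0, 0, 0, 0, 0, 0, 0, 0, 0, 0, 0, 0, 0, 0, 0, 0, 0, 0, 0, 0, 0, 0, 1, 2, 0, 2, 0, 2, 2, 2, 1],
    [0, 0, 0, 0, 0, 0, 0, 0, 0, 0, 0, 1, 0, 0, 0, 0, 0, 0, 0, 0, 0, 0, 0, 0, 0, 0, 0, 0, 0, 0, 0, 0, 0, 0, 0, 0, 0, 0, 0, 0, 0, 0, 0, 0, 0, 0, 0, 0, 0, 0, 0, 0, 0, 0, 0, 0, 0, 0, 0, 0, 0, 0, 0, 0, 0, 0, 0, 0, 0, 0, 0, 0, 0, 0, 0, 0, 0, 2, 0, 0, 0, 0, 0, 0, 0, 0, 0, 0, 0, 0, 0, 0, 0, 0, 0, 0, 0, 0, 0, 0, 0, 0, 0, 0, 0, 0, 0, 0, 0, 0, 0, 0, 0, 0, 0, 0, 0, 0, 0, 0, 0, 0, 0, 1, 1],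
    [0, 0, 0, 0, 0, 0, 0, 0, 0, 0, 0, 1, 0, 0, 0, 0, 0, 0, 0, 0, 0, 0, 0, 0, 0, 0, 0, 0, 0, 0, 0, 0, 0, 0, 0, 0, 0, 0, 0, 0, 0, 0, 0, 0, 0, 0, 0, 0, 0, 0, 0, 0, 0, 0, 0, 0, 0, 1, 1, 0, 1, 0, 0, 0, 0, 0, 0, 1, 0, 0, 1],
    [0, 0, 0, 0, 0, 0, 0, 0, 0, 0, 0, 0, 0, 0, 0, 0, 0, 0, 0, 0, 0, 0, 0, 0, 0, 0, 0, 0, 0, 0, 0, 0, 0, 0, 0, 0, 0, 0, 0, 0, 0, 0, 0, 0, 0, 0, 0, 0, 0, 0, 0, 0, 0, 0, 0, 0, 0, 0, 0, 1, 1, 0, 1, 0, 0, 1, 2, 0, 0, 0, 0, 0, 2, 0, 1],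
    [0, 0, 0, 0, 0, 0, 0, 0, 0, 0, 0, 1, 0, 0, 0, 0, 0, 0, 0, 0, 0, 0, 0, 0, 0, 0, 0, 0, 0, 0, 0, 0, 0, 0, 0, 0, 0, 0, 0, 0, 0, 0, 0, 0, 0, 0, 0, 0, 0, 0, 0, 0, 1, 1, 2, 0, 1, 0, 0, 0, 0, 0, 0, 0, 0, 0, 0, 0, 0, 0, 0, 1, 0, 2, 0, 1],
    [0, 0, 0, 0, 0, 0, 0, 0, 0, 0, 0, 0, 0, 0, 0, 0, 0, 0, 0, 0, 0, 0, 0, 0, 0, 0, 0, 0, 0, 0, 0, 0, 0, 0, 0, 0, 0, 0, 0, 0, 0, 0, 0, 0, 0, 0, 0, 0, 0, 0, 0, 0, 0, 0, 0, 0, 0, 0, 0, 0, 0, 0, 2, 0, 0, 0, 0, 0, 0, 2, 2, 0, 0, 0, 1],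
    [0, 0, 0, 0, 0, 0, 0, 0, 0, 0, 0, 0, 0, 0, 0, 0, 0, 0, 0, 0, 0, 0, 0, 0, 0, 0, 0, 0, 0, 0, 0, 0, 0, 0, 0, 0, 0, 0, 0, 0, 0, 0, 0, 0, 0, 0, 0, 0, 0, 0, 0, 0, 0, 0, 0, 0, 0, 0, 0, 0, 0, 0, 0, 0, 0, 0, 0, 0, 0, 0, 0, 1, 0, 0, 1, 0, 0, 0, 0, 0, 0, 0, 0, 0, 0, 0, 0, 0, 2],
    [0, 0, 0, 0, 0, 0, 0, 0, 0, 0, 0, 0, 0, 0, 0, 0, 0, 0, 0, 0, 0, 0, 0, 0, 0, 0, 0, 0, 0, 0, 0, 1, 0, 0, 0, 0, 0, 0, 0, 2, 0, 0, 0, 0, 2, 0, 0, 2, 0, 0, 0, 0, 1, 0, 0, 1, 0, 0, 0, 0, 0, 2, 0, 0, 2, 0, 0, 0, 0, 0, 0, 0, 0, 0, 2, 0, 0, 1, 0, 0, 0, 0, 0, 0, 0, 0, 0, 0, 2],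
    [0, 0, 0, 0, 0, 0, 0, 0, 0, 0, 0, 1, 0, 0, 0, 0, 0, 0, 0, 0, 0, 0, 0, 0, 0, 0, 0, 0, 0, 0, 0, 0, 0, 0, 0, 0, 0, 1, 1, 2, 0, 0, 0, 0, 0, 0, 0, 2, 0, 0, 0, 0, 0, 0, 0, 0, 0, 0, 0, 0, 0, 0, 0, 2, 0, 2, 0, 0, 0, 0, 0, 0, 0, 2, 0, 0, 0, 1, 0, 0, 0, 0, 0, 0, 0, 0, 0, 0, 0, 0, 0, 0, 0, 0, 0, 0, 0, 0, 0, 0, 0, 0, 0, 0, 0, 0, 0, 0, 0, 0, 0, 0, 0, 0, 0, 0, 0, 0, 0, 0, 0, 0, 0, 2],
    [0, 0, 0, 0, 0, 0, 0, 0, 0, 0, 1, 2, 0, 0, 0, 0, 0, 0, 0, 0, 0, 0, 0, 0, 0, 0, 0, 0, 0, 0, 0, 0, 0, 0, 0, 1, 1, 0, 2, 0, 0, 0, 0, 0, 0, 0, 0, 0, 0, 0, 0, 0, 0, 0, 0, 0, 0, 0, 0, 0, 2, 0, 2, 0, 1, 0, 0, 0, 0, 0, 0, 0, 1, 0, 0, 0, 0, 2, 0, 0, 0, 0, 0, 0, 0, 0, 0, 0, 0, 0, 0, 0, 0, 0, 0, 0, 0, 0, 0, 0, 0, 0, 0, 0, 0, 0, 0, 0, 0, 0, 0, 0, 0, 0, 0, 0, 0, 0, 0, 0, 0, 0, 0, 1, 2],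
    [0, 0, 0, 0, 0, 0, 0, 0, 0, 0, 0, 1, 0, 0, 0, 0, 0, 0, 0, 0, 0, 0, 0, 0, 0, 0, 0, 0, 0, 0, 0, 0, 0, 0, 0, 0, 0, 1, 0, 0, 0, 0, 0, 0, 2, 0, 0, 2, 0, 0, 0, 0, 1, 0, 0, 1, 0, 0, 0, 0, 0, 0, 0, 0, 0, 0, 0, 0, 0, 0, 0, 1, 0, 0, 1],
    [0, 0, 0, 0, 0, 0, 0, 0, 0, 0, 0, 2, 0, 0, 0, 0, 0, 0, 0, 0, 0, 0, 0, 0, 0, 0, 0, 0, 0, 0, 0, 0, 0, 0, 0, 0, 0, 0, 0, 2, 0, 0, 0, 0, 1, 0, 0, 0, 0, 0, 0, 0, 0, 0, 1, 1, 2, 0, 0, 0, 0, 1, 0, 0, 0, 0, 1, 0, 0, 0, 0, 0, 0, 1, 2, 0, 2, 2, 0, 0, 0, 0, 0, 0, 0, 0, 0, 0, 1],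
    [0, 0, 0, 0, 0, 0, 0, 1, 2, 1, 0, 1],
    [0, 0, 0, 0, 0, 0, 0, 0, 0, 0, 0, 2, 0, 0, 0, 0, 0, 0, 0, 0, 0, 0, 0, 0, 0, 0, 0, 0, 0, 0, 0, 0, 0, 0, 0, 0, 0, 0, 0, 0, 0, 0, 0, 0, 1, 1, 2, 0, 0, 0, 0, 0, 0, 0, 0, 0, 0, 0, 0, 0, 0, 0, 0, 2, 0, 2, 0, 0, 0, 0, 0, 0, 2, 2, 0, 0, 0, 1, 0, 0, 0, 0, 0, 0, 0, 0, 0, 0, 0, 0, 0, 0, 0, 0, 0, 0, 0, 0, 0, 0, 0, 0, 0, 0, 0, 0, 0, 0, 0, 0, 0, 0, 0, 0, 0, 0, 0, 0, 0, 0, 0, 0, 0, 2],
    [0, 0, 0, 0, 0, 0, 0, 0, 0, 0, 0, 2, 0, 0, 0, 0, 0, 0, 0, 0, 0, 0, 0, 0, 0, 0, 0, 0, 0, 0, 0, 0, 0, 0, 0, 0, 0, 0, 0, 0, 0, 0, 0, 0, 2, 0, 1, 0, 0, 0, 0, 0, 0, 0, 1, 0, 0, 0, 0, 0, 0, 2, 0, 2, 0, 1, 1, 0, 0, 0, 0, 2, 0, 2, 0, 0, 1],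
    [0, 0, 0, 0, 0, 0, 0, 0, 0, 0, 1, 1, 0, 0, 0, 0, 0, 0, 0, 0, 0, 0, 0, 0, 0, 0, 0, 0, 0, 0, 0, 0, 0, 0, 0, 0, 0, 0, 0, 0, 0, 0, 0, 0, 0, 0, 0, 0, 0, 0, 1, 1, 0, 2, 0, 2, 1, 0, 0, 0, 2, 0, 1, 0, 0, 1, 2, 0, 0, 1, 0, 0, 0, 0, 0, 1, 2, 0, 0, 0, 0, 0, 0, 0, 0, 0, 0, 0, 0, 0, 0, 0, 0, 0, 0, 0, 0, 0, 0, 0, 0, 0, 0, 0, 0, 0, 0, 0, 0, 0, 0, 0, 0, 0, 0, 0, 0, 0, 0, 0, 0, 0, 0, 1],
    [0, 0, 0, 0, 2, 0, 0, 2, 0, 0, 0, 2, 0, 0, 0, 0, 0, 0, 0, 0, 0, 0, 0, 0, 0, 0, 0, 0, 0, 0, 0, 0, 0, 0, 0, 0, 0, 0, 0, 0, 0, 0, 0, 0, 0, 0, 0, 0, 0, 0, 0, 0, 0, 0, 0, 0, 0, 0, 0, 0, 0, 0, 0, 0, 0, 0, 0, 0, 0, 0, 0, 1, 0, 0, 0, 0, 2],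
    [0, 0, 0, 0, 0, 0, 0, 0, 0, 0, 0, 1, 0, 0, 0, 0, 0, 0, 0, 0, 0, 0, 0, 0, 0, 0, 0, 0, 0, 0, 0, 0, 0, 2, 2, 0, 2, 0, 0, 0, 0, 0, 0, 0, 0, 0, 0, 2, 0, 0, 0, 0, 0, 0, 0, 0, 0, 0, 0, 0, 2, 0, 0, 2, 2, 1, 0, 0, 0, 0, 1, 0, 0, 2, 0, 2, 0, 1, 0, 0, 0, 0, 0, 0, 0, 0, 0, 0, 0, 0, 0, 0, 0, 0, 0, 0, 0, 0, 0, 0, 0, 0, 0, 0, 0, 0, 0, 0, 0, 0, 0, 0, 0, 0, 0, 0, 0, 0, 0, 0, 0, 0, 0, 1, 2],
    [0, 0, 0, 0, 0, 0, 0, 0, 0, 0, 0, 2, 0, 0, 0, 0, 0, 0, 0, 0, 0, 0, 0, 0, 0, 0, 0, 0, 0, 0, 0, 0, 0, 0, 0, 0, 0, 0, 0, 0, 2, 2, 0, 2, 0, 0, 0, 0, 0, 0, 0, 0, 0, 0, 0, 0, 0, 0, 0, 0, 1, 0, 0, 2, 0, 2, 0, 0, 2, 0, 0, 0, 0, 2, 0, 1, 0, 2, 0, 0, 0, 0, 0, 0, 0, 0, 0, 0, 0, 0, 0, 0, 0, 0, 0, 0, 0, 0, 0, 0, 0, 0, 0, 0, 0, 0, 0, 0, 0, 0, 0, 0, 0, 0, 0, 0, 0, 0, 0, 0, 0, 0, 0, 0, 1],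
    [0, 0, 0, 0, 0, 0, 0, 0, 0, 0, 0, 1, 0, 0, 0, 0, 0, 0, 0, 0, 0, 0, 0, 0, 0, 0, 0, 0, 0, 0, 0, 0, 0, 0, 0, 0, 0, 0, 0, 0, 0, 0, 1, 1, 0, 2, 0, 2, 0, 0, 0, 0, 0, 0, 0, 0, 0, 0, 0, 1, 1, 0, 2, 0, 2, 0, 0, 0, 0, 0, 1, 0, 2, 0, 2, 0, 0, 2, 0, 0, 0, 0, 0, 0, 0, 0, 0, 0, 0, 0, 0, 0, 0, 0, 0, 0, 0, 0, 0, 0, 0, 0, 0, 0, 0, 0, 0, 0, 0, 0, 0, 0, 0, 0, 0, 0, 0, 0, 0, 0, 0, 0, 0, 1, 1],
    [0, 0, 0, 0, 0, 0, 0, 0, 0, 0, 2, 2, 0, 0, 0, 0, 0, 0, 0, 0, 0, 0, 0, 0, 0, 0, 0, 0, 0, 0, 0, 0, 0, 0, 0, 0, 0, 0, 0, 0, 0, 0, 2, 1, 0, 1, 1, 1, 0, 0, 0, 0, 0, 0, 0, 0, 0, 0, 0, 1, 2, 0, 2, 1, 1, 0, 0, 0, 0, 2, 1, 0, 0, 2, 1, 1, 0, 2],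
    [0, 0, 0, 0, 0, 0, 0, 0, 0, 0, 1, 0, 0, 0, 0, 0, 0, 0, 0, 0, 0, 0, 0, 0, 0, 0, 0, 0, 0, 0, 0, 0, 0, 0, 0, 0, 0, 0, 0, 0, 0, 0, 0, 0, 0, 0, 0, 0, 2, 2, 0, 2, 0, 0, 0, 0, 1, 0, 1, 0, 0, 0, 0, 2, 0, 2, 2, 2, 2, 0, 0, 0, 0, 2, 0, 1, 0, 1, 0, 0, 0, 0, 0, 0, 0, 0, 0, 0, 0, 0, 0, 0, 0, 0, 0, 0, 0, 0, 0, 0, 0, 0, 0, 0, 0, 0, 0, 0, 0, 0, 0, 0, 0, 0, 0, 0, 0, 0, 0, 0, 0, 0, 0, 2],
    [0, 0, 0, 0, 0, 0, 0, 0, 0, 0, 1, 2, 0, 0, 0, 0, 0, 0, 0, 0, 0, 0, 0, 0, 0, 0, 0, 0, 0, 0, 2, 0, 0, 0, 0, 0, 0, 0, 0, 2, 1, 2, 0, 0, 0, 2, 1, 1, 0, 0, 0, 2, 0, 0, 0, 1, 1, 1, 2, 0, 0, 0, 1, 2, 1, 0, 2, 0, 0, 0, 2, 0, 1, 2, 1, 2, 0, 2],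
    [0, 0, 0, 0, 0, 0, 0, 2, 2, 2, 2, 2, 0, 0, 0, 0, 0, 0, 0, 0, 2, 2, 0, 0, 0, 0, 0, 0, 0, 0, 0, 0, 0, 0, 0, 2, 1, 0, 0, 0, 0, 0, 0, 1, 2, 0, 0, 0, 0, 0, 0, 2, 2, 0, 0, 2, 1, 0, 0, 0, 0, 0, 0, 0, 2, 0, 0, 0, 0, 1, 0, 2, 0, 0, 0, 0, 1, 1, 0, 0, 0, 0, 0, 0, 0, 0, 0, 0, 2],
    [0, 0, 0, 0, 0, 0, 0, 1, 1, 1, 2, 2, 0, 0, 0, 0, 0, 0, 0, 0, 0, 0, 0, 0, 0, 0, 1, 0, 0, 0, 0, 1, 0, 0, 0, 0, 0, 0, 2, 0, 0, 0, 0, 0, 1, 0, 2, 1, 0, 0, 0, 0, 0, 0, 1, 1, 0, 0, 0, 0, 0, 0, 0, 0, 0, 2, 1, 0, 0, 0, 0, 0, 1, 0, 2, 1, 0, 0, 0, 0, 0, 0, 0, 0, 0, 0, 0, 1],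
    [0, 0, 0, 0, 0, 0, 0, 0, 2, 0, 0, 2, 0, 0, 0, 0, 0, 0, 0, 0, 0, 0, 0, 0, 0, 0, 0, 0, 0, 0, 0, 0, 0, 0, 0, 0, 0, 0, 0, 0, 0, 0, 0, 0, 0, 0, 0, 1, 0, 0, 0, 0, 0, 0, 0, 2, 1, 0, 0, 0, 0, 0, 0, 0, 0, 0, 0, 0, 0, 0, 0, 0, 0, 0, 2, 1, 2, 0, 0, 0, 0, 0, 0, 0, 0, 0, 0, 0, 0, 0, 0, 0, 0, 0, 2, 0, 0, 0, 1],
    [0, 0, 0, 0, 0, 0, 0, 2, 1, 2, 2, 0, 0, 0, 0, 0, 0, 0, 0, 0, 0, 0, 0, 0, 0, 0, 0, 0, 0, 0, 0, 1, 1, 0, 0, 0, 0, 0, 0, 2, 0, 0, 0, 0, 2, 2, 1, 2, 0, 0, 0, 0, 1, 1, 1, 0, 2, 0, 0, 0, 0, 0, 0, 1, 0, 2, 1, 0, 0, 0, 0, 0, 2, 2, 2, 2, 1, 1, 0, 0, 0, 0, 0, 0, 0, 0, 0, 0, 0, 0, 0, 0, 0, 0, 0, 0, 0, 0, 2],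
    [0, 0, 0, 0, 0, 0, 0, 1, 0, 1, 1, 0, 0, 0, 0, 0, 0, 0, 0, 0, 1, 1, 0, 0, 0, 0, 0, 0, 0, 1, 1, 2, 0, 0, 0, 0, 0, 0, 0, 0, 0, 0, 0, 0, 2, 0, 2, 0, 0, 0, 0, 0, 0, 0, 0, 1, 1, 0, 0, 1, 1, 0, 0, 0, 2, 2, 2, 0, 0, 0, 0, 1, 0, 0, 0, 2, 1, 0, 0, 0, 0, 0, 0, 0, 0, 0, 0, 0, 0, 0, 0, 0, 0, 0, 2],
    [0, 0, 0, 0, 0, 0, 0, 1, 0, 1, 0, 1, 0, 0, 0, 0, 0, 0, 0, 0, 0, 0, 0, 0, 0, 0, 2, 0, 0, 0, 0, 2, 1, 0, 0, 0, 0, 1, 0, 2, 0, 0, 0, 0, 1, 0, 0, 0, 0, 0, 0, 0, 1, 0, 2, 1, 1, 0, 0, 0, 0, 2, 1, 1, 2, 2, 2, 0, 0, 0, 0, 0, 2, 1, 2, 0, 2, 0, 0, 0, 0, 0, 0, 0, 0, 0, 0, 0, 0, 0, 0, 0, 0, 0, 0, 0, 0, 0, 1],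
    [0, 0, 0, 0, 2, 2, 1, 0, 2, 0, 0, 0, 0, 0, 0, 0, 0, 0, 0, 0, 0, 0, 0, 0, 0, 0, 0, 0, 0, 0, 0, 0, 0, 0, 0, 0, 0, 2, 1, 0, 0, 0, 0, 0, 1, 2, 0, 0, 0, 0, 0, 0, 2, 1, 0, 0, 0, 0, 0, 0, 0, 1, 2, 0, 0, 0, 0, 0, 0, 0, 0, 0, 0, 1, 0, 0, 1, 1],
    [0, 0, 0, 0, 0, 0, 0, 2, 1, 2, 1, 2, 0, 0, 0, 0, 0, 0, 0, 0, 0, 0, 0, 0, 1, 1, 0, 0, 0, 0, 0, 0, 0, 0, 0, 1, 1, 0, 0, 0, 0, 0, 1, 2, 0, 1, 0, 2, 0, 0, 0, 0, 0, 1, 0, 1, 2, 0, 0, 0, 0, 0, 1, 0, 2, 2, 1, 0, 0, 0, 1, 0, 1, 0, 0, 2, 0, 0, 0, 0, 0, 0, 0, 0, 0, 0, 0, 0, 0, 0, 0, 0, 0, 0, 0, 0, 0, 0, 2],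
    [0, 0, 1, 1, 1, 0, 2, 2, 0, 1, 1, 2, 0, 0, 0, 0, 0, 0, 0, 0, 0, 0, 0, 0, 0, 0, 0, 0, 0, 0, 0, 0, 0, 0, 0, 2, 1, 0, 0, 0, 0, 0, 2, 1, 0, 0, 0, 0, 0, 0, 1, 2, 0, 0, 0, 0, 0, 0, 0, 0, 1, 0, 0, 0, 0, 0, 2, 0, 0, 2, 1, 1, 0, 1, 1, 2, 0, 1],
    [0, 0, 0, 0, 0, 0, 0, 0, 0, 0, 0, 0, 0, 0, 0, 0, 0, 0, 0, 0, 0, 0, 0, 0, 0, 0, 0, 2, 1, 0, 1, 0, 0, 1, 2, 0, 0, 0, 0, 2, 2, 1, 0, 2, 0, 0, 0, 0, 0, 0, 0, 1, 0, 0, 0, 0, 2, 1, 2, 0, 2, 0, 0, 2, 2, 1, 0, 2, 0, 0, 1, 0, 0, 2, 2, 0, 1, 0, 0, 0, 0, 0, 0, 0, 0, 0, 0, 1],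
    [0, 0, 0, 0, 0, 0, 0, 2, 1, 2, 1, 1, 0, 0, 0, 0, 0, 0, 0, 0, 0, 0, 0, 0, 0, 0, 0, 0, 0, 0, 0, 0, 0, 0, 0, 0, 0, 1, 1, 2, 0, 0, 0, 0, 1, 1, 2, 2, 0, 0, 0, 0, 2, 2, 1, 0, 2, 0, 0, 0, 0, 0, 0, 2, 2, 1, 1, 0, 0, 0, 0, 0, 0, 2, 1, 1, 2, 2, 0, 0, 0, 0, 0, 0, 0, 0, 0, 0, 0, 0, 0, 0, 0, 0, 0, 0, 0, 0, 0, 0, 0, 0, 0, 0, 0, 0, 0, 0, 0, 0, 0, 0, 0, 0, 0, 0, 0, 0, 0, 0, 2, 1, 2, 0, 2],
    [0, 0, 0, 0, 0, 0, 0, 0, 2, 0, 2, 0, 0, 0, 0, 0, 0, 0, 1, 2, 0, 2, 0, 0, 0, 0, 0, 0, 0, 0, 0, 1, 0, 0, 0, 0, 0, 0, 0, 1, 2, 1, 0, 2, 0, 0, 1, 1, 0, 0, 0, 1, 0, 0, 2, 0, 1, 0, 0, 0, 0, 0, 0, 0, 2, 0, 1, 1, 1, 0, 2, 0, 0, 0, 0, 1, 0, 2, 0, 0, 0, 0, 0, 0, 0, 0, 0, 2, 2],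
    [0, 0, 0, 0, 0, 0, 0, 1, 0, 1, 2, 0, 0, 0, 0, 0, 0, 0, 1, 2, 0, 0, 0, 0, 0, 0, 1, 0, 0, 0, 0, 1, 0, 2, 1, 0, 1, 2, 1, 2, 2, 1, 0, 0, 0, 2, 1, 2, 1, 2, 0, 2, 0, 0, 1, 2, 0, 1, 2, 0, 1, 0, 2, 1, 0, 0, 1, 2, 2, 0, 2, 0, 1, 0, 2, 2, 0, 1, 0, 0, 0, 0, 0, 0, 0, 0, 0, 2, 1],
    [0, 0, 0, 0, 0, 0, 0, 0, 1, 0, 0, 2, 0, 0, 0, 0, 0, 0, 0, 0, 0, 1, 0, 0, 0, 1, 0, 1, 1, 0, 0, 2, 2, 0, 0, 0, 2, 0, 2, 0, 0, 2, 0, 1, 2, 0, 1, 1, 0, 0, 0, 2, 0, 2, 0, 2, 1, 0, 0, 0, 0, 0, 2, 1, 2, 1, 2, 0, 2, 0, 2, 0, 2, 1, 1, 0, 1, 1, 0, 0, 0, 0, 0, 0, 0, 0, 0, 0, 0, 0, 0, 0, 0, 0, 0, 0, 0, 0, 0, 0, 0, 0, 0, 0, 0, 0, 0, 0, 0, 0, 0, 0, 0, 0, 0, 0, 0, 0, 0, 0, 2, 0, 2, 2],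
    [0, 0, 0, 0, 0, 0, 1, 2, 1, 2, 2, 1, 0, 0, 0, 0, 0, 0, 1, 1, 0, 1, 1, 1, 0, 1, 0, 2, 1, 0, 2, 0, 0, 0, 2, 0, 2, 0, 0, 1, 1, 1, 0, 0, 0, 1, 1, 1, 0, 1, 0, 2, 0, 1, 0, 2, 1, 0, 0, 0, 1, 0, 0, 0, 0, 1, 1, 0, 1, 0, 0, 0, 1, 0, 2, 0, 1, 0, 0, 0, 0, 0, 0, 0, 0, 0, 0, 0, 0, 0, 0, 0, 0, 0, 0, 0, 0, 0, 0, 0, 0, 0, 0, 0, 0, 0, 0, 0, 0, 0, 0, 0, 0, 0, 0, 0, 0, 0, 0, 0, 2, 0, 2, 0, 1],
    [0, 0, 0, 0, 2, 0, 2, 2, 0, 2, 2, 2, 0, 0, 1, 0, 2, 2, 0, 0, 2, 1, 0, 2, 2, 0, 0, 0, 2, 0, 2, 0, 0, 0, 2, 2, 0, 1, 1, 1, 0, 0, 0, 2, 2, 0, 2, 1, 0, 0, 2, 0, 1, 0, 1, 0, 1, 0, 0, 2, 0, 1, 2, 1, 0, 2, 0, 0, 1, 1, 1, 0, 0, 0, 1, 1, 2, 1],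
    [0, 0, 0, 0, 0, 0, 2, 1, 1, 0, 1, 2, 0, 0, 0, 0, 0, 1, 0, 0, 0, 0, 2, 2, 0, 0, 0, 0, 1, 1, 1, 0, 2, 1, 1, 0, 0, 0, 0, 2, 0, 1, 1, 2, 0, 0, 2, 0, 0, 0, 0, 0, 0, 1, 2, 2, 2, 0, 0, 0, 1, 0, 2, 0, 1, 2, 1, 0, 0, 0, 2, 0, 2, 1, 1, 2, 1, 1, 0, 0, 0, 0, 0, 0, 0, 0, 0, 0, 0, 0, 0, 0, 0, 0, 0, 0, 0, 0, 0, 0, 0, 0, 0, 0, 0, 0, 0, 0, 0, 0, 0, 0, 0, 0, 0, 0, 0, 0, 0, 0, 1, 1],
    [0, 0, 1, 2, 0, 2, 2, 2, 0, 2, 2, 2, 0, 0, 0, 0, 0, 0, 0, 0, 0, 0, 0, 0, 0, 0, 0, 0, 0, 0, 0, 0, 0, 0, 0, 0, 2, 0, 2, 0, 0, 0, 0, 2, 0, 2, 0, 0, 0, 0, 1, 0, 0, 2, 0, 2, 2, 0, 0, 1, 2, 0, 0, 2, 0, 2, 0, 0, 0, 2, 0, 0, 1, 0, 1, 2, 1, 1],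
    [0, 0, 0, 0, 2, 0, 0, 1, 2, 2, 2, 0, 0, 1, 1, 1, 1, 2, 0, 1, 0, 0, 2, 2, 0, 2, 0, 0, 2, 0, 0, 2, 0, 2, 0, 0, 0, 2, 1, 1, 1, 2, 0, 2, 1, 1, 0, 0, 2, 0, 0, 0, 1, 1, 2, 2, 1, 0, 0, 0, 1, 2, 2, 2, 2, 1, 2, 0, 1, 0, 0, 2, 0, 0, 1, 1, 1, 2, 0, 0, 0, 0, 0, 0, 0, 0, 0, 0, 0, 0, 0, 0, 0, 0, 0, 0, 0, 0, 0, 0, 0, 0, 0, 0, 0, 0, 0, 0, 0, 0, 0, 0, 0, 0, 0, 0, 0, 0, 0, 0, 2, 1, 0, 2],
    [0, 0, 0, 0, 0, 0, 2, 0, 2, 0, 1, 1, 0, 2, 2, 1, 1, 1, 0, 0, 1, 2, 1, 1, 1, 0, 1, 1, 1, 2, 2, 1, 2, 1, 1, 1, 2, 1, 2, 1, 0, 0, 0, 2, 1, 0, 0, 0, 0, 0, 2, 1, 0, 2, 1, 2, 2, 0, 0, 0, 0, 2, 2, 2, 1, 2, 0, 1, 1, 2, 1, 2, 2, 2, 2, 0, 0, 1],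
    [2, 2, 1, 1, 2, 2, 1, 1, 2, 2, 2, 1, 0, 1, 2, 2, 1, 0, 2, 1, 2, 1, 2, 1, 0, 0, 1, 2, 1, 0, 1, 1, 2, 1, 2, 0, 1, 1, 2, 1, 2, 0, 1, 1, 0, 2, 1, 1, 2, 2, 1, 1, 2, 1, 0, 1, 2, 1, 1, 2, 0, 0, 2, 2, 0, 1, 2, 0, 1, 1, 2, 1, 1, 2, 1, 0, 0, 1, 0, 0, 0, 0, 0, 0, 0, 0, 0, 0, 0, 0, 0, 0, 0, 0, 0, 0, 0, 0, 0, 0, 0, 0, 0, 0, 0, 0, 0, 0, 0, 0, 0, 0, 0, 0, 0, 0, 0, 0, 0, 0, 0, 0, 0, 2, 2],
    [1, 2, 2, 0, 1, 0, 1, 2, 0, 1, 1, 2, 0, 1, 1, 2, 2, 0, 2, 2, 0, 0, 2, 2, 0, 0, 0, 1, 0, 0, 0, 2, 2, 0, 1, 2, 2, 1, 0, 2, 2, 0, 0, 2, 2, 2, 0, 2, 0, 1, 1, 2, 0, 2, 1, 2, 2, 1, 2, 1, 2, 1, 0, 2, 1, 1, 2, 1, 2, 1, 0, 1, 0, 0, 0, 0, 0, 0, 0, 0, 0, 0, 0, 0, 0, 0, 0, 1]]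
  tgt := [
    ([], []),
    ([], []),
    ([], []),
    ([], [(0, 1), (2, 1), (3, 1), (4, 2), (5, 2), (6, 1), (11, 2), (12, 1), (17, 2), (18, 2), (20, 1), (21, 1), (23, 1), (24, 1), (26, 1), (27, 1), (28, 1), (29, 1), (31, 1), (32, 1), (33, 2), (34, 2), (36, 1), (40, 1), (41, 2), (42, 1), (43, 2), (44, 1), (45, 2), (46, 2), (48, 2), (49, 1), (50, 1), (51, 1), (52, 2), (55, 1), (56, 2), (58, 2), (59, 1), (60, 2), (61, 2), (62, 1), (66, 2), (68, 2), (72, 1), (74, 1), (77, 2), (78, 1)]),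
    ([], [(3, 2), (4, 1), (6, 2), (7, 2), (14, 1), (17, 1), (27, 1), (50, 2)]),
    ([], [(0, 2), (3, 2), (4, 2), (6, 2), (7, 2), (8, 2), (11, 1), (12, 2), (13, 1), (17, 1), (24, 1), (26, 1), (27, 2), (30, 2), (32, 1), (33, 1), (34, 2), (38, 1), (39, 1), (40, 2), (42, 1), (44, 1), (45, 2), (46, 2), (47, 2), (48, 2), (50, 1), (63, 2)]),
    ([], [(4, 2), (6, 2), (7, 2), (14, 2), (17, 2), (26, 1), (27, 2), (28, 2), (32, 1), (46, 2)]),
    ([], [(4, 2), (6, 2), (7, 2), (14, 2), (17, 2), (27, 2), (28, 2)]),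
    ([], [(3, 2), (4, 1), (6, 2), (7, 1), (14, 1), (27, 2), (29, 2)]),
    ([], [(3, 2), (4, 2), (14, 2), (17, 1), (28, 1), (29, 2), (46, 1)]),
    ([], [(7, 1), (26, 1)]),
    ([], [(7, 2)]),
    ([], []),
    ([], []),
    ([], []),
    ([], []),
    ([], []),
    ([], [(1, 2), (2, 1), (5, 1), (6, 2), (7, 1), (8, 2), (9, 1), (10, 2), (11, 2), (13, 2), (14, 1), (15, 2), (16, 1), (18, 2), (20, 2), (23, 1), (25, 2), (30, 1), (35, 2), (36, 1), (38, 1), (39, 2), (40, 1), (41, 2), (43, 1), (45, 1), (46, 1), (47, 2), (48, 1), (49, 2), (50, 2), (52, 1), (53, 2), (55, 2), (57, 1), (59, 1), (60, 1), (61, 2), (62, 2), (63, 2), (64, 2), (66, 2), (67, 1), (68, 2), (69, 2), (71, 2), (72, 1), (73, 1), (74, 2), (75, 1), (76, 1), (77, 2), (78, 2)]),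
    ([], [(0, 1), (1, 1), (2, 2), (3, 1), (4, 1), (5, 1), (6, 2), (7, 1), (8, 1), (9, 2), (10, 2), (11, 2), (13, 2), (14, 2), (15, 2), (16, 1), (17, 1), (18, 1), (19, 2), (20, 1), (21, 1), (22, 2), (23, 2), (24, 1), (25, 1), (29, 2), (30, 2), (31, 1), (32, 2), (34, 2), (36, 2), (38, 1), (39, 2), (40, 2), (41, 2), (42, 1), (43, 2), (44, 2), (47, 2), (48, 1), (49, 2), (50, 2), (55, 1), (56, 2), (57, 1), (58, 1), (59, 2), (60, 1), (61, 1), (63, 1), (64, 1), (65, 2), (66, 1), (67, 1), (68, 1), (70, 2), (73, 1), (74, 2), (75, 1), (76, 1), (78, 2)]),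
    ([], [(0, 2), (1, 1), (3, 1), (4, 1), (6, 2), (7, 1), (8, 1), (9, 1), (10, 1), (12, 1), (13, 2), (14, 2), (16, 1), (17, 1), (18, 2), (19, 1), (22, 1), (23, 2), (24, 1), (25, 1), (27, 1), (28, 1), (30, 2), (31, 1), (32, 2), (33, 2), (37, 2), (38, 1), (39, 2), (40, 2), (43, 2), (45, 1), (47, 2), (48, 1), (49, 2), (50, 1), (51, 1), (55, 2), (56, 2), (57, 1), (59, 1), (61, 2), (62, 1), (63, 1), (64, 2), (66, 2), (67, 2), (68, 2), (69, 1), (70, 1), (72, 2), (73, 2), (74, 1), (75, 2), (77, 1), (78, 1)]),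
    ([], [(2, 1), (3, 1), (4, 2), (5, 2), (9, 2), (10, 2), (11, 1), (12, 2), (13, 2), (15, 1), (16, 1), (19, 1), (20, 1), (22, 1), (24, 1), (26, 2), (28, 1), (29, 2), (30, 2), (31, 2), (32, 1), (33, 2), (34, 1), (36, 2), (37, 2), (39, 1), (40, 2), (41, 1), (42, 1), (45, 2), (49, 2), (50, 2), (51, 1), (52, 2), (54, 1), (57, 2), (59, 1), (60, 1), (61, 2), (62, 2), (63, 1), (64, 2), (65, 1), (66, 2), (67, 2), (70, 1), (72, 1), (73, 2), (75, 2), (76, 1), (77, 2), (78, 1)]),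
    ([], [(0, 1), (3, 1), (4, 1), (6, 2), (8, 2), (9, 1), (10, 2), (11, 2), (12, 1), (14, 2), (15, 1), (16, 2), (19, 1), (20, 1), (21, 2), (22, 2), (23, 2), (25, 1), (28, 1), (29, 1), (30, 1), (31, 2), (32, 2), (38, 2), (39, 2), (42, 1), (43, 2), (44, 2), (45, 1), (46, 1), (47, 1), (48, 2), (49, 2), (50, 1), (51, 1), (52, 2), (53, 1), (54, 2), (55, 2), (56, 1), (58, 1), (59, 1), (61, 2), (63, 2), (64, 1), (66, 2), (67, 1), (68, 1), (70, 2), (72, 1), (73, 1), (74, 2), (75, 1), (76, 2), (77, 2), (78, 1)]),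
    ([], [(2, 2), (3, 1), (5, 2), (7, 1), (8, 2), (10, 1), (11, 1), (12, 1), (13, 1), (15, 1), (16, 2), (17, 1), (18, 1), (21, 2), (22, 1), (23, 1), (28, 1), (29, 2), (30, 1), (31, 2), (34, 1), (35, 2), (36, 2), (37, 2), (38, 1), (39, 1), (41, 2), (42, 1), (46, 1), (47, 1), (49, 2), (50, 1), (51, 2), (52, 1), (53, 1), (55, 2), (57, 1), (58, 1), (59, 1), (61, 2), (62, 1), (64, 2), (65, 1), (66, 1), (67, 2), (68, 1), (69, 1), (71, 1), (73, 2), (74, 2), (75, 2), (76, 2), (77, 1)]),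
    ([], [(0, 2), (1, 1), (2, 1), (3, 2), (6, 1), (9, 2), (12, 1), (15, 2), (16, 1), (17, 1), (18, 2), (19, 1), (21, 1), (22, 1), (23, 1), (24, 1), (25, 2), (26, 1), (27, 1), (28, 2), (29, 1), (31, 2), (33, 2), (34, 1), (35, 1), (36, 1), (38, 2), (39, 1), (40, 2), (41, 1), (42, 1), (43, 2), (44, 2), (47, 2), (48, 1), (49, 1), (50, 1), (52, 1), (54, 2), (59, 1), (60, 2), (61, 2), (64, 2), (65, 2), (67, 2), (71, 1), (73, 2), (74, 1), (75, 2), (76, 2), (77, 2)]),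
    ([], [(0, 2), (1, 2), (2, 1), (3, 2), (4, 1), (5, 2), (7, 1), (10, 1), (11, 2), (12, 2), (13, 1), (14, 1), (16, 2), (17, 1), (19, 2), (20, 1), (21, 2), (23, 1), (28, 2), (29, 2), (30, 2), (31, 1), (32, 1), (35, 2), (36, 1), (37, 2), (38, 1), (39, 2), (40, 2), (41, 1), (42, 2), (43, 1), (47, 2), (48, 2), (49, 1), (50, 1), (53, 1), (54, 1), (55, 1), (56, 2), (59, 2), (60, 1), (61, 1), (63, 2), (64, 1), (65, 2), (66, 2), (67, 2), (68, 1), (69, 1), (71, 1), (72, 2), (73, 2), (75, 2), (76, 1), (77, 1)]),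
    ([], [(1, 1), (2, 2), (4, 1), (5, 1), (6, 2), (8, 1), (12, 1), (13, 1), (14, 2), (15, 2), (17, 2), (18, 2), (20, 2), (21, 2), (22, 2), (24, 1), (25, 1), (26, 1), (27, 1), (30, 1), (31, 1), (32, 1), (34, 1), (35, 1), (36, 2), (37, 1), (38, 1), (40, 1), (41, 1), (42, 2), (43, 1), (46, 1), (47, 1), (48, 2), (49, 2), (51, 1), (54, 1), (55, 2), (58, 2), (59, 1), (60, 1), (61, 2), (62, 1), (64, 1), (65, 2), (66, 1), (67, 2), (68, 2), (69, 1), (70, 2), (71, 2), (72, 1), (73, 2), (74, 1), (75, 2), (76, 1), (77, 2)]),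
    ([], [(1, 1), (2, 1), (3, 2), (5, 1), (6, 2), (7, 1), (11, 2), (12, 1), (13, 1), (14, 1), (15, 1), (16, 1), (17, 1), (18, 2), (19, 2), (20, 2), (21, 1), (22, 1), (23, 1), (24, 2), (25, 2), (26, 2), (27, 1), (28, 2), (29, 2), (31, 1), (32, 1), (33, 2), (36, 2), (38, 1), (40, 2), (42, 1), (43, 1), (44, 2), (45, 2), (46, 1), (47, 2), (48, 1), (51, 1), (52, 1), (53, 1), (54, 1), (55, 2), (56, 2), (58, 2), (59, 2), (61, 1), (63, 2), (64, 2), (65, 2), (66, 1), (67, 2), (68, 1), (69, 1), (70, 1), (72, 2), (73, 2), (75, 2), (76, 1), (77, 1), (78, 2)]),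
    ([], [(0, 1), (1, 2), (2, 2), (6, 1), (7, 1), (8, 1), (9, 2), (12, 2), (14, 1), (16, 2), (17, 1), (19, 2), (20, 1), (22, 2), (23, 1), (28, 2), (29, 2), (30, 2), (31, 2), (32, 2), (35, 1), (36, 1), (38, 2), (39, 2), (45, 1), (46, 2), (49, 2), (50, 1), (51, 1), (52, 2), (54, 2), (60, 1), (62, 2), (64, 1), (67, 1), (69, 2), (71, 2), (73, 1), (75, 1), (76, 2), (78, 2)]),
    ([], [(6, 2), (8, 1), (10, 1), (11, 2), (12, 2), (13, 2), (16, 2), (18, 2), (20, 1), (21, 2), (23, 2), (25, 2), (27, 2), (28, 2), (30, 2), (32, 2), (33, 1), (34, 2), (37, 2), (38, 2), (39, 1), (41, 1), (43, 1), (44, 2), (45, 2), (47, 2), (49, 1), (50, 1), (52, 2), (53, 1), (54, 1), (55, 2), (58, 1), (59, 2), (60, 1), (61, 1), (62, 2), (63, 2), (65, 2), (66, 2), (68, 1), (70, 1), (71, 2), (72, 2), (77, 1), (78, 1)]),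
    ([], [(0, 2), (1, 2), (2, 2), (4, 2), (5, 1), (7, 1), (8, 1), (11, 1), (13, 1), (14, 2), (15, 1), (16, 1), (17, 2), (18, 1), (19, 1), (20, 2), (21, 2), (22, 2), (24, 2), (25, 1), (26, 1), (27, 2), (28, 2), (29, 2), (30, 1), (35, 2), (36, 2), (38, 2), (39, 1), (40, 1), (41, 1), (43, 2), (44, 2), (45, 2), (47, 1), (48, 2), (49, 1), (50, 1), (53, 2), (54, 1), (55, 2), (56, 1), (57, 1), (59, 1), (61, 2), (63, 2), (64, 1), (65, 2), (66, 1), (67, 1), (68, 1), (69, 2), (70, 2), (72, 2), (73, 1), (75, 1), (76, 2), (77, 1), (78, 2)]),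
    ([], [(1, 2), (3, 2), (4, 1), (6, 1), (8, 1), (10, 2), (11, 2), (14, 1), (16, 1), (17, 1), (18, 1), (20, 1), (21, 2), (23, 1), (24, 2), (25, 2), (27, 2), (28, 1), (29, 1), (30, 1), (32, 2), (33, 1), (34, 1), (36, 1), (37, 1), (38, 1), (39, 2), (40, 1), (41, 2), (43, 2), (45, 2), (47, 1), (49, 2), (51, 1), (53, 2), (55, 1), (56, 1), (58, 2), (59, 1), (60, 2), (61, 2), (62, 1), (65, 2), (66, 2), (68, 2), (72, 1), (74, 1), (77, 2), (78, 1)]),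
    ([], [(1, 2), (2, 1), (3, 1), (4, 1), (5, 2), (12, 2), (13, 1), (17, 2), (18, 2), (19, 2), (20, 1), (21, 1), (23, 1), (25, 2), (26, 2), (27, 2), (28, 2), (29, 1), (31, 2), (33, 1), (34, 1), (35, 2), (36, 1), (37, 2), (38, 1), (39, 2), (40, 1), (43, 2), (44, 1), (46, 1), (48, 1), (50, 2), (51, 1), (52, 2), (53, 1), (54, 1), (55, 1), (56, 2), (58, 2), (59, 1), (60, 2), (61, 2), (62, 1), (63, 2), (66, 2), (68, 2), (72, 1), (74, 2), (77, 2), (78, 1)]),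
    ([], [(1, 2), (4, 1), (6, 1), (7, 1), (10, 1), (11, 1), (12, 2), (13, 1), (14, 2), (15, 1), (16, 2), (17, 1), (19, 2), (21, 1), (22, 2), (23, 1), (24, 1), (26, 1), (27, 1), (28, 1), (31, 2), (32, 2), (33, 1), (34, 1), (35, 1), (37, 1), (38, 2), (39, 1), (40, 2), (41, 1), (42, 2), (43, 1), (44, 1), (45, 1), (46, 1), (47, 2), (48, 1), (49, 2), (50, 2), (51, 1), (53, 2), (56, 2), (58, 2), (62, 1), (64, 1), (67, 1), (69, 2), (70, 2), (73, 1), (75, 1), (76, 2)]),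
    ([], [(0, 1), (2, 2), (5, 1), (6, 2), (7, 1), (8, 1), (9, 1), (10, 2), (11, 2), (12, 2), (13, 2), (14, 2), (15, 1), (17, 1), (18, 1), (19, 2), (20, 1), (21, 1), (24, 2), (25, 2), (28, 1), (30, 1), (31, 2), (32, 2), (33, 2), (35, 1), (36, 2), (37, 1), (38, 2), (43, 2), (44, 1), (46, 2), (47, 2), (48, 2), (49, 2), (51, 2), (52, 2), (53, 1), (54, 2)]),
    ([], [(2, 2), (3, 1), (5, 2), (7, 1), (8, 2), (9, 2), (10, 1), (11, 1), (12, 2), (13, 1), (14, 1), (15, 2), (18, 2), (19, 2), (20, 1), (21, 1), (23, 2), (24, 2), (25, 1), (26, 2), (28, 1), (30, 1), (31, 2), (32, 1), (33, 2), (34, 1), (37, 2), (40, 1), (41, 1), (47, 1), (49, 1), (50, 1), (51, 2), (52, 2), (53, 1), (55, 2), (56, 1), (58, 1), (59, 2), (60, 1), (61, 1), (62, 2), (63, 1), (66, 1), (68, 1), (72, 2), (74, 1), (77, 1), (78, 2)]),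
    ([], [(2, 1), (3, 2), (4, 2), (5, 1), (6, 1), (7, 2), (8, 2), (10, 2), (12, 1), (13, 2), (18, 2), (24, 1), (28, 2), (29, 2), (33, 1), (34, 1), (35, 2), (39, 2), (42, 1), (43, 2)]),
    ([], [(0, 1), (2, 1), (3, 1), (7, 1), (10, 1), (13, 2), (14, 2), (15, 1), (17, 1), (18, 2), (24, 2), (25, 1), (26, 2), (27, 1), (28, 2), (30, 2), (33, 2), (34, 2), (35, 2), (37, 1), (40, 1), (44, 1), (45, 1), (47, 2), (49, 2), (50, 1), (53, 1), (54, 2), (63, 1), (65, 2), (74, 2)]),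
    ([], [(0, 1), (3, 2), (5, 1), (6, 2), (8, 1), (10, 2), (12, 2), (13, 2), (24, 2), (25, 2), (27, 2), (31, 2), (33, 1), (34, 1), (39, 2)]),
    ([], [(0, 2), (2, 1), (4, 1), (6, 2), (8, 1), (10, 1), (13, 1), (14, 1), (15, 2), (19, 1), (20, 2), (21, 2), (23, 2), (25, 2), (26, 1), (27, 1), (28, 1), (29, 2), (31, 2), (34, 2), (35, 1), (36, 2), (37, 2), (38, 2), (39, 1), (41, 1), (42, 1), (45, 2), (46, 2), (47, 1), (48, 2), (49, 1), (51, 2), (52, 1), (53, 1), (55, 2), (56, 1), (58, 1), (59, 2), (60, 1), (61, 1), (62, 2), (65, 1), (66, 1), (68, 1), (72, 2), (74, 2), (77, 1), (78, 2)]),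
    ([], [(0, 1), (1, 2), (2, 1), (4, 1), (5, 2), (6, 1), (7, 1), (8, 1), (10, 1), (12, 2), (17, 2), (18, 2), (19, 2), (20, 1), (21, 1), (23, 1), (24, 1), (26, 2), (28, 1), (29, 2), (31, 1), (33, 2), (34, 2), (35, 2), (36, 1), (37, 2), (38, 1), (39, 1), (40, 2), (41, 2), (43, 2), (44, 2), (46, 1), (48, 1), (50, 2), (51, 1), (52, 2), (53, 1), (54, 1), (55, 1), (56, 2), (58, 2), (59, 1), (60, 2), (61, 2), (62, 1), (63, 2), (66, 2), (68, 2), (72, 1), (74, 2), (77, 2), (78, 1)]),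
    ([], [(1, 1), (2, 1), (3, 2), (5, 2), (6, 1), (8, 1), (10, 2), (11, 1), (12, 2), (13, 2), (14, 1), (16, 1), (18, 1), (19, 1), (20, 2), (21, 1), (23, 2), (24, 1), (25, 2), (26, 1), (30, 2), (31, 2), (32, 1), (33, 1), (34, 2), (35, 1), (37, 2), (38, 2), (41, 1), (43, 1), (44, 1), (45, 2), (50, 1), (51, 2), (52, 1), (53, 2), (54, 2), (55, 2), (56, 1), (58, 1), (59, 2), (60, 1), (61, 1), (62, 2), (63, 1), (66, 1), (68, 1), (72, 2), (74, 1), (77, 1), (78, 2)]),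
    ([], [(2, 2), (6, 1), (7, 2), (8, 1), (10, 1), (14, 1), (15, 2), (16, 2), (18, 2), (19, 1), (20, 2), (23, 2), (24, 2), (25, 1), (26, 2), (27, 1), (29, 1), (31, 1), (32, 2), (34, 1), (35, 1), (36, 1), (37, 1), (38, 2), (39, 1), (40, 2), (41, 1), (43, 2), (44, 2), (45, 1), (46, 1), (47, 2), (49, 2), (50, 2), (51, 2), (53, 1), (54, 2), (55, 2), (56, 1), (58, 1), (59, 2), (60, 1), (61, 1), (62, 2), (63, 2), (65, 2), (66, 1), (68, 1), (72, 2), (77, 1), (78, 2)]),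
    ([], [(2, 1), (4, 2), (5, 2), (8, 2), (10, 1), (12, 1), (14, 1), (15, 1), (17, 2), (18, 2), (24, 1), (25, 2), (26, 1), (27, 2), (28, 2), (29, 1), (30, 1), (33, 1), (34, 1), (35, 1), (37, 2), (40, 1), (43, 2), (44, 2), (45, 1), (47, 2), (49, 1), (50, 2), (53, 1), (54, 2), (63, 2), (65, 1), (74, 1)]),
    ([], [(0, 2), (1, 2), (3, 2), (4, 1), (6, 2), (7, 2), (10, 1), (11, 2), (12, 2), (13, 1), (15, 2), (17, 2), (18, 2), (19, 2), (20, 1), (21, 1), (23, 1), (24, 2), (25, 2), (26, 1), (27, 2), (28, 1), (29, 1), (30, 2), (31, 1), (33, 2), (36, 1), (37, 1), (38, 1), (39, 2), (41, 2), (43, 2), (44, 2), (45, 1), (46, 1), (48, 2), (50, 2), (51, 1), (52, 2), (55, 1), (56, 2), (58, 2), (59, 1), (60, 2), (61, 2), (62, 1), (63, 2), (66, 2), (68, 2), (72, 1), (74, 2), (77, 2), (78, 1)]),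
    ([], [(1, 1), (5, 2), (6, 2), (10, 1), (13, 2), (15, 1), (17, 2), (18, 2), (19, 2), (20, 1), (21, 1), (23, 1), (26, 2), (28, 1), (29, 2), (30, 2), (31, 1), (33, 2), (34, 1), (35, 2), (36, 1), (37, 1), (38, 1), (41, 2), (43, 2), (44, 2), (45, 1), (46, 1), (48, 1), (50, 2), (51, 1), (52, 2), (53, 1), (54, 1), (55, 1), (56, 2), (58, 2), (59, 1), (60, 2), (61, 2), (62, 1), (63, 2), (66, 2), (68, 2), (72, 1), (74, 2), (77, 2), (78, 1)]),
    ([], [(1, 2), (2, 1), (3, 2), (4, 1), (6, 2), (7, 2), (10, 2), (11, 2), (12, 2), (14, 1), (17, 1), (18, 1), (19, 2), (20, 1), (21, 1), (23, 1), (24, 1), (25, 2), (26, 2), (28, 2), (29, 2), (30, 1), (33, 1), (34, 2), (35, 2), (36, 1), (37, 1), (38, 1), (40, 1), (41, 2), (43, 1), (44, 1), (45, 2), (46, 1), (47, 2), (48, 2), (49, 1), (50, 1), (51, 1), (52, 2), (54, 2), (55, 1), (56, 2), (58, 2), (59, 1), (60, 2), (61, 2), (62, 1), (63, 1), (65, 1),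 (66, 2), (68, 2), (72, 1), (77, 2), (78, 1)]),
    ([], [(0, 1), (1, 1), (5, 1), (7, 2), (8, 2), (10, 1), (11, 2), (12, 1), (13, 2), (15, 2), (17, 2), (18, 2), (19, 2), (20, 1), (21, 1), (23, 1), (25, 1), (26, 2), (28, 2), (30, 2), (33, 2), (34, 2), (35, 2), (36, 1), (37, 1), (38, 1), (39, 2), (41, 2), (43, 2), (44, 2), (45, 1), (46, 1), (48, 2), (50, 2), (51, 1), (52, 2), (53, 1), (54, 1), (55, 1), (56, 2), (58, 2), (59, 1), (60, 2), (61, 2), (62, 1), (63, 2), (66, 2), (68, 2), (72, 1), (74, 2), (77, 2), (78, 1)]),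
    ([], [(3, 2), (5, 1)]),
    ([], [(1, 2), (2, 2), (3, 1), (4, 2), (6, 1), (7, 1), (8, 1), (9, 2), (10, 1), (13, 1), (18, 2), (20, 1), (21, 1), (24, 2), (25, 2), (26, 1), (27, 1), (30, 1), (32, 2), (33, 2), (35, 2), (36, 2), (38, 2), (39, 1), (40, 1), (43, 2), (45, 1), (46, 2), (48, 1), (50, 2), (52, 2), (53, 1), (54, 1), (55, 2), (63, 2), (65, 1), (74, 1)]),
    ([], [(0, 1), (2, 2), (3, 1), (6, 2), (7, 2), (8, 2), (9, 1), (11, 1), (12, 1), (13, 2), (14, 1), (15, 1), (16, 2), (17, 1), (23, 1), (24, 2), (27, 2), (29, 2), (30, 2), (32, 1), (33, 1), (34, 1), (35, 1), (36, 2), (37, 1), (38, 2), (39, 2), (40, 1), (41, 2), (43, 1), (44, 1), (45, 2), (46, 2), (47, 1), (48, 2), (49, 1), (50, 2), (51, 1), (54, 2), (55, 1), (56, 2), (58, 2), (59, 1), (60, 2), (61, 2), (62, 1), (63, 2), (66, 2), (68, 2), (72, 1), (74, 2), (77, 2), (78, 1)]),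
    ([], [(1, 2), (2, 1), (3, 2), (5, 2), (6, 2), (7, 2), (8, 2), (11, 2), (12, 2), (13, 1), (14, 1), (17, 1), (18, 2), (20, 1), (21, 1), (23, 1), (24, 2), (26, 2), (27, 1), (28, 1), (29, 2), (30, 2), (31, 1), (33, 2), (34, 1), (36, 1), (37, 2), (38, 2), (40, 2), (41, 2), (46, 1), (47, 1), (49, 2), (50, 1), (51, 1), (52, 2), (53, 1), (55, 1), (56, 2), (58, 2), (59, 1), (60, 2), (61, 2), (62, 1), (63, 1), (65, 1), (66, 2), (68, 2), (72, 1), (77, 2), (78, 1)]),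
    ([], [(0, 2), (1, 1), (4, 2), (6, 2), (8, 2), (10, 2), (12, 2), (13, 1), (14, 1), (15, 2), (17, 2), (18, 1), (19, 2), (24, 1), (26, 2), (27, 1), (28, 2), (29, 2), (30, 1), (31, 2), (33, 1), (34, 1), (35, 2), (37, 2), (39, 2), (44, 2), (47, 1), (48, 1), (49, 1), (50, 2), (53, 1), (63, 2), (65, 1), (74, 1)]),
    ([], [(0, 2), (1, 1), (3, 2), (5, 1), (7, 1), (8, 1), (10, 2), (12, 1), (15, 1), (17, 2), (18, 2), (19, 2), (20, 1), (21, 1), (23, 1), (24, 1), (25, 1), (26, 2), (27, 1), (28, 2), (29, 2), (30, 2), (31, 2), (33, 1), (35, 2), (36, 1), (37, 1), (38, 1), (39, 1), (41, 2), (43, 2), (45, 1), (46, 1), (48, 1), (50, 2), (51, 1), (52, 2), (53, 1), (54, 1), (55, 1), (56, 2), (58, 2), (59, 1), (60, 2), (61, 2), (62, 1), (63, 2), (66, 2), (68, 2), (72, 1), (74, 2), (77, 2), (78, 1)]),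
    ([], [(0, 1), (2, 1), (3, 2), (5, 2), (6, 1), (8, 1), (10, 1), (13, 2), (15, 1), (17, 1), (18, 1), (19, 1), (20, 2), (21, 2), (23, 2), (24, 1), (25, 2), (26, 1), (29, 1), (30, 1), (31, 2), (33, 1), (35, 1), (36, 2), (39, 1), (41, 1), (43, 1), (45, 2), (46, 2), (48, 2), (50, 1), (51, 2), (52, 1), (53, 2), (54, 2), (55, 2), (56, 1), (58, 1), (59, 2), (60, 1), (61, 1), (62, 2), (63, 1), (66, 1), (68, 1), (72, 2), (74, 1), (77, 1), (78, 2)]),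
    ([], [(1, 2), (2, 2), (3, 1), (6, 1), (8, 2), (11, 1), (12, 2), (13, 2), (15, 2), (24, 2), (25, 1), (28, 1), (29, 1), (30, 1), (31, 2), (37, 2), (39, 1)]),
    ([], [(3, 1), (5, 1), (8, 1)]),
    ([], [(1, 1), (2, 1), (3, 1), (4, 1), (6, 1), (11, 1), (12, 1), (25, 1), (29, 1), (30, 1), (31, 1), (33, 1), (37, 1), (39, 2)]),
    ([], [(2, 1), (7, 1), (8, 2), (10, 1), (12, 1), (15, 1), (16, 1), (17, 2), (18, 2), (19, 2), (20, 1), (21, 1), (23, 1), (24, 1), (25, 1), (26, 2), (27, 1), (28, 1), (29, 2), (30, 2), (31, 2), (33, 1), (35, 2), (36, 2), (37, 1), (38, 1), (39, 1), (41, 2), (43, 2), (44, 2), (45, 1), (46, 1), (48, 1), (50, 2), (51, 1), (52, 2), (53, 1), (54, 1), (55, 1), (56, 2), (58, 2), (59, 1), (60, 2), (61, 2), (62, 1), (63, 2), (66, 2), (68, 2), (72, 1), (74, 2), (77, 2), (78, 1)]),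
    ([], [(0, 1), (8, 1), (10, 2), (12, 2), (15, 2), (16, 2), (17, 1), (18, 1), (19, 1), (20, 2), (21, 2), (23, 2), (24, 2), (25, 2), (26, 1), (27, 2), (28, 2), (29, 1), (30, 1), (31, 1), (33, 2), (35, 1), (36, 2), (37, 2), (38, 2), (39, 2), (41, 1), (43, 1), (44, 1), (45, 2), (46, 2), (48, 2), (50, 1), (51, 2), (52, 1), (53, 2), (54, 2), (55, 2), (56, 1), (58, 1), (59, 2), (60, 1), (61, 1), (62, 2), (63, 1), (66, 1), (68, 1), (72, 2), (74, 1), (77, 1), (78, 2)]),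
    ([], [(1, 2)]),
    ([], [(0, 1), (1, 1), (4, 1), (5, 2), (6, 2), (8, 1), (12, 1), (13, 2), (24, 2), (27, 1), (28, 1), (30, 1), (31, 1), (33, 2), (34, 1), (37, 1), (39, 2)]),
    ([], [(0, 1), (3, 2), (4, 1), (5, 2), (8, 1), (12, 1), (13, 2), (24, 2), (29, 2), (31, 2), (33, 1), (34, 1), (39, 2)]),
    ([], [(0, 2), (1, 1), (2, 1), (3, 2), (4, 1), (5, 1), (6, 2), (8, 2), (13, 1), (24, 1), (25, 2), (27, 1), (29, 2), (30, 1), (34, 2), (37, 1)]),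
    ([], [(1, 2), (2, 2), (3, 1), (4, 2), (12, 2), (27, 1), (29, 1), (30, 2), (31, 2), (33, 2), (37, 2), (39, 1)]),
    ([], [(3, 2), (24, 1)]),
    ([], [(3, 2), (6, 1), (25, 1), (27, 1), (29, 2)]),
    ([], [(4, 1), (6, 1), (30, 1)]),
    ([], [(0, 2)]),
    ([], [(4, 2), (5, 2), (8, 1), (13, 2), (24, 2), (29, 2)]),
    ([], [(0, 2), (3, 2), (5, 1), (8, 2), (12, 1), (13, 1), (24, 1), (25, 1), (28, 1), (29, 1), (31, 1), (33, 2), (34, 2), (39, 1)]),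
    ([], [(0, 2), (1, 2), (2, 2), (4, 2), (5, 1), (6, 1), (8, 2), (12, 2), (13, 1), (24, 1), (27, 2), (28, 2), (30, 2), (31, 2), (33, 1), (34, 2), (37, 2), (39, 1)]),
    ([], [(3, 2), (28, 2)]),
    ([], [(1, 1), (2, 1), (3, 2), (4, 1), (6, 1), (12, 1), (28, 1), (29, 1), (30, 1), (31, 1), (33, 2), (37, 1), (39, 2)]),
    ([], [(3, 1), (4, 1), (29, 1)]),
    ([], [(3, 1)]),
    ([], [(3, 1), (6, 2), (27, 2), (29, 1)]),
    ([], [(6, 2)]),
    ([], [(4, 1)])]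

/-- A word from its exponents. -/
def dec : ℕ → ℕ → ℕ → List ℕ
  | 0, _, _ => []
  | k + 1, i, e => List.replicate (e % 3) i ++ dec k (i + 1) (e / 3)

/-- part of an orbit -/
def orb0_0 : List (ℕ × ℕ) := [(27, 0), (30, 177147), (33, 354294), (36, 8991), (39, 118098), (42, 295245), (45, 236196), (48, 810), (51, 59049), (108, 31), (113, 177178), (115, 79467), (117, 65616), (122, 1460), (124, 20418), (126, 6567), (131, 183714), (133, 21876), (189, 59142), (193, 6816), (197, 2215), (198, 4386), (202, 181533), (206, 93), (207, 1470), (211, 178617), (215, 757), (270, 255906), (273, 433053), (276, 78759), (281, 19710), (284, 196857), (287, 374004), (289, 13392), (292, 137808), (295, 2205), (351, 19793), (356, 59073), (358, 66372), (362, 139), (364, 24), (366, 19696), (370, 19797), (372, 8781), (377, 20), (432, 8994), (436, 118101), (440, 295248), (443, 59052), (444, 236199), (448, 813),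 (451, 177150), (455, 354297), (456, 3), (513, 59103), (516, 236250), (519, 864), (523, 65619), (526, 54), (529, 177201), (533, 21879), (536, 6570), (539, 183717), (594, 183712)]

/-- part of an orbit -/
def orb0_1 : List (ℕ × ℕ) := [(599, 21874), (601, 6565), (604, 124663), (606, 744), (611, 177891), (614, 20416), (616, 2202), (618, 179349), (675, 177391), (679, 41554), (683, 244), (685, 72201), (689, 2460), (690, 118342), (695, 236440), (696, 40096), (700, 59293), (758, 196830), (761, 373977), (764, 19683), (767, 137781), (770, 8019), (773, 13365), (776, 433026), (779, 78732), (782, 255879), (839, 40101), (841, 59298), (843, 19714), (848, 41559), (850, 249), (852, 177396), (857, 67799), (859, 7292), (861, 184439), (920, 184449), (921, 67809), (925, 7302), (929, 8760), (930, 786), (934, 19776), (938, 2244), (939, 21898), (943, 6589), (1001, 6579), (1004, 351), (1007, 39393), (1009,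 157491), (1012, 72927), (1015, 4644), (1017, 63), (1020, 98442), (1023, 13878), (1082, 28464), (1084, 13155), (1086, 190302), (1090, 39379), (1092, 216526), (1097, 1005), (1098, 179610), (1103, 13151), (1105, 2463), (1163, 19686), (1164, 196833)]

/-- part of an orbit -/
def orb0_2 : List (ℕ × ℕ) := [(1168, 373980), (1171, 8022), (1175, 13368), (1176, 137784), (1179, 19774), (1183, 78735), (1187, 255882), (1244, 40104), (1247, 59301), (1250, 236448), (1251, 177399), (1254, 41562), (1257, 252), (1261, 19737), (1264, 196884), (1267, 374031), (1325, 6576), (1327, 183723), (1329, 21885), (1332, 41557), (1337, 247), (1339, 177394), (1342, 65625), (1344, 60), (1349, 177207), (1406, 179335), (1407, 356482), (1411, 2188), (1413, 59160), (1417, 6834), (1421, 59779), (1423, 177877), (1427, 355024), (1428, 730), (1487, 324), (1490, 39366), (1493, 216513), (1496, 72900), (1499, 4617), (1502,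 117), (1505, 98415), (1508, 13851), (1511, 59373), (1568, 13124), (1570, 2193), (1572, 179340), (1577, 974), (1579, 59784), (1581, 236931), (1586, 355029), (1588, 735), (1590, 177882), (1649, 20469), (1650, 59320), (1654, 2442), (1658, 6618), (1659, 271), (1663, 177418), (1667, 984), (1668, 178131), (1672, 7309), (1730, 295272), (1733, 9018), (1736, 118125)]

/-- part of an orbit -/
def orb0_3 : List (ℕ × ℕ) := [(1738, 59076), (1741, 236223), (1744, 837), (1746, 354321), (1749, 27), (1752, 177174), (1811, 59062), (1813, 6837), (1815, 2949), (1819, 114), (1821, 13), (1826, 177160), (1827, 178638), (1832, 1487), (1834, 1491), (1892, 13854), (1893, 59376), (1897, 98418), (1900, 327), (1904, 39369), (1905, 216516), (1908, 120), (1912, 982), (1916, 4620), (1973, 179343), (1976, 378), (1979, 2196), (1980, 59787), (1983, 236934), (1986, 4671), (1990, 355032), (1993, 738), (1996, 177885),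 (2054, 59782), (2056, 59307), (2058, 11), (2061, 355027), (2066, 733), (2068, 177880), (2071, 179338), (2073, 19743), (2078, 2191), (2135, 21871), (2136, 6562), (2140, 183709), (2142, 7320), (2146, 124660), (2150, 21), (2152, 20413), (2156, 65611), (2157, 242758), (2216, 178119), (2219, 131220), (2222, 972), (2225, 2430), (2228, 179577), (2231, 72171), (2234, 13122), (2237, 190269), (2240, 28431), (2297, 118104), (2299, 295251), (2301, 8997), (2306, 59055)]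

/-- part of an orbit -/
def orb0_4 : List (ℕ × ℕ) := [(2308, 236202), (2310, 816), (2315, 6), (2317, 177153), (2319, 245), (2378, 255), (2379, 177402), (2383, 41565), (2387, 196887), (2388, 13879), (2392, 19740), (2396, 39394), (2397, 59304), (2401, 352), (2459, 4401), (2462, 181548), (2465, 108), (2467, 178632), (2470, 65880), (2473, 1485), (2475, 2943), (2478, 59157), (2481, 6831), (2540, 59811), (2542, 94), (2544, 4387), (2548, 762), (2550, 177909), (2555, 355056), (2556, 2220), (2561, 179367), (2563, 2216), (2621, 28434), (2622, 13125), (2626, 253), (2629, 131223), (2633, 975), (2634, 178122), (2637, 2433), (2641, 179580), (2645, 72174), (2702, 118107), (2705, 295254), (2708, 13176), (2709, 819), (2712, 59058), (2715, 236205), (2719, 177156), (2722, 354303), (2725, 9), (2783, 236200), (2785, 814), (2787, 59053), (2790, 4), (2795, 177151), (2797, 354298), (2800, 8995), (2802,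 118102), (2807, 295249), (2864, 6591), (2865, 183738), (2869, 21900), (2871, 78733), (2875, 255880)]

/-- part of an orbit -/
def orb0_5 : List (ℕ × ℕ) := [(2879, 124689), (2881, 19684), (2885, 196831), (2886, 373978), (2944, 178605), (2947, 65853), (2950, 1458), (2953, 2916), (2956, 59130), (2959, 6804), (2962, 4374), (2965, 181521), (2968, 81), (3025, 59780), (3027, 78738), (3032, 255885), (3034, 177878), (3036, 19689), (3041, 731), (3043, 13371), (3045, 2189), (3050, 179336), (3106, 236224), (3110, 2199), (3111, 59077), (3115, 177175), (3119, 354322), (3120, 28), (3124, 177888), (3128, 355035), (3129, 741), (3187, 828), (3190, 59067), (3193, 66366), (3195, 7317), (3198, 184464), (3201, 18), (3206, 8775), (3209, 185922), (3212, 19791), (3268, 6594), (3270, 183741), (3275, 21903), (3276, 2245), (3281, 21899), (3283, 6590), (3287, 65643), (3289, 7303), (3291, 20445), (3349, 59133),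 (3353, 6807), (3354, 2919), (3357, 4377), (3361, 181524), (3365, 84), (3368, 1461), (3369, 178608), (3373, 2197), (3430, 59184), (3433, 6858), (3436, 78741), (3440, 19692), (3443, 135), (3446, 4428)]

/-- part of an orbit -/
def orb0_6 : List (ℕ × ℕ) := [(3447, 13374), (3450, 1512), (3453, 8028), (3511, 59064), (3513, 236211), (3518, 825), (3521, 15), (3523, 177162), (3525, 354309), (3528, 196834), (3533, 373981), (3535, 19687), (3592, 273), (3596, 177420), (3597, 41583), (3602, 59374), (3603, 98416), (3607, 13852), (3609, 325), (3613, 39367), (3617, 216514), (3673, 243486), (3676, 21141), (3679, 66339), (3682, 7290), (3685, 184437), (3688, 67797), (3691, 8748), (3694, 185895), (3697, 19764), (3754, 216519), (3756, 330), (3761, 39372), (3763, 65612), (3765, 4623), (3770, 20414), (3772, 183710), (3774, 21872), (3779, 6563), (3835, 21882), (3839, 6573), (3840, 183720), (3844, 867),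 (3848, 59106), (3849, 2206), (3853, 57), (3857, 177204), (3858, 65622), (3916, 2457), (3919, 179604), (3922, 72198), (3924, 13149), (3927, 190296), (3930, 28458), (3935, 178146), (3938, 131247), (3941, 999), (3997, 6619), (3999, 272), (4004, 59325), (4005, 177423), (4010, 41586), (4012, 276), (4016, 2443)]

/-- part of an orbit -/
def orb0_7 : List (ℕ × ℕ) := [(4018, 20470), (4020, 59321), (4078, 177202), (4082, 21144), (4083, 55), (4086, 67800), (4090, 7293), (4094, 184440), (4097, 185898), (4098, 19767), (4102, 8751), (4159, 333), (4162, 39375), (4165, 216522), (4169, 184491), (4172, 4626), (4175, 7344), (4176, 98424), (4179, 19818), (4182, 8802), (4240, 328), (4242, 39370), (4247, 216517), (4250, 983), (4252, 78747), (4254, 121), (4257, 98419), (4262, 19698), (4264, 141), (4321, 179364), (4325, 8992), (4326, 2217), (4331, 236197), (4332, 811), (4336, 59050), (4338, 177148), (4342,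 354295), (4346, 1), (4403, 242757), (4406, 20412), (4409, 65610), (4412, 6561), (4415, 183708), (4418, 21870), (4421, 79461), (4424, 124659), (4427, 301806), (4484, 255881), (4486, 978), (4488, 78734), (4493, 72177), (4495, 19685), (4497, 196832), (4502, 13128), (4504, 190275), (4506, 28437), (4565, 7318), (4566, 8031), (4570, 19), (4574, 59187), (4575, 19792), (4579, 78744), (4583, 4431), (4584, 19695)]

/-- part of an orbit -/
def orb0_8 : List (ℕ × ℕ) := [(4588, 138), (4646, 7308), (4649, 99171), (4652, 118368), (4654, 59319), (4657, 236466), (4660, 40122), (4662, 41580), (4665, 270), (4668, 177417), (4727, 13880), (4729, 19741), (4731, 4650), (4735, 353), (4737, 39395), (4742, 69), (4743, 256), (4748, 6585), (4750, 357), (4808, 20415), (4809, 65613), (4813, 242760), (4816, 6564), (4820, 183711), (4821, 21873), (4824, 78742), (4828, 79464), (4832, 124662), (4889, 178128), (4892,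 124713), (4895, 981), (4896, 2439), (4899, 20466), (4902, 65664), (4906, 6615), (4909, 183762), (4912, 21924), (4970, 976), (4972, 178123), (4974, 7305), (4977, 19779), (4982, 2434), (4984, 789), (4987, 28435), (4989, 13126), (4994, 254), (5051, 2917), (5052, 59131), (5056, 59079), (5058, 354324), (5062, 30), (5066, 177177), (5068, 1459), (5072, 178606), (5073, 65854), (5131, 40095), (5134, 59292), (5137, 236439), (5140, 177390), (5143, 41553), (5146, 243), (5149, 118341), (5152, 295488), (5155, 99144)]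

/-- part of an orbit -/
def orb0_9 : List (ℕ × ℕ) := [(5212, 2922), (5214, 59136), (5219, 6810), (5221, 326), (5223, 87), (5228, 4380), (5230, 1464), (5232, 178611), (5237, 274), (5293, 190297), (5297, 4629), (5298, 13150), (5302, 1000), (5306, 98427), (5307, 19821), (5311, 39378), (5315, 216525), (5316, 336), (5374, 355050), (5377, 756), (5380, 177903), (5382, 179361), (5385, 356508), (5388, 2214), (5393, 59805), (5396, 236952), (5399, 414099), (5455, 29), (5457, 177176), (5462, 33), (5463, 177889), (5468, 9024), (5470, 742), (5474, 2200), (5476, 59078), (5478, 59082), (5536, 118344), (5540, 295491), (5541, 99147), (5544, 236442), (5548, 40098), (5552, 59295), (5555, 41556), (5556, 246), (5560, 177393), (5617, 59139), (5620, 6813), (5623, 297), (5627, 181530), (5630, 90), (5633, 4383), (5634, 65862), (5637, 1467), (5640, 178614), (5698, 85), (5700, 4378), (5705, 181525), (5708,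 1462), (5710, 2445), (5712, 2198), (5715, 6808), (5720, 2920), (5722, 59134), (5779, 184438)]

/-- part of an orbit -/
def orb0_10 : List (ℕ × ℕ) := [(5783, 67798), (5784, 7291), (5789, 19765), (5790, 19713), (5794, 196860), (5796, 137811), (5800, 2208), (5804, 66340), (5860, 177876), (5863, 355023), (5866, 729), (5869, 2187), (5872, 179334), (5875, 356481), (5878, 414072), (5881, 59778), (5884, 236925), (5941, 19770), (5943, 8754), (5948, 59051), (5950, 354296), (5952, 2), (5957, 177149), (5959, 2218), (5961, 67803), (5966, 7296), (6022, 1486), (6026, 118110), (6027, 295257), (6031, 59061), (6035, 236208), (6036, 822), (6040, 177159), (6044, 109), (6045, 12), (6103, 183735), (6106, 21897), (6109, 6588), (6111, 124686), (6114, 1476), (6117, 79488), (6122, 20439), (6125, 65637), (6128, 242784), (6184, 868), (6186, 78765), (6191, 2207), (6192, 177205), (6197, 19716), (6199, 58), (6203,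 183721), (6205, 21883), (6207, 6574), (6265, 356484), (6269, 2190), (6270, 179337), (6273, 59781), (6277, 236928), (6281, 10), (6284, 177879), (6285, 355026), (6289, 732), (6346, 19773), (6349, 8757)]

/-- part of an orbit -/
def orb0_11 : List (ℕ × ℕ) := [(6352, 783), (6356, 2241), (6359, 179388), (6362, 21150), (6363, 67806), (6366, 7299), (6369, 184446), (6427, 67801), (6429, 96), (6434, 4389), (6437, 19768), (6439, 8752), (6441, 185899), (6444, 56), (6449, 59145), (6451, 6819), (6508, 72172), (6512, 2431), (6513, 179578), (6518, 13123), (6519, 39396), (6523, 6582), (6525, 131221), (6529, 973), (6533, 178120)]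

/-- part of an orbit -/
def orb1_0 : List (ℕ × ℕ) := [(81, 0), (90, 67392), (99, 212139), (324, 60854), (339, 146552), (345, 119669), (567, 170593), (579, 496456), (591, 304000), (816, 372276), (825, 219186), (834, 26730), (1059, 256388), (1065, 79007), (1071, 5297), (1302, 377710), (1305, 59542), (1317, 236482), (1545, 245187), (1554, 111780), (1563, 126882), (1788, 238649), (1794, 105242), (1800, 61268), (2031, 431089), (2034, 277999), (2046, 85543), (2274, 460728), (2283, 305046), (2292, 62694), (2517, 3029), (2523, 401063), (2529, 17285), (2760, 145402), (2763, 198295), (2775, 12400), (3000, 266571), (3009, 74115), (3018, 296055), (3243, 413537), (3249, 10274), (3264, 94235), (3486, 83923), (3498, 422908), (3501, 157876), (3729, 225423), (3738, 32967), (3747, 358830), (3972, 301109), (3978, 167702), (3993, 243635), (4215, 301975), (4227, 132928), (4230, 3076), (4461, 197154),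 (4470, 11259), (4479, 166941), (4704, 101354), (4710, 240683), (4716, 107276), (4947, 87604), (4950, 258802), (4962, 66346), (5187, 335826)]

/-- part of an orbit -/
def orb1_1 : List (ℕ × ℕ) := [(5196, 179415), (5205, 46008), (5430, 9752), (5436, 193055), (5451, 39965), (5673, 808), (5685, 306268), (5688, 182743), (5916, 7533), (5925, 237816), (5934, 199989), (6159, 212900), (6165, 761), (6180, 178142), (6402, 217492), (6414, 31597), (6417, 370582)]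

/-- part of an orbit -/
def orb2_0 : List (ℕ × ℕ) := [(243, 0), (990, 413865), (1719, 459585), (2448, 259848), (3168, 8136), (3897, 380448), (4635, 266004), (5355, 103959), (6084, 276525)]

/-- Orbits inside the subgroup. -/
def orbits : List (ℕ × List (ℕ × List ℕ)) := [(27, orb0_0 ++ orb0_1 ++ orb0_2 ++ orb0_3 ++ orb0_4 ++ orb0_5 ++ orb0_6 ++ orb0_7 ++ orb0_8 ++ orb0_9 ++ orb0_10 ++ orb0_11), (81, orb1_0 ++ orb1_1), (243, orb2_0)].map fun t => (t.1, t.2.map fun e => (e.1, dec 12 0 e.2))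

theorem checks : checksU 3 8 mats cert sw gw orbits = true := by decide +kernel

theorem lin_ok : cert.linOK = true :=
  CfsgLib.Spor.SchurCert.Packed.linOK_of_linP cert (by decide +kernel)

end CfsgLib.Lie.MultExc.OMinusEightThree.P3
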