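import Cfsg.Agent.Lib.Lie.MultExc.MatCert.OmegaElts

/-!
Isometries of the form of minus type in dimension eight over the field of order 3, with coded columns.
-/

set_option autoImplicit false
set_option maxRecDepth 100000
set_option maxHeartbeats 0

namespace CfsgLib.Lie.MultExc.OMinusEightThree

open CfsgLib.Lie.MultExc.MatCert

/-- The form on codes. -/
def qc (x : ℕ) : ℕ :=
  (((List.range 3).foldr (fun i acc => dg 3 x i * dg 3 x (i + 3) + acc) 0) + dg 3 x 6 * dg 3 x 6 + dg 3 x 7 * dg 3 x 7) % 3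

/-- The elements, each with two factors of odd order. -/
def entries : List (List ℕ × (List ℕ × ℕ) × (List ℕ × ℕ)) := [
    ([1, 4, 15, 4346, 1790, 244, 736, 2188], ([1, 3, 9, 27, 81, 243, 729, 2187], 1), ([1, 4, 15, 4346, 1790, 244, 736, 2188], 9)),
    ([1, 4, 12, 456, 3487, 5359, 745, 2206], ([1, 3, 9, 27, 81, 243, 729, 2187], 1), ([1, 4, 12, 456, 3487, 5359, 745, 2206], 9)),
    ([1, 3, 10, 2725, 3748, 3897, 755, 2201], ([1, 3, 9, 27, 81, 243, 729, 2187], 1), ([1, 3, 10, 2725, 3748, 3897, 755, 2201], 9)),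
    ([1, 3, 11, 1749, 4471, 1725, 747, 2193], ([1, 3, 9, 27, 81, 243, 729, 2187], 1), ([1, 3, 11, 1749, 4471, 1725, 747, 2193], 9)),
    ([1, 3, 9, 2968, 5197, 250, 733, 2194], ([1, 3, 9, 27, 81, 243, 729, 2187], 1), ([1, 3, 9, 2968, 5197, 250, 733, 2194], 3)),
    ([1, 3, 9, 5146, 1545, 2449, 736, 2198], ([1, 3, 9, 27, 81, 243, 729, 2187], 1), ([1, 3, 9, 5146, 1545, 2449, 736, 2198], 3)),
    ([1, 3, 9, 5866, 4472, 249, 731, 2195], ([1, 3, 9, 27, 81, 243, 729, 2187], 1), ([1, 3, 9, 5866, 4472, 249, 731, 2195], 3)),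
    ([1, 3, 9, 5869, 81, 245, 731, 2189], ([1, 3, 9, 27, 81, 243, 729, 2187], 1), ([1, 3, 9, 5869, 81, 245, 731, 2189], 3)),
    ([1, 3, 9, 4412, 81, 245, 729, 2189], ([1, 3, 9, 27, 81, 243, 729, 2187], 1), ([1, 3, 9, 4412, 81, 245, 729, 2189], 3)),
    ([1, 3, 9, 764, 100, 246, 730, 2187], ([1, 3, 9, 27, 81, 243, 729, 2187], 1), ([1, 3, 9, 764, 100, 246, 730, 2187], 3)),
    ([1, 3, 9, 51, 82, 244, 729, 2187], ([1, 3, 9, 27, 81, 243, 729, 2187], 1), ([1, 3, 9, 51, 82, 244, 729, 2187], 3)),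
    ([1, 3, 9, 30, 83, 243, 729, 2187], ([1, 3, 9, 27, 81, 243, 729, 2187], 1), ([1, 3, 9, 30, 83, 243, 729, 2187], 3)),
    ([7, 3, 9, 27, 108, 243, 729, 2187], ([1, 3, 9, 27, 81, 243, 729, 2187], 1), ([7, 3, 9, 27, 108, 243, 729, 2187], 3)),
    ([19, 3, 9, 27, 81, 270, 729, 2187], ([1, 3, 9, 27, 81, 243, 729, 2187], 1), ([19, 3, 9, 27, 81, 270, 729, 2187], 3)),
    ([487, 3, 36, 27, 81, 243, 729, 2187], ([1, 3, 9, 27, 81, 243, 729, 2187], 1), ([487, 3, 36, 27, 81, 243, 729, 2187], 3)),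
    ([1, 21, 9, 27, 81, 324, 729, 2187], ([1, 3, 9, 27, 81, 243, 729, 2187], 1), ([1, 21, 9, 27, 81, 324, 729, 2187], 3)),
    ([1, 489, 90, 27, 81, 243, 729, 2187], ([1, 3, 9, 27, 81, 243, 729, 2187], 1), ([1, 489, 90, 27, 81, 243, 729, 2187], 3))]

/-- The matrices. -/
def mats : List (List ℕ) := entries.map Prod.fst

theorem entries_ok : entries.all (entryOK 3 8 qc) = true := by decide +kernel

end CfsgLib.Lie.MultExc.OMinusEightThree
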